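import Mathlib.LinearAlgebra.Isomorphisms
import Mathlib.LinearAlgebra.Dimension.RankNullity
import Mathlib.LinearAlgebra.Dimension.DivisionRing
import Mathlib.LinearAlgebra.FiniteDimensional.Lemmas
import Mathlib.RingTheory.Finiteness.Cardinality
import Mathlib.Tactic.Linarith

set_option autoImplicit false

open Submodule

namespace Groth.Agent.FunFldLib

variable {k V W : Type*} [Field k] [AddCommGroup V] [Module k V] [AddCommGroup W] [Module k W]

/-- `A ≤ B` and `dim B/A = n`. -/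
def Rel (A B : Submodule k V) (n : ℤ) : Prop :=
  A ≤ B ∧ Module.Finite k (↥B ⧸ A.comap B.subtype) ∧
    (Module.finrank k (↥B ⧸ A.comap B.subtype) : ℤ) = n

namespace Rel

variable {A B C U : Submodule k V} {n m : ℤ}

theorem nonneg (h : Rel A B n) : 0 ≤ n := h.2.2 ▸ Int.natCast_nonneg _

theorem unique (h : Rel A B n) (h' : Rel A B m) : n = m := h.2.2.symm.trans h'.2.2

theorem of_ker {φ : ↥B →ₗ[k] W} (hAB : A ≤ B) (hφ : Function.Surjective φ)
    (hker : LinearMap.ker φ = A.comap B.subtype) [Module.Finite k W] :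
    Rel A B (Module.finrank k W) := by
  have e : (↥B ⧸ A.comap B.subtype) ≃ₗ[k] W :=
    (Submodule.quotEquivOfEq _ _ hker.symm).trans (φ.quotKerEquivOfSurjective hφ)
  exact ⟨hAB, Module.Finite.equiv e.symm, by rw [e.finrank_eq]⟩

theorem refl : Rel A A 0 := by
  have h : A.comap A.subtype = ⊤ := eq_top_iff.2 fun x _ => x.2
  have : Subsingleton (↥A ⧸ A.comap A.subtype) := Submodule.Quotient.subsingleton_iff.2 h
  exact ⟨le_rfl, inferInstance, by simp [Module.finrank_zero_of_subsingleton]⟩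

theorem eq_of_zero (h : Rel A B 0) : A = B := by
  obtain ⟨h1, h2, h3⟩ := h
  have : Subsingleton (↥B ⧸ A.comap B.subtype) :=
    Module.finrank_zero_iff.1 (by exact_mod_cast h3)
  refine le_antisymm h1 fun x hx => ?_
  have h4 := Submodule.Quotient.subsingleton_iff.1 this
  have : (⟨x, hx⟩ : ↥B) ∈ A.comap B.subtype := by rw [h4]; trivial
  exact this

theorem bot_iff : Rel (⊥ : Submodule k V) B n ↔ FiniteDimensional k ↥B ∧ (Module.finrank k ↥B : ℤ) = n := by
  have hbot : (⊥ : Submodule k V).comap B.subtype = ⊥ := Submodule.comap_bot _ |>.trans B.ker_subtype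
  let e : (↥B ⧸ (⊥ : Submodule k V).comap B.subtype) ≃ₗ[k] ↥B :=
    Submodule.quotEquivOfEqBot _ hbot
  constructor
  · rintro ⟨-, h1, h2⟩
    exact ⟨Module.Finite.equiv e, by rw [← e.finrank_eq, h2]⟩
  · rintro ⟨h1, h2⟩
    exact ⟨bot_le, Module.Finite.equiv e.symm, by rw [e.finrank_eq, h2]⟩

theorem exists_split (h : Rel A C n) (hAB : A ≤ B) (hBC : B ≤ C) :
    ∃ p q : ℤ, Rel A B p ∧ Rel B C q ∧ n = p + q := by
  obtain ⟨-, h2, h3⟩ := h
  let f : (↥B ⧸ A.comap B.subtype) →ₗ[k] (↥C ⧸ A.comap C.subtype) :=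
    Submodule.mapQ _ _ (Submodule.inclusion hBC) fun x hx => hx
  have hf : Function.Injective f := by
    rw [injective_iff_map_eq_zero]
    intro z
    induction z using Submodule.Quotient.induction_on with
    | _ x =>
      intro hx
      rw [Submodule.Quotient.mk_eq_zero]
      exact ((Submodule.Quotient.mk_eq_zero _).1 hx :)
  let g : (↥C ⧸ A.comap C.subtype) →ₗ[k] (↥C ⧸ B.comap C.subtype) :=
    Submodule.mapQ _ _ LinearMap.id fun x hx => hAB hx
  have hg : Function.Surjective g := fun z => by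
    induction z using Submodule.Quotient.induction_on with
    | _ x => exact ⟨Submodule.Quotient.mk x, rfl⟩
  have hfg : LinearMap.ker g = LinearMap.range f := by
    ext z
    induction z using Submodule.Quotient.induction_on with
    | _ x =>
      constructor
      · intro hx
        have hx' : (x : V) ∈ B := ((Submodule.Quotient.mk_eq_zero (B.comap C.subtype)).1 hx :)
        exact ⟨Submodule.Quotient.mk ⟨x, hx'⟩, rfl⟩
      · rintro ⟨y, hy⟩
        rw [← hy]
        induction y using Submodule.Quotient.induction_on with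
        | _ y => exact (Submodule.Quotient.mk_eq_zero _).2 y.2
  have fB : Module.Finite k (↥B ⧸ A.comap B.subtype) := Module.Finite.of_injective f hf
  have fC : Module.Finite k (↥C ⧸ B.comap C.subtype) := Module.Finite.of_surjective g hg
  refine ⟨_, _, ⟨hAB, fB, rfl⟩, ⟨hBC, fC, rfl⟩, ?_⟩
  have h4 := LinearMap.finrank_range_add_finrank_ker g
  rw [LinearMap.range_eq_top.2 hg, finrank_top, hfg, LinearMap.finrank_range_of_inj hf] at h4
  rw [← h3]
  omega

theorem finite_mid (hAB : A ≤ B) (hBC : B ≤ C) (h1 : Module.Finite k (↥B ⧸ A.comap B.subtype))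
    (h2 : Module.Finite k (↥C ⧸ B.comap C.subtype)) :
    Module.Finite k (↥C ⧸ A.comap C.subtype) := by
  let f : (↥B ⧸ A.comap B.subtype) →ₗ[k] (↥C ⧸ A.comap C.subtype) :=
    Submodule.mapQ _ _ (Submodule.inclusion hBC) fun x hx => hx
  let g : (↥C ⧸ A.comap C.subtype) →ₗ[k] (↥C ⧸ B.comap C.subtype) :=
    Submodule.mapQ _ _ LinearMap.id fun x hx => hAB hx
  have hg : LinearMap.ker g ≤ LinearMap.range f := fun z => by
    induction z using Submodule.Quotient.induction_on with
    | _ x =>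
      intro hx
      have hx' : (x : V) ∈ B := ((Submodule.Quotient.mk_eq_zero (B.comap C.subtype)).1 hx :)
      exact ⟨Submodule.Quotient.mk ⟨x, hx'⟩, rfl⟩
  have : Module.Finite k (LinearMap.ker g) := Submodule.finiteDimensional_of_le hg
  have : Module.Finite k ((↥C ⧸ A.comap C.subtype) ⧸ LinearMap.ker g) :=
    Module.Finite.equiv g.quotKerEquivRange.symm
  exact Module.Finite.of_submodule_quotient (LinearMap.ker g)

theorem trans (h : Rel A B n) (h' : Rel B C m) : Rel A C (n + m) := by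
  have hfin := finite_mid h.1 h'.1 h.2.1 h'.2.1
  obtain ⟨p, q, hp, hq, e⟩ := exists_split (A := A) (B := B) (C := C) ⟨h.1.trans h'.1, hfin, rfl⟩ h.1 h'.1
  rw [hp.unique h, hq.unique h'] at e
  exact ⟨h.1.trans h'.1, hfin, e⟩

theorem inf_sup_iff (p q : Submodule k V) : Rel (p ⊓ q) p n ↔ Rel q (p ⊔ q) n := by
  have h : (p ⊓ q).comap p.subtype = p.comap p.subtype ⊓ q.comap p.subtype := Submodule.comap_inf _ _ _
  let e := (Submodule.quotEquivOfEq _ _ h).trans (LinearMap.quotientInfEquivSupQuotient p q)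
  constructor
  · rintro ⟨-, h1, h2⟩
    exact ⟨le_sup_right, Module.Finite.equiv e, by rw [← e.finrank_eq, h2]⟩
  · rintro ⟨-, h1, h2⟩
    exact ⟨inf_le_left, Module.Finite.equiv e.symm, by rw [e.finrank_eq, h2]⟩

theorem modular (h : Rel A B n) (U : Submodule k V) :
    ∃ p q : ℤ, Rel (A ⊓ U) (B ⊓ U) p ∧ Rel (A ⊔ U) (B ⊔ U) q ∧ n = p + q := by
  have hM : A ⊔ B ⊓ U ≤ B := sup_le h.1 inf_le_left
  obtain ⟨p, q, hp, hq, e⟩ := exists_split h (le_sup_left : A ≤ A ⊔ B ⊓ U) hM
  refine ⟨p, q, ?_, ?_, e⟩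
  · have h1 : Rel A ((B ⊓ U) ⊔ A) p := by rwa [sup_comm]
    have h2 := (inf_sup_iff (B ⊓ U) A).2 h1
    rwa [show B ⊓ U ⊓ A = A ⊓ U by rw [inf_comm (B ⊓ U) A, ← inf_assoc, inf_eq_left.2 h.1]] at h2
  · have h1 : Rel (B ⊓ (A ⊔ U)) B q := by
      rwa [inf_comm, sup_inf_assoc_of_le U h.1, inf_comm U B]
    have h2 := (inf_sup_iff B (A ⊔ U)).1 h1
    rwa [show B ⊔ (A ⊔ U) = B ⊔ U by rw [← sup_assoc, sup_eq_left.2 h.1]] at h2

theorem map_iff (f : V →ₗ[k] W) (hf : Function.Injective f) :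
    Rel (A.map f) (B.map f) n ↔ Rel A B n := by
  let e0 : ↥B ≃ₗ[k] ↥(B.map f) := Submodule.equivMapOfInjective f hf B
  have he : (A.comap B.subtype).map (e0 : ↥B →ₗ[k] ↥(B.map f)) = (A.map f).comap (B.map f).subtype := by
    ext x
    constructor
    · rintro ⟨y, hy, rfl⟩
      exact ⟨y, hy, (Submodule.coe_equivMapOfInjective_apply f hf B y).symm⟩
    · rintro ⟨a, ha, hx⟩
      obtain ⟨y, rfl⟩ := e0.surjective x
      refine ⟨y, ?_, rfl⟩
      have : f a = f y := hx.trans (Submodule.coe_equivMapOfInjective_apply f hf B y)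
      show (y : V) ∈ A
      rwa [← hf this]
  let e := Submodule.Quotient.equiv _ _ e0 he
  constructor
  · rintro ⟨h0, h1, h2⟩
    refine ⟨(Submodule.map_le_map_iff_of_injective hf A B).1 h0, Module.Finite.equiv e.symm, ?_⟩
    rw [e.finrank_eq, h2]
  · rintro ⟨h0, h1, h2⟩
    exact ⟨Submodule.map_mono h0, Module.Finite.equiv e, by rw [← e.finrank_eq, h2]⟩

theorem finrank_sub (h : Rel A B n) [FiniteDimensional k ↥A] :
    FiniteDimensional k ↥B ∧ (Module.finrank k ↥B : ℤ) = Module.finrank k ↥A + n :=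
  bot_iff.1 ((bot_iff.2 ⟨inferInstance, rfl⟩).trans h)

end Rel

end Groth.Agent.FunFldLib
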