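import Groth.Agent.FunFldLib.Place
import Groth.Agent.FunFldLib.Rel
import Mathlib.RingTheory.Valuation.ValuationSubring

set_option autoImplicit false

open WithZero Finset

namespace Groth.Agent.FunFldLib

open FunFld

variable {k K : Type*} [Field k] [Field K] [Algebra k K]

theorem v_smul_le (P : Place k K) (c : k) (x : K) {b : WithZero (Multiplicative ℤ)} (h : P.1 x ≤ b) :
    P.1 (c • x) ≤ b := (smul_le P c x).trans h

theorem mem_AD {D : Divisor k K} {a : Place k K → K} :
    a ∈ AD D ↔ ∀ P, P.1 (a P) ≤ exp (D P) := Iff.rfl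

theorem mem_L {D : Divisor k K} {x : K} : x ∈ FunFld.L D ↔ ∀ P : Place k K, P.1 x ≤ exp (D P) := Iff.rfl

theorem mem_adele {a : Place k K → K} : a ∈ adele k K ↔ {P : Place k K | ¬ P.1 (a P) ≤ 1}.Finite :=
  Filter.eventually_cofinite

theorem AD_mono {D E : Divisor k K} (h : D ≤ E) : AD D ≤ AD E :=
  fun _ ha P => (ha P).trans (exp_le_exp.2 (h P))

theorem L_mono {D E : Divisor k K} (h : D ≤ E) : FunFld.L D ≤ FunFld.L E :=
  fun _ ha P => (ha P).trans (exp_le_exp.2 (h P))

theorem AD_le_adele (D : Divisor k K) : AD D ≤ adele k K := fun a ha => by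
  rw [mem_adele]
  refine D.support.finite_toSet.subset fun P hP => ?_
  rw [Finset.mem_coe, Finsupp.mem_support_iff]
  intro h
  exact hP (by simpa [h] using ha P)

theorem adele_exists_AD {a : Place k K → K} (ha : a ∈ adele k K) : ∃ D : Divisor k K, a ∈ AD D := by
  classical
  rw [mem_adele] at ha
  refine ⟨Finsupp.onFinset ha.toFinset (fun P => if P.1 (a P) ≤ 1 then 0 else log (P.1 (a P)))
    (fun P hP => by
      rw [Set.Finite.mem_toFinset]
      intro h
      exact hP (if_pos h)), fun P => ?_⟩
  rw [Finsupp.onFinset_apply]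
  split_ifs with h
  · simpa using h
  · rw [exp_log fun h0 => h (by rw [h0]; exact zero_le)]

theorem AD_sup (D₁ D₂ : Divisor k K) : AD (D₁ ⊔ D₂) = AD D₁ ⊔ AD D₂ := by
  classical
  refine le_antisymm (fun a ha => ?_) (sup_le (AD_mono le_sup_left) (AD_mono le_sup_right))
  rw [Submodule.mem_sup]
  refine ⟨fun P => if D₂ P ≤ D₁ P then a P else 0, fun P => ?_,
    fun P => if D₂ P ≤ D₁ P then 0 else a P, fun P => ?_, ?_⟩
  · have := ha P
    rw [Finsupp.sup_apply] at this
    dsimp only
    split_ifs with h
    · rwa [sup_eq_left.2 h] at this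
    · simp
  · have := ha P
    rw [Finsupp.sup_apply] at this
    dsimp only
    split_ifs with h
    · simp
    · rwa [sup_eq_right.2 (le_of_not_ge h)] at this
  · funext P
    simp only [Pi.add_apply]
    split_ifs <;> simp

theorem L_map_diag (D : Divisor k K) :
    (FunFld.L D).map (diag k K) = AD D ⊓ LinearMap.range (diag k K) := by
  ext a
  constructor
  · rintro ⟨x, hx, rfl⟩
    exact ⟨hx, ⟨x, rfl⟩⟩
  · rintro ⟨ha, x, rfl⟩
    exact ⟨x, ha, rfl⟩

theorem deg_add (D E : Divisor k K) : (D + E).deg = D.deg + E.deg :=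
  Finsupp.sum_add_index' (fun _ => zero_mul _) (fun _ _ _ => add_mul _ _ _)

theorem deg_zero : (0 : Divisor k K).deg = 0 := Finsupp.sum_zero_index

theorem deg_neg (D : Divisor k K) : (-D).deg = -D.deg := by
  have := deg_add D (-D)
  rw [add_neg_cancel, deg_zero] at this
  linarith

theorem deg_sub (D E : Divisor k K) : (D - E).deg = D.deg - E.deg := by
  rw [sub_eq_add_neg, deg_add, deg_neg]; ring

theorem deg_single (P : Place k K) (n : ℤ) :
    Divisor.deg (Finsupp.single P n : Divisor k K) = n * P.deg :=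
  Finsupp.sum_single_index (zero_mul _)

/-- multiply the `P`-component by `t` and take the residue -/
noncomputable def stepMap (D : Divisor k K) (P : Place k K) (t : K) (ht : P.1 t = exp (-(D P + 1))) :
    ↥(AD (D + Finsupp.single P 1)) →ₗ[k] IsLocalRing.ResidueField P.O where
  toFun a := IsLocalRing.residue P.O ⟨a.1 P * t, by
    show P.1 (a.1 P * t) ≤ 1
    have h := a.2 P
    rw [Finsupp.add_apply, Finsupp.single_eq_same] at h
    rw [map_mul, ht]
    exact (mul_le_mul_left h _).trans_eq (by rw [← exp_add, add_neg_cancel, exp_zero])⟩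
  map_add' a b := by
    rw [← map_add]
    exact congrArg _ (Subtype.ext (by simp [add_mul]))
  map_smul' c a := by
    simp only [RingHom.id_apply]
    refine Eq.trans ?_ (Algebra.smul_def c _).symm
    show _ = IsLocalRing.residue P.O (algebraMap k P.O c) * _
    refine Eq.trans (congrArg (IsLocalRing.residue P.O) (Subtype.ext ?_)) (map_mul _ _ _)
    show (c • a.1) P * t = algebraMap k K c * (a.1 P * t)
    rw [Pi.smul_apply, Algebra.smul_def, mul_assoc]

theorem stepMap_surjective (D : Divisor k K) (P : Place k K) (t : K) (ht : P.1 t = exp (-(D P + 1))) :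
    Function.Surjective (stepMap D P t ht) := by
  classical
  intro z
  obtain ⟨⟨o, ho⟩, rfl⟩ := IsLocalRing.residue_surjective z
  have t0 : t ≠ 0 := fun h => by rw [h, map_zero] at ht; exact exp_ne_zero ht.symm
  have hmem : (Pi.single P (o / t) : Place k K → K) ∈ AD (D + Finsupp.single P 1) := by
    intro Q
    rcases eq_or_ne Q P with rfl | hQ
    · rw [Pi.single_eq_same, map_div₀, ht, div_le_iff₀ (zero_lt_iff.2 exp_ne_zero), ← exp_add,
        Finsupp.add_apply, Finsupp.single_eq_same, add_neg_cancel]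
      simp only [exp_zero]
      exact ho
    · rw [Pi.single_eq_of_ne hQ]
      simp
  refine ⟨⟨_, hmem⟩, ?_⟩
  refine congrArg (IsLocalRing.residue P.O) (Subtype.ext ?_)
  show (Pi.single P (o / t) : Place k K → K) P * t = o
  rw [Pi.single_eq_same, div_mul_cancel₀ _ t0]

theorem residue_eq_zero {P : Place k K} (o : P.O) : IsLocalRing.residue P.O o = 0 ↔ P.1 (o : K) < 1 := by
  rw [IsLocalRing.residue_eq_zero_iff]
  exact Valuation.mem_maximalIdeal_iff K P.1

theorem stepMap_ker (D : Divisor k K) (P : Place k K) (t : K) (ht : P.1 t = exp (-(D P + 1))) :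
    LinearMap.ker (stepMap D P t ht) = (AD D).comap (AD (D + Finsupp.single P 1)).subtype := by
  classical
  ext a
  have hP : P.1 (a.1 P * t) < 1 ↔ P.1 (a.1 P) ≤ exp (D P) := by
    rw [map_mul, ht, exp_neg, ← div_eq_mul_inv, div_lt_one₀ (zero_lt_iff.2 exp_ne_zero), lt_exp_iff]
    simp
  rw [LinearMap.mem_ker, Submodule.mem_comap]
  show IsLocalRing.residue P.O _ = 0 ↔ a.1 ∈ AD D
  rw [residue_eq_zero, hP]
  constructor
  · intro h Q
    rcases eq_or_ne Q P with rfl | hQ
    · exact h
    · simpa [Finsupp.single_eq_of_ne hQ] using a.2 Q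
  · intro h; exact h P

theorem rel_step (D : Divisor k K) (P : Place k K)
    [FiniteDimensional k (IsLocalRing.ResidueField P.O)] :
    Rel (AD D) (AD (D + Finsupp.single P 1)) (P.deg : ℤ) := by
  obtain ⟨t, -, ht⟩ := exists_exp P (-(D P + 1))
  exact Rel.of_ker (AD_mono (le_add_of_nonneg_right (Finsupp.single_nonneg.2 zero_le_one)))
    (stepMap_surjective D P t ht) (stepMap_ker D P t ht)

theorem rel_AD (hfin : ∀ P : Place k K, FiniteDimensional k (IsLocalRing.ResidueField P.O))
    (D E : Divisor k K) (h : D ≤ E) : Rel (AD D) (AD E) (E.deg - D.deg) := by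
  classical
  obtain ⟨N, hN⟩ : ∃ N : ℕ, (E - D).sum (fun _ n => n.toNat) = N := ⟨_, rfl⟩
  induction N generalizing E with
  | zero =>
    have : E - D = 0 := by
      ext P
      by_contra hne
      rw [Finsupp.coe_zero, Pi.zero_apply] at hne
      have hmem : P ∈ (E - D).support := Finsupp.mem_support_iff.2 hne
      have h0 := (Finset.sum_eq_zero_iff.1 hN) P hmem
      have := h P
      simp only [Finsupp.sub_apply] at hne h0
      omega
    rw [sub_eq_zero] at this
    subst this
    simpa using Rel.refl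
  | succ N ih =>
    obtain ⟨P, hP⟩ : ∃ P, D P < E P := by
      by_contra hc
      push Not at hc
      have : E = D := Finsupp.ext fun P => le_antisymm (hc P) (h P)
      rw [this, sub_self, Finsupp.sum_zero_index] at hN
      omega
    have := hfin P
    set E' := E - Finsupp.single P 1 with hE'
    have hE : E = E' + Finsupp.single P 1 := (sub_add_cancel _ _).symm
    have hle : D ≤ E' := fun Q => by
      rcases eq_or_ne Q P with rfl | hQ
      · simp [hE']; omega
      · simpa [hE', Finsupp.single_eq_of_ne hQ] using h Q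
    have hsum : (E' - D).sum (fun _ n => n.toNat) = N := by
      have hf : ∀ F : Divisor k K, (∀ Q, 0 ≤ F Q) →
          (F.sum fun _ n => (n.toNat : ℤ)) = F.sum fun _ n => n := fun F hF =>
        Finset.sum_congr rfl fun Q _ => Int.toNat_of_nonneg (hF Q)
      have h1 := hf (E - D) fun Q => by simpa using h Q
      have h2 := hf (E' - D) fun Q => by simpa using hle Q
      have h3 : ((E - D).sum fun _ n => n) = ((E' - D).sum fun _ n => n) + 1 := by
        rw [show E - D = (E' - D) + Finsupp.single P 1 by rw [hE]; abel,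
          Finsupp.sum_add_index' (fun _ => rfl) (fun _ _ _ => rfl), Finsupp.sum_single_index rfl]
      have h4 : ((N + 1 : ℕ) : ℤ) = (E - D).sum fun _ n => (n.toNat : ℤ) := by
        rw [← hN]; exact Nat.cast_sum _ _
      have h5 : (((E' - D).sum fun _ n => n.toNat : ℕ) : ℤ) = (E' - D).sum fun _ n => (n.toNat : ℤ) :=
        Nat.cast_sum _ _
      omega
    have r := (ih E' hle hsum).trans (rel_step E' P)
    rw [← hE] at r
    convert r using 1
    rw [hE, deg_add, deg_single]; ring

theorem support_le_card (D : Divisor k K) (hD : 0 ≤ D) (hpos : ∀ P : Place k K, 0 < P.deg) :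
    (D.support.card : ℤ) ≤ D.deg := by
  rw [Divisor.deg, Finsupp.sum, Finset.card_eq_sum_ones, Nat.cast_sum]
  refine Finset.sum_le_sum fun P hP => ?_
  have h1 : 0 ≤ D P := hD P
  have h2 : D P ≠ 0 := Finsupp.mem_support_iff.1 hP
  have h3 : (1 : ℤ) ≤ P.deg := by exact_mod_cast hpos P
  push_cast
  nlinarith [lt_of_le_of_ne h1 h2.symm]

theorem deg_mono_aux (hpos : ∀ P : Place k K, 0 < P.deg) {D E : Divisor k K} (h : D ≤ E) :
    D.deg ≤ E.deg ∧ (D.deg = E.deg → D = E) := by
  have hd : 0 ≤ E - D := sub_nonneg.2 h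
  have := support_le_card (E - D) hd hpos
  rw [deg_sub] at this
  refine ⟨by have := Int.natCast_nonneg (E - D).support.card; linarith, fun he => ?_⟩
  have h0 : (E - D).support.card = 0 := by omega
  rw [Finset.card_eq_zero, Finsupp.support_eq_empty, sub_eq_zero] at h0
  exact h0.symm

end Groth.Agent.FunFldLib
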