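import Groth.Agent.FunFldLib.Order
import Groth.Prelude.Def_W4bk4goldsch23Ext

set_option autoImplicit false

open WithZero Finset Polynomial
open scoped IntermediateField

namespace Groth.Agent.FunFldLib

open FunFld

variable {k K K' : Type*} [Field k] [Field K] [Field K'] [Algebra k K] [Algebra K K'] [Algebra k K']
  [IsScalarTower k K K'] [FiniteDimensional K K']

omit [FiniteDimensional K K'] in
theorem transcendental_map {z : K} (hz : Transcendental k z) : Transcendental k (algebraMap K K' z) :=
  fun h => hz ((isAlgebraic_algebraMap_iff (algebraMap K K').injective).1 h)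

theorem degX_map {z : K} (hfin : FiniteDimensional (IntermediateField.adjoin k ({z} : Set K)) K) :
    FiniteDimensional (IntermediateField.adjoin k ({algebraMap K K' z} : Set K')) K' ∧
      degX k (algebraMap K K' z) = Module.finrank K K' * degX k z := by
  set E := IntermediateField.adjoin k ({z} : Set K)
  have hmap : E.map (IsScalarTower.toAlgHom k K K') =
      IntermediateField.adjoin k ({algebraMap K K' z} : Set K') := by
    rw [IntermediateField.adjoin_map, Set.image_singleton]; rfl
  set E' := IntermediateField.adjoin k ({algebraMap K K' z} : Set K')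
  let i : E ≃+* E' :=
    ((IntermediateField.equivMap E (IsScalarTower.toAlgHom k K K')).trans
      (IntermediateField.equivOfEq hmap)).toRingEquiv
  have hi : ∀ c : E, ((i c : E') : K') = algebraMap K K' (c : K) := fun c => rfl
  have he : (algebraMap E' K').comp (i : E →+* E') = (RingEquiv.refl K' : K' →+* K').comp (algebraMap E K') :=
    RingHom.ext fun c => hi c
  have : FiniteDimensional E K' := FiniteDimensional.trans E K K'
  have h1 : Module.finrank E K' = Module.finrank E' K' :=
    Algebra.finrank_eq_of_equiv_equiv i (RingEquiv.refl K') he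
  have h2 : Module.finrank E K * Module.finrank K K' = Module.finrank E K' := Module.finrank_mul_finrank E K K'
  refine ⟨Module.finite_of_finrank_pos (h1 ▸ Module.finrank_pos), ?_⟩
  show Module.finrank E' K' = _ * Module.finrank E K
  rw [← h1, ← h2, mul_comm]

theorem ff0_ext (hK : IsFF0 k K) : IsFF0 k K' := by
  obtain ⟨x, hx, hfin⟩ := hK
  exact ⟨_, transcendental_map hx, (degX_map hfin).1⟩

theorem exists_over (hK : IsFF0 k K) (Q : Place k K') : ∃ (P : Place k K) (e : ℕ), 0 < e ∧ IsOverWith Q P e := by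
  classical
  set O := (Q.1.comap (algebraMap K K')).valuationSubring
  have hk : ∀ c : k, algebraMap k K c ∈ O := fun c => by
    show Q.1 (algebraMap K K' (algebraMap k K c)) ≤ 1
    rw [← IsScalarTower.algebraMap_apply]; exact Q.2.1 c
  obtain ⟨z, hz0, hz⟩ : ∃ z : K, z ≠ 0 ∧ Q.1 (algebraMap K K' z) < 1 := by
    by_contra hc
    push Not at hc
    have hone : ∀ z : K, Q.1 (algebraMap K K' z) ≤ 1 := fun z => by
      rcases eq_or_ne z 0 with rfl | hz
      · simp
      have := hc z⁻¹ (inv_ne_zero hz)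
      rw [map_inv₀, map_inv₀, one_le_inv₀ (zero_lt_iff.2 (v_ne_zero Q (by simpa using hz)))] at this
      exact this
    obtain ⟨w, hw0, hw⟩ := exists_exp Q (-1)
    let Q' : Place K K' := ⟨Q.1, hone, Q.2.2⟩
    have h1 := v_eq_one_of_algebraic Q' hw0 (IsIntegral.of_finite K w).isAlgebraic
    change Q.1 w = 1 at h1
    rw [hw, ← exp_zero, exp_inj] at h1
    omega
  obtain ⟨P, hP⟩ := exists_place hK O hk ⟨z, hz0, by
    rw [← not_le]
    intro hle
    have h2 : z⁻¹ ∈ O := by
      rcases O.mem_or_inv_mem z with h | h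
      · rw [← O.valuation_le_one_iff, map_inv₀]
        exact inv_le_one_of_one_le₀ hle
      · exact h
    have h3 : Q.1 (algebraMap K K' z⁻¹) ≤ 1 := h2
    rw [map_inv₀, map_inv₀, inv_le_one₀ (zero_lt_iff.2 (v_ne_zero Q (by simpa using hz0)))] at h3
    exact not_lt.2 h3 hz⟩
  have hP' : ∀ x : K, P.1 x ≤ 1 ↔ Q.1 (algebraMap K K' x) ≤ 1 := hP
  have hunit : ∀ x : K, x ≠ 0 → P.1 x = 1 → Q.1 (algebraMap K K' x) = 1 := fun x hx h1 => by
    refine le_antisymm ((hP' x).1 h1.le) ?_
    have := (hP' x⁻¹).1 (by rw [map_inv₀, h1, inv_one])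
    rw [map_inv₀, map_inv₀, inv_le_one₀ (zero_lt_iff.2 (v_ne_zero Q (by simpa using hx)))] at this
    exact this
  obtain ⟨t, ht0, ht⟩ := exists_exp P (-1)
  have ht0' : algebraMap K K' t ≠ 0 := by simpa using ht0
  have hlt : Q.1 (algebraMap K K' t) < 1 := by
    refine lt_of_le_of_ne ((hP' t).1 (by rw [ht]; simp only [← exp_zero, exp_le_exp]; omega)) fun h1 => ?_
    have := (hP' t⁻¹).2 (by rw [map_inv₀, map_inv₀, h1, inv_one])
    rw [map_inv₀, ht, ← exp_neg] at this
    simp only [← exp_zero, exp_le_exp] at this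
    omega
  have hpos : 0 < Q.ord (algebraMap K K' t) := (v_lt_one_iff Q ht0').1 hlt
  refine ⟨P, (Q.ord (algebraMap K K' t)).toNat, by omega, fun x => ?_⟩
  rcases eq_or_ne x 0 with rfl | hx
  · rw [map_zero, map_zero, map_zero, zero_pow (by omega)]
  have h1 := hunit (x / t ^ P.ord x) (div_ne_zero hx (zpow_ne_zero _ ht0)) (by
    rw [map_div₀, map_zpow₀, ht, v_eq_exp P hx, ← exp_zsmul, smul_eq_mul, mul_neg_one, div_self exp_ne_zero])
  rw [map_div₀, map_div₀, map_zpow₀, map_zpow₀, div_eq_one_iff_eq (zpow_ne_zero _ (v_ne_zero Q ht0'))] at h1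
  rw [h1, v_eq_exp Q ht0', v_eq_exp P hx, ← exp_zsmul, ← exp_nsmul, exp_inj, smul_eq_mul, nsmul_eq_mul,
    Int.toNat_of_nonneg hpos.le]
  ring

omit [IsScalarTower k K K'] [FiniteDimensional K K'] in
theorem over_pos {Q : Place k K'} {P : Place k K} {e : ℕ} (h : IsOverWith Q P e) : 0 < e := by
  rcases Nat.eq_zero_or_pos e with rfl | he
  · have := h 0; simp at this
  · exact he

omit [IsScalarTower k K K'] [FiniteDimensional K K'] in
theorem over_le_iff {Q : Place k K'} {P : Place k K} {e : ℕ} (h : IsOverWith Q P e) (x : K) :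
    Q.1 (algebraMap K K' x) ≤ 1 ↔ P.1 x ≤ 1 := by
  rw [h x, pow_le_one_iff_of_nonneg zero_le (over_pos h).ne']

omit [IsScalarTower k K K'] [FiniteDimensional K K'] in
theorem over_unique {Q : Place k K'} {P P' : Place k K} {e e' : ℕ} (h : IsOverWith Q P e)
    (h' : IsOverWith Q P' e') : P = P' ∧ e = e' := by
  obtain rfl : P = P' := ext_of_le P P' fun x hx => (over_le_iff h' x).1 ((over_le_iff h x).2 hx)
  obtain ⟨t, -, ht⟩ := exists_exp P (-1)
  have := (h t).symm.trans (h' t)
  rw [ht, ← exp_nsmul, ← exp_nsmul, exp_inj] at this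
  simp at this
  exact ⟨rfl, by omega⟩

omit [IsScalarTower k K K'] [FiniteDimensional K K'] in
theorem ramIdx_eq {Q : Place k K'} {P : Place k K} {e : ℕ} (h : IsOverWith Q P e) : ramIdx Q P = e := by
  classical
  have hio : IsOver Q P := ⟨e, h⟩
  rw [ramIdx, dif_pos hio]
  exact (over_unique (Nat.find_spec hio) h).2

omit [IsScalarTower k K K'] [FiniteDimensional K K'] in
theorem ord_map {Q : Place k K'} {P : Place k K} {e : ℕ} (h : IsOverWith Q P e) (x : K) :
    Q.ord (algebraMap K K' x) = (e : ℤ) * P.ord x := by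
  rcases eq_or_ne x 0 with rfl | hx
  · simp [Place.ord]
  have h1 := h x
  rw [v_eq_exp P hx, v_eq_exp Q (by simpa using hx), ← exp_nsmul, exp_inj, nsmul_eq_mul] at h1
  linarith

theorem finite_over_place (hK : IsFF0 k K) (P : Place k K) : {Q : Place k K' | IsOver Q P}.Finite := by
  obtain ⟨t, ht0, ht⟩ := exists_exp P (-1)
  refine (finite_ord_support (ff0_ext (K' := K') hK) (algebraMap K K' t)).subset fun Q hQ => ?_
  obtain ⟨e, he⟩ := hQ
  have h1 := ord_map he t
  have := over_pos he
  have h2 : P.ord t = 1 := by rw [v_eq_exp P ht0, exp_inj] at ht; omega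
  rw [h2, mul_one] at h1
  show Q.ord (algebraMap K K' t) ≠ 0
  omega

/-- `Σ e f = n` -/
theorem sum_ramIdx_deg (hK : IsFunctionField k K) (P : Place k K) (Qs : Finset (Place k K'))
    (hQs : ∀ Q, Q ∈ Qs ↔ IsOver Q P) :
    ∑ Q ∈ Qs, ramIdx Q P * Q.deg = Module.finrank K K' * P.deg := by
  classical
  obtain ⟨m, hm⟩ : ∃ m : ℕ, m = 2 * genus k K + 1 := ⟨_, rfl⟩
  have hell := ell_eq_of_large hK (D := Finsupp.single P (m : ℤ)) (by
    rw [deg_single]
    have : (1 : ℤ) ≤ P.deg := by exact_mod_cast deg_pos hK.1 P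
    nlinarith)
  rw [deg_single] at hell
  have hdP := deg_pos hK.1 P
  have hne : ¬ FunFld.L (Finsupp.single P (m : ℤ)) ≤ FunFld.L (0 : Divisor k K) := fun hle => by
    have := finite_L hK.1 (0 : Divisor k K)
    have h2 : ell (Finsupp.single P (m : ℤ)) ≤ ell (0 : Divisor k K) := Submodule.finrank_mono hle
    rw [ell_zero hK] at h2
    have : (m : ℤ) ≤ (m : ℤ) * P.deg := le_mul_of_one_le_right (Int.natCast_nonneg _) (by exact_mod_cast hdP)
    omega
  obtain ⟨y, hy, hy'⟩ := SetLike.not_le_iff_exists.1 hne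
  have hy0 : y ≠ 0 := fun e => hy' (e ▸ zero_mem _)
  have hyt : Transcendental k y := transcendental_of_not_mem hK fun ⟨c, hc⟩ => hy' fun R => by
    rw [← hc]; simpa using R.2.1 c
  have hy1 : ∀ R, R ≠ P → 0 ≤ R.ord y := fun R hR =>
    (v_le_one_iff R hy0).1 (by simpa [Finsupp.single_eq_of_ne hR] using hy R)
  have hneg : P.ord y < 0 := by
    by_contra hc
    apply hy'
    intro R
    rw [Finsupp.coe_zero, Pi.zero_apply, v_le_exp_iff R hy0, neg_zero]
    rcases eq_or_ne R P with rfl | hR
    · omega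
    · exact hy1 R hR
  set x := y⁻¹
  have hxt : Transcendental k x := transcendental_inv hK.1 hyt
  have hx0 : x ≠ 0 := inv_ne_zero hy0
  have hzK : (FunFld.div k x ⊔ 0) = Finsupp.single P (-P.ord y) := Finsupp.ext fun R => by
    simp only [Finsupp.sup_apply, div_apply hK.1, Finsupp.coe_zero, Pi.zero_apply, x, ord_inv]
    rcases eq_or_ne R P with rfl | hR
    · simp; omega
    · rw [Finsupp.single_eq_of_ne hR, sup_eq_right]
      have := hy1 R hR; omega
  have hdK : -P.ord y * (P.deg : ℤ) = degX k x := by rw [← deg_single, ← hzK, deg_zeros_eq hK.1 hxt]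
  have hK' : IsFF0 k K' := ff0_ext hK.1
  set x' := algebraMap K K' x
  have hx't : Transcendental k x' := transcendental_map hxt
  have hzK' : (FunFld.div k x' ⊔ 0) = ∑ Q ∈ Qs, Finsupp.single Q ((ramIdx Q P : ℤ) * -P.ord y) := Finsupp.ext fun Q => by
    obtain ⟨R, e, he, hov⟩ := exists_over hK.1 Q
    simp only [Finsupp.sup_apply, div_apply hK', Finsupp.coe_zero, Pi.zero_apply, x', ord_map hov, Finsupp.finsetSum_apply,
      Finsupp.single_apply, Finset.sum_ite_eq']
    rw [show R.ord x = -R.ord y from ord_inv R y]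
    rcases eq_or_ne R P with rfl | hR
    · rw [if_pos ((hQs Q).2 ⟨e, hov⟩), ramIdx_eq hov, sup_eq_left]
      exact mul_nonneg (Int.natCast_nonneg _) (by omega)
    · rw [if_neg fun h => by
        obtain ⟨e', he'⟩ := (hQs Q).1 h
        exact hR (over_unique hov he').1, sup_eq_right]
      exact mul_nonpos_of_nonneg_of_nonpos (Int.natCast_nonneg _) (by have := hy1 R hR; omega)
  have hdK' := deg_zeros_eq hK' hx't
  rw [hzK', (degX_map (finite_over hK.1 hxt)).2] at hdK'
  have hsum : ∀ T : Finset (Place k K'), Divisor.deg (∑ Q ∈ T, Finsupp.single Q ((ramIdx Q P : ℤ) * -P.ord y) : Divisor k K') =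
      -P.ord y * ((∑ Q ∈ T, ramIdx Q P * Q.deg : ℕ) : ℤ) := fun T => by
    induction T using Finset.induction with
    | empty => simp [deg_zero]
    | insert a T ha ih => rw [Finset.sum_insert ha, deg_add, deg_single, ih, Finset.sum_insert ha]; push_cast; ring
  rw [hsum, Nat.cast_mul, ← hdK, mul_left_comm] at hdK'
  exact_mod_cast mul_left_cancel₀ (by omega : -P.ord y ≠ 0) hdK'

theorem conorm_apply (hK : IsFF0 k K) (D : Divisor k K) {Q : Place k K'} {P : Place k K} {e : ℕ}
    (h : IsOverWith Q P e) : conorm K' D Q = (e : ℤ) * D P := by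
  classical
  unfold FunFld.conorm
  rw [Finsupp.sum_apply]
  refine (Finset.sum_eq_single P (fun R _ hR => ?_) (fun hP => ?_)).trans ?_
  · dsimp only
    rw [dif_pos (finite_over_place hK R), Finsupp.smul_apply, Finsupp.finsetSum_apply]
    rw [Finset.sum_eq_zero, smul_zero]
    intro Q' hQ'
    obtain ⟨e', he'⟩ := (Set.Finite.mem_toFinset _).1 hQ'
    rcases eq_or_ne Q Q' with rfl | hne
    · exact absurd (over_unique he' h).1 hR
    · simp [Finsupp.single_eq_of_ne hne]
  · dsimp only
    rw [Finsupp.notMem_support_iff.1 hP, zero_smul, Finsupp.coe_zero, Pi.zero_apply]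
  · dsimp only
    have hQm : Q ∈ (finite_over_place (K' := K') hK P).toFinset := (Set.Finite.mem_toFinset _).2 ⟨e, h⟩
    rw [dif_pos (finite_over_place hK P), Finsupp.smul_apply, Finsupp.finsetSum_apply,
      Finset.sum_eq_single_of_mem Q hQm]
    · simp [ramIdx_eq h]; ring
    · intro b _ hb
      simp [Finsupp.single_eq_of_ne (Ne.symm hb)]

theorem deg_conorm (hK : IsFunctionField k K) (D : Divisor k K) :
    (conorm K' D).deg = (Module.finrank K K' : ℤ) * D.deg := by
  classical
  have hadd : ∀ A B : Divisor k K, conorm K' (A + B) = conorm K' A + conorm K' B := fun A B =>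
    Finsupp.sum_add_index' (fun _ => zero_smul ℤ _) (fun _ _ _ => add_smul _ _ _)
  have hsm : ∀ (n : ℤ) (X : Divisor k K'), (n • X).deg = n * X.deg := fun n X =>
    (AddMonoidHom.map_zsmul (AddMonoidHom.mk' (fun X : Divisor k K' => X.deg) deg_add) n X).trans (smul_eq_mul _ _)
  induction D using Finsupp.induction_linear with
  | zero => simp [conorm, deg_zero]
  | add A B hA hB => rw [hadd, deg_add, hA, hB, deg_add, mul_add]
  | single P n =>
    set F := (finite_over_place (K' := K') hK.1 P).toFinset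
    have hc : conorm K' (Finsupp.single P n) = n • ∑ Q ∈ F, (ramIdx Q P : ℤ) • Finsupp.single Q 1 := by
      unfold FunFld.conorm
      refine (Finsupp.sum_single_index (by exact zero_smul ℤ _)).trans ?_
      rw [dif_pos (finite_over_place hK.1 P)]
    have hs : ∀ T : Finset (Place k K'), Divisor.deg (∑ Q ∈ T, (ramIdx Q P : ℤ) • Finsupp.single Q (1 : ℤ) : Divisor k K') =
        ((∑ Q ∈ T, ramIdx Q P * Q.deg : ℕ) : ℤ) := fun T => by
      induction T using Finset.induction with
      | empty => simp [deg_zero]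
      | insert a T ha ih =>
        rw [Finset.sum_insert ha, deg_add, hsm, deg_single, ih, Finset.sum_insert ha]
        push_cast; ring
    rw [hc, hsm, hs, sum_ramIdx_deg hK P F (fun Q => Set.Finite.mem_toFinset _), deg_single]
    push_cast; ring

theorem div_map (hK : IsFF0 k K) (x : K) :
    FunFld.div k (algebraMap K K' x) = conorm K' (FunFld.div k x) := Finsupp.ext fun Q => by
  obtain ⟨P, e, -, h⟩ := exists_over hK Q
  rw [div_apply (ff0_ext (K' := K') hK), conorm_apply hK _ h, div_apply hK, ord_map h]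

omit [IsScalarTower k K K'] [FiniteDimensional K K'] in
theorem over_trans {K'' : Type*} [Field K''] [Algebra k K''] [Algebra K' K''] [Algebra K K''] [IsScalarTower K K' K'']
    {R : Place k K''} {Q : Place k K'} {P : Place k K} {e f : ℕ}
    (hR : IsOverWith R Q f) (hQ : IsOverWith Q P e) : IsOverWith R P (e * f) := fun x => by
  rw [IsScalarTower.algebraMap_apply K K' K'', hR, hQ, pow_mul]

end Groth.Agent.FunFldLib
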