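import Groth.Agent.FunFldLib.Order
import Groth.Prelude.Def_W4bk4goldsch45
import Mathlib.FieldTheory.Relrank
import Mathlib.LinearAlgebra.Dimension.Constructions

/-! Divisors separating points and tangent vectors give embeddings. -/

set_option autoImplicit false

open WithZero Finset Polynomial

namespace Groth.Agent.FunFldLib

open FunFld

variable {k K : Type*} [Field k] [Field K] [Algebra k K]

theorem mem_L_ord {x : K} (hx : x ≠ 0) (E : Divisor k K) :
    x ∈ FunFld.L E ↔ ∀ Q : Place k K, -E Q ≤ Q.ord x := by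
  simp only [mem_L, v_le_exp_iff _ hx]

theorem ell_le_drop [IsAlgClosed k] (hK : IsFunctionField k K) (E : Divisor k K) (P : Place k K) :
    ell E ≤ ell (E - Finsupp.single P 1) + 1 := by
  have := finite_L hK.1 E
  have h := finrank_inf_L_drop hK (FunFld.L E) E (deg_eq_one hK P)
  rw [inf_idem, inf_eq_right.2 (L_mono (sub_le_self E (Finsupp.single_nonneg.2 zero_le_one)))] at h
  exact h

/-- separation of points and tangents -/
def Separates (E : Divisor k K) : Prop :=
  ∀ P Q : Place k K, ell (E - Finsupp.single P 1 - Finsupp.single Q 1) + 2 ≤ ell E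

section Sep

variable [IsAlgClosed k] (hK : IsFunctionField k K) {E : Divisor k K} (hsep : Separates E)

include hK hsep

theorem exists_mem_exact (P : Place k K) : ∃ x ∈ FunFld.L E, x ∉ FunFld.L (E - Finsupp.single P 1) := by
  by_contra h
  push Not at h
  have := finite_L hK.1 (E - Finsupp.single P 1)
  have h1 : ell E ≤ ell (E - Finsupp.single P 1) := Submodule.finrank_mono (show FunFld.L E ≤ _ from h)
  have h2 := ell_le_drop hK (E - Finsupp.single P 1) P
  have h3 := hsep P P
  omega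

theorem exists_sep (P Q : Place k K) :
    ∃ x ∈ FunFld.L (E - Finsupp.single Q 1), x ∉ FunFld.L (E - Finsupp.single Q 1 - Finsupp.single P 1) := by
  by_contra h
  push Not at h
  have := finite_L hK.1 (E - Finsupp.single Q 1 - Finsupp.single P 1)
  have h1 : ell (E - Finsupp.single Q 1) ≤ ell (E - Finsupp.single Q 1 - Finsupp.single P 1) :=
    Submodule.finrank_mono (show FunFld.L (E - Finsupp.single Q 1) ≤ _ from h)
  have h2 := ell_le_drop hK E Q
  have h3 := hsep Q P
  omega

omit hsep in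
/-- a member with exact pole orders at finitely many places -/
theorem exists_exact {E : Divisor k K} (s : Finset (Place k K))
    (h : ∀ Q ∈ s, ∃ x ∈ FunFld.L E, x ∉ FunFld.L (E - Finsupp.single Q 1)) :
    ∃ x ∈ FunFld.L E, ∀ Q ∈ s, x ∉ FunFld.L (E - Finsupp.single Q 1) := by
  classical
  induction s using Finset.induction_on with
  | empty => exact ⟨0, zero_mem _, by simp⟩
  | insert a s ha ih =>
    obtain ⟨x, hx, hxs⟩ := ih fun Q hQ => h Q (Finset.mem_insert_of_mem hQ)
    obtain ⟨y, hy, hya⟩ := h a (Finset.mem_insert_self a s)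
    by_contra hcon
    push Not at hcon
    have hc : ∀ c : k, ∃ Q ∈ insert a s, x + c • y ∈ FunFld.L (E - Finsupp.single Q 1) := fun c =>
      hcon _ (add_mem hx (Submodule.smul_mem _ c hy))
    choose Q hQ hQm using hc
    have hinj : Function.Injective Q := fun c c' e => by
      by_contra hne
      have h1 := sub_mem (hQm c) (e ▸ hQm c')
      rw [add_sub_add_left_eq_sub, ← sub_smul, Submodule.smul_mem_iff _ (sub_ne_zero.2 hne)] at h1
      have h2 := sub_mem (hQm c) (Submodule.smul_mem _ c h1)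
      rw [add_sub_cancel_right] at h2
      rcases Finset.mem_insert.1 (hQ c) with hca | hcs
      · rw [hca] at h1; exact hya h1
      · exact hxs _ hcs h2
    have : Finite k := Finite.of_injective (fun c => (⟨Q c, hQ c⟩ : ↥(insert a s)))
      fun c c' e => hinj (congrArg Subtype.val e)
    exact not_finite k

omit hsep in
theorem ord_eq_of_exact {E : Divisor k K} {x : K} (hx : x ∈ FunFld.L E) {Q : Place k K}
    (hQ : x ∉ FunFld.L (E - Finsupp.single Q 1)) : x ≠ 0 ∧ Q.ord x = -E Q := by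
  classical
  have hx0 : x ≠ 0 := fun h => hQ (h ▸ zero_mem _)
  refine ⟨hx0, le_antisymm (not_lt.1 fun hlt => hQ ((mem_L_ord hx0 _).2 fun R => ?_))
    ((mem_L_ord hx0 E).1 hx Q)⟩
  have hR := (mem_L_ord hx0 E).1 hx R
  rcases eq_or_ne R Q with rfl | hne
  · simp; omega
  · simpa [Finsupp.single_eq_of_ne hne] using hR

omit hsep in
theorem exists_degX {E : Divisor k K} (hE : 0 ≤ E) (hpos : 0 < E.deg)
    (h : ∀ Q ∈ E.support, ∃ x ∈ FunFld.L E, x ∉ FunFld.L (E - Finsupp.single Q 1)) :
    ∃ x ∈ FunFld.L E, Transcendental k x ∧ (∀ Q, -E Q ≤ Q.ord x) ∧ (degX k x : ℤ) = E.deg := by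
  classical
  have hne : E.support.Nonempty := by
    rw [Finsupp.support_nonempty_iff]
    intro h0
    rw [h0, deg_zero] at hpos
    exact lt_irrefl _ hpos
  obtain ⟨x, hx, hxs⟩ := exists_exact hK E.support h
  obtain ⟨Q₀, hQ₀⟩ := hne
  obtain ⟨hx0, hord₀⟩ := ord_eq_of_exact hK hx (hxs Q₀ hQ₀)
  have hle := (mem_L_ord hx0 E).1 hx
  have hxk : x ∉ Set.range (algebraMap k K) := by
    rintro ⟨c, rfl⟩
    rw [ord_algebraMap] at hord₀
    exact Finsupp.mem_support_iff.1 hQ₀ (by omega)
  have hxt := transcendental_of_not_mem hK hxk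
  refine ⟨x, hx, hxt, hle, ?_⟩
  rw [← deg_poles_eq hK.1 hxt]
  congr 1
  refine Finsupp.ext fun Q => ?_
  simp only [Finsupp.sup_apply, Finsupp.neg_apply, div_apply hK.1, Finsupp.coe_zero, Pi.zero_apply]
  have := hle Q
  have h0 : 0 ≤ E Q := hE Q
  by_cases hQ : Q ∈ E.support
  · rw [(ord_eq_of_exact hK hx (hxs Q hQ)).2]; omega
  · rw [Finsupp.notMem_support_iff] at hQ
    omega

theorem adjoin_L_eq_top (hE : 0 ≤ E) (hpos : 0 < E.deg) :
    IntermediateField.adjoin k ((FunFld.L E : Submodule k K) : Set K) = ⊤ := by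
  classical
  set F := IntermediateField.adjoin k ((FunFld.L E : Submodule k K) : Set K) with hF
  have hdvd : ∀ x ∈ FunFld.L E, Module.finrank F K ∣ degX k x := fun x hx => by
    have hle : IntermediateField.adjoin k ({x} : Set K) ≤ F :=
      IntermediateField.adjoin_simple_le_iff.2 (IntermediateField.subset_adjoin k _ hx)
    exact ⟨_, by rw [degX, ← IntermediateField.relfinrank_mul_finrank_top hle, mul_comm]⟩
  obtain ⟨x, hx, -, -, hxd⟩ := exists_degX hK hE hpos fun Q _ => exists_mem_exact hK hsep Q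
  refine IntermediateField.finrank_eq_one_iff_eq_top.1 ?_
  have h1 := hdvd x hx
  rcases eq_or_ne E.deg 1 with hd | hd
  · rw [show degX k x = 1 by omega] at h1
    exact Nat.dvd_one.1 h1
  obtain ⟨Q, hQ⟩ : E.support.Nonempty := by
    rw [Finsupp.support_nonempty_iff]
    intro h0
    rw [h0, deg_zero] at hpos
    exact lt_irrefl _ hpos
  have hEQ : 0 ≤ E - Finsupp.single Q 1 := fun R => by
    have h0 : 0 ≤ E R := hE R
    rcases eq_or_ne R Q with rfl | hne
    · have := Finsupp.mem_support_iff.1 hQ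
      simp; omega
    · simpa [Finsupp.single_eq_of_ne hne] using h0
  have hdeg : (E - Finsupp.single Q 1).deg = E.deg - 1 := by
    rw [deg_sub, deg_single, deg_eq_one hK Q]; simp
  obtain ⟨y, hy, -, -, hyd⟩ := exists_degX hK hEQ (by omega) fun R _ => exists_sep hK hsep R Q
  have h2 := hdvd y (L_mono (sub_le_self E (Finsupp.single_nonneg.2 zero_le_one)) hy)
  have h3 : degX k x = degX k y + 1 := by omega
  rw [h3] at h1
  exact Nat.dvd_one.1 ((Nat.dvd_add_right h2).1 h1)

omit hsep in
theorem exists_mem_L_of_mem_adjoin (hE : 0 ≤ E) {z : K}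
    (hz : z ∈ Algebra.adjoin k ((FunFld.L E : Submodule k K) : Set K)) :
    ∃ m : ℕ, ∀ j, m ≤ j → z ∈ FunFld.L (j • E) := by
  classical
  have hmono : ∀ {i j : ℕ}, i ≤ j → FunFld.L (i • E) ≤ FunFld.L (j • E) := fun h =>
    L_mono (nsmul_le_nsmul_left hE h)
  induction hz using Algebra.adjoin_induction with
  | mem x hx => exact ⟨1, fun j hj => hmono hj (by rwa [one_smul])⟩
  | algebraMap c =>
    refine ⟨0, fun j _ Q => ?_⟩
    rcases eq_or_ne c 0 with rfl | hc
    · simp
    · rw [v_algebraMap Q hc, ← exp_zero, exp_le_exp, Finsupp.smul_apply]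
      exact smul_nonneg (by omega) (hE Q)
  | add x y _ _ hx hy =>
    obtain ⟨a, ha⟩ := hx
    obtain ⟨b, hb⟩ := hy
    exact ⟨max a b, fun j hj => add_mem (ha j (le_of_max_le_left hj)) (hb j (le_of_max_le_right hj))⟩
  | mul x y _ _ hx hy =>
    obtain ⟨a, ha⟩ := hx
    obtain ⟨b, hb⟩ := hy
    refine ⟨a + b, fun j hj => hmono hj fun Q => ?_⟩
    rw [map_mul, Finsupp.smul_apply, add_smul, exp_add]
    have h1 := ha a le_rfl Q
    have h2 := hb b le_rfl Q
    rw [Finsupp.smul_apply] at h1 h2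
    exact mul_le_mul' h1 h2

theorem exists_conductor (hE : 0 ≤ E) (hpos : 0 < E.deg) :
    ∃ c ∈ Algebra.adjoin k ((FunFld.L E : Submodule k K) : Set K), c ≠ 0 ∧
      ∀ (m : ℕ), ∀ b ∈ FunFld.L (m • E), c * b ∈ Algebra.adjoin k ((FunFld.L E : Submodule k K) : Set K) := by
  classical
  set A := Algebra.adjoin k ((FunFld.L E : Submodule k K) : Set K) with hA
  have hfrac : ∀ b : K, ∃ u w : K, u ∈ A ∧ w ∈ A ∧ w ≠ 0 ∧ b * w = u := by
    intro b
    have hb : b ∈ IntermediateField.adjoin k ((FunFld.L E : Submodule k K) : Set K) := by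
      rw [adjoin_L_eq_top hK hsep hE hpos]; trivial
    obtain ⟨r, s, h⟩ := (IntermediateField.mem_adjoin_iff k b).1 hb
    have hr : MvPolynomial.aeval Subtype.val r ∈ A := by
      rw [hA, Algebra.adjoin_eq_range]; exact ⟨r, rfl⟩
    have hs : MvPolynomial.aeval Subtype.val s ∈ A := by
      rw [hA, Algebra.adjoin_eq_range]; exact ⟨s, rfl⟩
    rcases eq_or_ne (MvPolynomial.aeval Subtype.val s : K) 0 with h0 | h0
    · exact ⟨0, 1, zero_mem A, one_mem A, one_ne_zero, by rw [h, h0, div_zero, zero_mul]⟩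
    · exact ⟨_, _, hr, hs, h0, by rw [h, div_mul_cancel₀ _ h0]⟩
  -- a basis over `k(x)` inside `A`
  obtain ⟨x, hxL, hxt, hxle, hxd⟩ := exists_degX hK hE hpos fun Q _ => exists_mem_exact hK hsep Q
  have hfin := finite_over hK.1 hxt
  let bK := Module.finBasis (IntermediateField.adjoin k ({x} : Set K)) K
  set N := Module.finrank (IntermediateField.adjoin k ({x} : Set K)) K with hN
  choose u w hu hw hw0 huw using fun i => hfrac (bK i)
  set W := ∏ i, w i with hW
  have hW0 : W ≠ 0 := Finset.prod_ne_zero_iff.2 fun i _ => hw0 i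
  have hy : ∀ i, W * bK i ∈ A := fun i => by
    rw [hW, ← Finset.mul_prod_erase _ _ (Finset.mem_univ i), mul_right_comm, mul_comm (w i), huw]
    exact mul_mem (hu i) (Subalgebra.prod_mem A fun j _ => hw j)
  choose e he using fun i => exists_mem_L_of_mem_adjoin hK hE (hy i)
  have hli : LinearIndependent (IntermediateField.adjoin k ({x} : Set K)) (fun i => W * bK i) :=
    bK.linearIndependent.map' (LinearMap.mulLeft _ W) (LinearMap.ker_eq_bot.2 (mul_right_injective₀ hW0))
  let Am : ℕ → Submodule k K := fun m => Subalgebra.toSubmodule A ⊓ FunFld.L (m • E)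
  have hAmfin : ∀ m, FiniteDimensional k (Am m) := fun m =>
    have := finite_L hK.1 (m • E)
    Submodule.finiteDimensional_of_le inf_le_right
  -- many elements
  have hbound : ∀ m, ∑ i, (m + 1 - e i) ≤ Module.finrank k (Am m) := by
    intro m
    have hmem : ∀ p : (Σ i, Fin (m + 1 - e i)), x ^ (p.2 : ℕ) * (W * bK p.1) ∈ Am m := by
      rintro ⟨i, a⟩
      refine ⟨A.mul_mem (Subalgebra.pow_mem A (Algebra.subset_adjoin hxL) _) (hy i), fun Q => ?_⟩
      have hx0 : x ≠ 0 := fun h => hxt (h ▸ isAlgebraic_zero)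
      have h2 := he i (e i) le_rfl Q
      rw [Finsupp.smul_apply] at h2
      rw [map_mul, map_pow, Finsupp.smul_apply]
      have h1 : Q.1 x ≤ exp (E Q) := (v_le_exp_iff Q hx0 _).2 (hxle Q)
      calc Q.1 x ^ (a : ℕ) * Q.1 (W * bK i) ≤ exp (E Q) ^ (a : ℕ) * exp (e i • E Q) :=
            mul_le_mul' (pow_le_pow_left' h1 _) h2
        _ ≤ exp (m • E Q) := by
            rw [← exp_nsmul, ← exp_add, ← add_smul, exp_le_exp]
            exact smul_le_smul_of_nonneg_right (by have := a.isLt; omega) (hE Q)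
    have hli2 : LinearIndependent k fun p : (Σ i, Fin (m + 1 - e i)) => x ^ (p.2 : ℕ) * (W * bK p.1) := by
      rw [Fintype.linearIndependent_iff]
      intro g hg
      rw [Fintype.sum_sigma] at hg
      have h1 := Fintype.linearIndependent_iff.1 hli
        (fun i => ⟨aeval x (∑ a : Fin (m + 1 - e i), C (g ⟨i, a⟩) * X ^ (a : ℕ)), by
          rw [IntermediateField.mem_adjoin_simple_iff]
          exact ⟨∑ a : Fin (m + 1 - e i), C (g ⟨i, a⟩) * X ^ (a : ℕ), 1, by rw [map_one, div_one]⟩⟩) (by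
        rw [← hg]
        refine Finset.sum_congr rfl fun i _ => ?_
        show aeval x (∑ a : Fin (m + 1 - e i), C (g ⟨i, a⟩) * X ^ (a : ℕ)) * (W * bK i) = _
        rw [map_sum, Finset.sum_mul]
        refine Finset.sum_congr rfl fun a _ => ?_
        rw [map_mul, aeval_C, map_pow, aeval_X, Algebra.smul_def, mul_assoc])
      rintro ⟨i, a⟩
      have h2 : (aeval x (∑ b : Fin (m + 1 - e i), C (g ⟨i, b⟩) * X ^ (b : ℕ)) : K) = 0 :=
        congrArg Subtype.val (h1 i)
      have h3 := transcendental_iff.1 hxt _ h2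
      have h4 := congrArg (fun q => Polynomial.coeff q (a : ℕ)) h3
      simpa [finsetSum_coeff, coeff_C_mul, coeff_X_pow, Fin.val_inj] using h4
    have h5 := LinearIndependent.fintype_card_le_finrank
      (b := fun p => (⟨_, hmem p⟩ : Am m)) (LinearIndependent.of_comp (Am m).subtype hli2)
    simpa using h5
  have hcodim : ∀ m, ell (m • E) ≤ Module.finrank k (Am m) + (1 + ∑ i, e i) := by
    intro m
    have h1 := ell_le_deg hK (show 0 ≤ m • E from smul_nonneg (Nat.zero_le m) hE)
    have h2' : ∀ j : ℕ, (j • E).deg = j * E.deg := fun j => by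
      induction j with
      | zero => simp [deg_zero]
      | succ j ih => rw [succ_nsmul, deg_add, ih]; push_cast; ring
    have h2 := h2' m
    have h3 : N * (m + 1) ≤ ∑ i, (m + 1 - e i) + ∑ i, e i := by
      rw [← Finset.sum_add_distrib]
      refine le_trans (le_of_eq ?_) (Finset.card_nsmul_le_sum _ _ (m + 1) fun i _ => by omega)
      simp [hN]
    have h4 := hbound m
    have h5 : (N : ℤ) = E.deg := hxd
    rw [h2, ← h5] at h1
    have h6 : ell (m • E) ≤ m * N + 1 := by exact_mod_cast h1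
    nlinarith
  -- stabilisation of the codimension
  let f : ℕ → ℕ := fun m => ell (m • E) - Module.finrank k (Am m)
  obtain ⟨m₀, hm₀⟩ : ∃ m₀, ∀ m, f m ≤ f m₀ := by
    have hbdd : BddAbove (Set.range f) := ⟨1 + ∑ i, e i, by
      rintro _ ⟨m, rfl⟩
      have := hcodim m
      simp only [f]; omega⟩
    obtain ⟨m₀, h⟩ := Nat.sSup_mem (Set.range_nonempty f) hbdd
    exact ⟨m₀, fun m => h ▸ le_csSup hbdd (Set.mem_range_self m)⟩
  have hsplit : ∀ m, m₀ ≤ m → FunFld.L (m • E) = FunFld.L (m₀ • E) ⊔ Am m := by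
    intro m hm
    have hle : FunFld.L (m₀ • E) ≤ FunFld.L (m • E) := L_mono (nsmul_le_nsmul_left hE hm)
    have := finite_L hK.1 (m • E)
    have := finite_L hK.1 (m₀ • E)
    have := hAmfin m
    refine (Submodule.eq_of_le_of_finrank_le (sup_le hle inf_le_right) ?_).symm
    have h1 := Submodule.finrank_sup_add_finrank_inf_eq (FunFld.L (m₀ • E)) (Am m)
    have h2 : FunFld.L (m₀ • E) ⊓ Am m = Am m₀ := by
      simp only [Am]
      rw [inf_left_comm, inf_eq_left.2 hle]
    rw [h2] at h1
    have h3 := hm₀ m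
    have h4 : Module.finrank k (Am m₀) ≤ ell (m₀ • E) :=
      Submodule.finrank_mono inf_le_right
    simp only [f] at h3
    simp only [Am] at h1 h3 h4 ⊢
    change ell (m • E) ≤ _
    change _ = ell (m₀ • E) + _ at h1
    omega
  obtain ⟨S, hS⟩ : ∃ S : Finset K, Submodule.span k (S : Set K) = FunFld.L (m₀ • E) := by
    have := finite_L hK.1 (m₀ • E)
    exact (Submodule.fg_def.1 (Module.Finite.iff_fg.1 this)).elim fun s hs => ⟨hs.1.toFinset, by simpa using hs.2⟩
  choose u' w' hu' hw' hw0' huw' using hfrac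
  refine ⟨∏ b ∈ S, w' b, Subalgebra.prod_mem A fun b _ => hw' b,
    Finset.prod_ne_zero_iff.2 fun b _ => hw0' b, ?_⟩
  have hc0 : ∀ b ∈ FunFld.L (m₀ • E), (∏ b ∈ S, w' b) * b ∈ A := by
    intro b hb
    rw [← hS] at hb
    induction hb using Submodule.span_induction with
    | mem y hy =>
      rw [← Finset.mul_prod_erase _ _ (Finset.mem_coe.1 hy), mul_right_comm, mul_comm (w' y), huw']
      exact mul_mem (hu' y) (Subalgebra.prod_mem A fun j _ => hw' j)
    | zero => rw [mul_zero]; exact zero_mem A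
    | add p q _ _ hp hq => rw [mul_add]; exact add_mem hp hq
    | smul c p _ hp => rw [mul_smul_comm]; exact Subalgebra.smul_mem A hp c
  intro m b hb
  rcases Nat.le_total m m₀ with h | h
  · exact hc0 b (L_mono (nsmul_le_nsmul_left hE h) hb)
  · rw [hsplit m h, Submodule.mem_sup] at hb
    obtain ⟨p, hp, q, hq, rfl⟩ := hb
    rw [mul_add]
    exact add_mem (hc0 p hp) (mul_mem (Subalgebra.prod_mem A fun b _ => hw' b) hq.1)

theorem exists_unit_multiple (hE : 0 ≤ E) (hpos : 0 < E.deg) (P : Place k K) (hP : E P = 0) (z : K)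
    (hz : P.1 z ≤ 1) :
    ∃ u ∈ Algebra.adjoin k ((FunFld.L E : Submodule k K) : Set K),
      ∃ w ∈ Algebra.adjoin k ((FunFld.L E : Submodule k K) : Set K), P.1 w = 1 ∧ z * w = u := by
  classical
  set A := Algebra.adjoin k ((FunFld.L E : Submodule k K) : Set K) with hA
  obtain ⟨c, hc, hc0, hcond⟩ := exists_conductor hK hsep hE hpos
  -- a uniformizer in `L(E)`
  obtain ⟨τ, hτ, hτ'⟩ := exists_sep hK hsep P P
  obtain ⟨hτ0, hτord⟩ := ord_eq_of_exact hK hτ hτ'
  rw [Finsupp.sub_apply, hP, Finsupp.single_eq_same] at hτord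
  have hτv : P.1 τ = exp (-1) := by rw [v_eq_exp P hτ0, hτord]; norm_num
  have hτA : τ ∈ A :=
    Algebra.subset_adjoin (L_mono (sub_le_self E (Finsupp.single_nonneg.2 zero_le_one)) hτ)
  have hres : ∀ w : K, P.1 w ≤ 1 → ∃ a : k, P.1 (w - algebraMap k K a) < 1 := by
    intro w hw
    have := finite_residue hK.1 P
    have hd : Module.finrank k (IsLocalRing.ResidueField P.O) = 1 := deg_eq_one hK P
    obtain ⟨a, ha⟩ := ((finrank_eq_one_iff_of_nonzero' (1 : IsLocalRing.ResidueField P.O) one_ne_zero).1 hd)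
      (IsLocalRing.residue P.O ⟨w, hw⟩)
    refine ⟨a, ?_⟩
    have h0 : IsLocalRing.residue P.O (⟨w, hw⟩ - algebraMap k P.O a) = 0 := by
      rw [map_sub, ← ha, sub_eq_zero]
      refine Eq.trans ((Algebra.smul_def a (1 : IsLocalRing.ResidueField P.O)).trans (mul_one _)) ?_
      rfl
    rw [residue_eq_zero] at h0
    exact h0
  have happrox : ∀ n : ℕ, ∃ p ∈ A, P.1 (z - p) ≤ exp (-(n : ℤ)) := by
    intro n
    induction n with
    | zero => exact ⟨0, zero_mem A, by simpa using hz⟩
    | succ n ih =>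
      obtain ⟨p, hp, hpv⟩ := ih
      have hr : P.1 ((z - p) / τ ^ n) ≤ 1 := by
        rw [map_div₀, map_pow, hτv, ← exp_nsmul]
        refine (div_le_one₀ (zero_lt_iff.2 exp_ne_zero)).2 (hpv.trans (exp_le_exp.2 ?_))
        simp
      obtain ⟨a, ha⟩ := hres _ hr
      refine ⟨p + algebraMap k K a * τ ^ n,
        add_mem hp (mul_mem (Subalgebra.algebraMap_mem A a) (Subalgebra.pow_mem A hτA n)), ?_⟩
      rw [show z - (p + algebraMap k K a * τ ^ n) = ((z - p) / τ ^ n - algebraMap k K a) * τ ^ n by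
        rw [sub_mul, div_mul_cancel₀ _ (pow_ne_zero _ hτ0)]; ring, map_mul, map_pow, hτv, ← exp_nsmul]
      rw [lt_one_iff_le] at ha
      refine (mul_le_mul' ha le_rfl).trans ?_
      rw [← exp_add, exp_le_exp]
      simp
  obtain ⟨p, hp, hpv⟩ := happrox (P.ord c).toNat
  set r := (z - p) / c with hr
  rcases eq_or_ne r 0 with hr0 | hr0
  · rw [hr, div_eq_zero_iff, or_iff_left hc0, sub_eq_zero] at hr0
    exact ⟨p, hp, 1, one_mem A, map_one _, by rw [hr0, mul_one]⟩
  have hrP : 0 ≤ P.ord r := by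
    rw [← v_le_one_iff P hr0, hr, map_div₀, div_le_one₀ (zero_lt_iff.2 (v_ne_zero P hc0)),
      v_eq_exp P hc0]
    refine hpv.trans (exp_le_exp.2 ?_)
    have := Int.self_le_toNat (P.ord c)
    omega
  -- kill the other poles of `r`
  set Bad := (FunFld.div k r).support.filter fun Q => E Q = 0 ∧ Q.ord r < 0 with hBad
  choose g hg hg' using fun Q : Place k K => exists_sep hK hsep P Q
  have hgne : ∀ Q, g Q ≠ 0 := fun Q h => hg' Q (h ▸ zero_mem _)
  have hgA : ∀ Q, g Q ∈ A := fun Q =>
    Algebra.subset_adjoin (L_mono (sub_le_self E (Finsupp.single_nonneg.2 zero_le_one)) (hg Q))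
  have hgP : ∀ Q ∈ Bad, P.ord (g Q) = 0 := by
    intro Q hQ
    obtain ⟨-, -, hQr⟩ := Finset.mem_filter.1 hQ
    have hne : P ≠ Q := by rintro rfl; omega
    rw [(ord_eq_of_exact hK (hg Q) (hg' Q)).2, Finsupp.sub_apply, hP, Finsupp.single_eq_of_ne hne]
    simp
  set s := ∏ Q ∈ Bad, g Q ^ (-Q.ord r).toNat with hs
  have hsA : s ∈ A := Subalgebra.prod_mem A fun Q _ => Subalgebra.pow_mem A (hgA Q) _
  have hs0 : s ≠ 0 := Finset.prod_ne_zero_iff.2 fun Q _ => pow_ne_zero _ (hgne Q)
  have hsP : P.1 s = 1 := by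
    rw [hs, map_prod]
    refine Finset.prod_eq_one fun Q hQ => ?_
    rw [map_pow, v_eq_exp P (hgne Q), hgP Q hQ, neg_zero, exp_zero, one_pow]
  have hsord : ∀ R : Place k K, R.ord s = ∑ Q ∈ Bad, ((-Q.ord r).toNat : ℤ) * R.ord (g Q) := by
    intro R
    rw [hs]
    clear_value Bad
    clear hsA hs0 hsP hs hBad hgP
    induction Bad using Finset.induction_on with
    | empty => simp [ord_one]
    | insert a t ha ih =>
      rw [Finset.prod_insert ha, Finset.sum_insert ha, ord_mul R (pow_ne_zero _ (hgne a))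
        (Finset.prod_ne_zero_iff.2 fun Q _ => pow_ne_zero _ (hgne Q)), ord_pow R (hgne a), ih]
  have hout : ∀ R : Place k K, E R = 0 → 0 ≤ R.ord (r * s) := by
    intro R hR
    rw [ord_mul R hr0 hs0, hsord]
    have hnn : ∀ Q, 0 ≤ R.ord (g Q) := fun Q => by
      have h := (mem_L_ord (hgne Q) _).1 (hg Q) R
      rw [Finsupp.sub_apply, hR] at h
      have h2 : (0 : ℤ) ≤ (Finsupp.single Q (1 : ℤ) : Divisor k K) R :=
        (Finsupp.single_nonneg.2 zero_le_one : (0 : Divisor k K) ≤ Finsupp.single Q 1) R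
      omega
    rcases le_or_gt 0 (R.ord r) with h | h
    · exact add_nonneg h (Finset.sum_nonneg fun Q _ => mul_nonneg (Int.natCast_nonneg _) (hnn Q))
    · have hmem : R ∈ Bad := Finset.mem_filter.2
        ⟨Finsupp.mem_support_iff.2 (by rw [div_apply hK.1]; omega), hR, h⟩
      have h1 : 1 ≤ R.ord (g R) := by
        have h := (mem_L_ord (hgne R) _).1 (hg R) R
        rw [Finsupp.sub_apply, hR, Finsupp.single_eq_same] at h
        omega
      have h3 : ((-R.ord r).toNat : ℤ) * R.ord (g R) ≤ ∑ Q ∈ Bad, ((-Q.ord r).toNat : ℤ) * R.ord (g Q) :=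
        Finset.single_le_sum (f := fun Q => ((-Q.ord r).toNat : ℤ) * R.ord (g Q))
          (fun Q _ => mul_nonneg (Int.natCast_nonneg _) (hnn Q)) hmem
      have h4 : ((-R.ord r).toNat : ℤ) * 1 ≤ ((-R.ord r).toNat : ℤ) * R.ord (g R) :=
        mul_le_mul_of_nonneg_left h1 (Int.natCast_nonneg _)
      rw [Int.toNat_of_nonneg (by omega : 0 ≤ -R.ord r)] at h4 h3
      omega
  set m := E.support.sup fun R => (-R.ord (r * s)).toNat with hm
  have hrs : r * s ∈ FunFld.L (m • E) := by
    rw [mem_L_ord (mul_ne_zero hr0 hs0)]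
    intro R
    rw [Finsupp.smul_apply, nsmul_eq_mul]
    have h0 : 0 ≤ E R := hE R
    by_cases hR : E R = 0
    · have := hout R hR; rw [hR]; simp; omega
    · have hle : (-R.ord (r * s)).toNat ≤ m :=
        Finset.le_sup (f := fun R => (-R.ord (r * s)).toNat) (Finsupp.mem_support_iff.2 hR)
      have h5 : (m : ℤ) * 1 ≤ (m : ℤ) * E R := mul_le_mul_of_nonneg_left (by omega) (by omega)
      push_cast
      omega
  refine ⟨z * s, ?_, s, hsA, hsP, rfl⟩
  have e : z * s = p * s + c * (r * s) := by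
    rw [← mul_assoc, hr, mul_div_cancel₀ _ hc0]
    ring
  rw [e]
  exact add_mem (mul_mem hp hsA) (hcond m _ hrs)

end Sep

theorem nonsingular_of_separates [IsAlgClosed k] (hK : IsFunctionField k K) {D : Divisor k K}
    (hsep : Separates D) {n : ℕ} (φ : Fin (n + 1) → K) (hφ : LinearIndependent k φ)
    (hspan : Submodule.span k (Set.range φ) = FunFld.L D) (P : Place k K) : IsNonsingularAt φ P := by
  classical
  intro z hz
  obtain ⟨y, hy, hy'⟩ := exists_mem_exact hK hsep P
  obtain ⟨j, hj⟩ : ∃ j, φ j ∉ FunFld.L (D - Finsupp.single P 1) := by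
    by_contra h
    push Not at h
    exact hy' ((Submodule.span_le.2 (Set.range_subset_iff.2 h)) (hspan ▸ hy))
  have hφj : φ j ∈ FunFld.L D := hspan ▸ Submodule.subset_span (Set.mem_range_self j)
  obtain ⟨hj0, hjord⟩ := ord_eq_of_exact hK hφj hj
  set E := D + FunFld.div k (φ j) with hE
  have hE0 : 0 ≤ E := (mem_L_iff hK.1 hj0 D).1 hφj
  have hEP : E P = 0 := by rw [hE, Finsupp.add_apply, div_apply hK.1, hjord]; omega
  have hsepE : Separates E := by
    intro R Q
    rw [hE, ell_add_div hK.1 D hj0,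
      show D + FunFld.div k (φ j) - Finsupp.single R 1 - Finsupp.single Q 1 =
        (D - Finsupp.single R 1 - Finsupp.single Q 1) + FunFld.div k (φ j) by abel,
      ell_add_div hK.1 _ hj0]
    exact hsep R Q
  have hpos : 0 < E.deg := by
    by_contra hcon
    have h1 := ell_le_deg hK hE0
    have h2 := hsepE P P
    omega
  obtain ⟨u, hu, w, hw, hw1, he⟩ := exists_unit_multiple hK hsepE hE0 hpos P hEP z hz
  have hLE : ((FunFld.L E : Submodule k K) : Set K) ⊆
      (Submodule.span k (Set.range fun i => φ i / φ j) : Submodule k K) := by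
    intro x hx
    have h1 : φ j * x ∈ Submodule.span k (Set.range φ) := by
      rw [hspan]; exact (L_shift hK.1 D hj0 x).2 hx
    obtain ⟨c, hc⟩ := (Submodule.mem_span_range_iff_exists_fun k).1 h1
    refine (Submodule.mem_span_range_iff_exists_fun k).2 ⟨c, mul_left_cancel₀ hj0 ?_⟩
    rw [← hc, Finset.mul_sum]
    exact Finset.sum_congr rfl fun i _ => by rw [mul_smul_comm, mul_div_cancel₀ _ hj0]
  have hAle : Algebra.adjoin k ((FunFld.L E : Submodule k K) : Set K) ≤
      Algebra.adjoin k (Set.range fun i => φ i / φ j) :=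
    Algebra.adjoin_le fun x hx =>
      (Submodule.span_le (p := Subalgebra.toSubmodule (Algebra.adjoin k (Set.range fun i => φ i / φ j)))).2
        Algebra.subset_adjoin (hLE hx)
  refine ⟨j, hj0, fun i => ?_, u, hAle hu, w, hAle hw, hw1, he⟩
  have hi : φ i ∈ FunFld.L D := hspan ▸ Submodule.subset_span (Set.mem_range_self i)
  rw [v_eq_exp P hj0, hjord, neg_neg]
  exact hi P

end Groth.Agent.FunFldLib
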