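import Groth.Agent.FunFldLib.RR
import Mathlib.FieldTheory.IsAlgClosed.Basic

set_option autoImplicit false

open WithZero Finset

namespace Groth.Agent.FunFldLib

open FunFld

variable {k K : Type*} [Field k] [Field K] [Algebra k K]

theorem div_mul (hK : IsFunctionField k K) {x y : K} (hx : x ≠ 0) (hy : y ≠ 0) :
    FunFld.div k (x * y) = FunFld.div k x + FunFld.div k y := Finsupp.ext fun P => by
  rw [Finsupp.add_apply, div_apply hK.1, div_apply hK.1, div_apply hK.1, ord_mul P hx hy]

theorem places_eq (hK : IsFunctionField k K) (hg : 0 < genus k K) {P P' : Place k K} (hP : P.deg = 1)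
    (hP' : P'.deg = 1) (x : K) (hx : x ≠ 0)
    (h : (Finsupp.single P 1 - Finsupp.single P' 1 : Divisor k K) = FunFld.div k x) : P = P' := by
  classical
  by_contra hne
  have e : ∀ Q, Q.ord x = (Finsupp.single P 1 - Finsupp.single P' 1 : Divisor k K) Q :=
    fun Q => by rw [h, div_apply hK.1]
  have h1 := e P'
  simp [Finsupp.single_eq_of_ne (Ne.symm hne)] at h1
  have h2 : ∀ Q, Q ≠ P' → 0 ≤ Q.ord x := fun Q hQ => by
    rw [e Q, Finsupp.sub_apply, Finsupp.single_eq_of_ne hQ, sub_zero]
    exact (Finsupp.single_nonneg.2 zero_le_one : (0 : Divisor k K) ≤ Finsupp.single P 1) Q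
  have := (genus_zero_of_rational hK (rational_of_pole hK hP' h1 h2)).1
  omega

theorem deg_eq_one [IsAlgClosed k] (hK : IsFunctionField k K) (P : Place k K) : P.deg = 1 := by
  have := finite_residue hK P
  have : Algebra.IsIntegral k (IsLocalRing.ResidueField P.O) := @Algebra.IsIntegral.of_finite k (IsLocalRing.ResidueField P.O) _ _ _ this
  have hb := IsAlgClosed.algebraMap_bijective_of_isIntegral (k := k) (K := IsLocalRing.ResidueField P.O)
  rw [Place.deg]
  exact (LinearEquiv.ofBijective (Algebra.linearMap k (IsLocalRing.ResidueField P.O)) hb).finrank_eq.symm.trans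
    (Module.finrank_self k)

end Groth.Agent.FunFldLib
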