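import Groth.Agent.FunFldLib.AD
import Mathlib.RingTheory.Valuation.LocalSubring
import Mathlib.RingTheory.AlgebraicIndependent.TranscendenceBasis
import Mathlib.RingTheory.AlgebraicIndependent.Transcendental
import Mathlib.RingTheory.AlgebraicIndependent.AlgebraicClosure
import Mathlib.FieldTheory.IntermediateField.Adjoin.Basic
import Mathlib.FieldTheory.IntermediateField.Algebraic
import Mathlib.Algebra.Polynomial.Inductions

set_option autoImplicit false

open WithZero Finset Polynomial
open scoped IntermediateField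

namespace Groth.Agent.FunFldLib

open FunFld

variable {k K : Type*} [Field k] [Field K] [Algebra k K]

/-- `K` is finite over some `k(x)`, `x` transcendental; `k` need not be algebraically closed in `K`. -/
abbrev IsFF0 (k K : Type*) [Field k] [Field K] [Algebra k K] : Prop :=
  ∃ x : K, Transcendental k x ∧ FiniteDimensional (IntermediateField.adjoin k ({x} : Set K)) K

instance : Coe (IsFunctionField k K) (IsFF0 k K) := ⟨fun h => h.1⟩

theorem mem_of_algebraic (O : ValuationSubring K) (hk : ∀ c : k, algebraMap k K c ∈ O) {z : K}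
    (halg : IsAlgebraic k z) : z ∈ O := by
  rcases O.mem_or_inv_mem z with h | h
  · exact h
  · have h2 : z⁻¹ ∈ O := h
    have halg' : IsAlgebraic k z⁻¹ := halg.inv
    obtain ⟨p, hp, hpz⟩ := halg'
    rcases eq_or_ne z 0 with rfl | hz
    · exact O.zero_mem
    have hle : ∀ w ∈ Algebra.adjoin k ({z⁻¹} : Set K), w ∈ O := by
      intro w hw
      induction hw using Algebra.adjoin_induction with
      | mem w hw => rw [Set.mem_singleton_iff.1 hw]; exact h2
      | algebraMap c => exact hk c
      | add u v _ _ hu hv => exact O.add_mem _ _ hu hv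
      | mul u v _ _ hu hv => exact O.mul_mem _ _ hu hv
    have := (IsAlgebraic.isIntegral ⟨p, hp, hpz⟩).inv_mem_adjoin
    rw [inv_inv] at this
    exact hle _ this

theorem transcendental_of_not_mem (hK : IsFunctionField k K) {z : K}
    (hz : z ∉ Set.range (algebraMap k K)) : Transcendental k z := fun h => hz (hK.2 z h)

theorem v_eq_one_of_algebraic (P : Place k K) {z : K} (h0 : z ≠ 0) (halg : IsAlgebraic k z) : P.1 z = 1 := by
  refine le_antisymm (mem_of_algebraic P.O P.2.1 halg) ?_
  have h2 : P.1 z⁻¹ ≤ 1 := mem_of_algebraic P.O P.2.1 halg.inv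
  rw [map_inv₀, inv_le_one₀ (zero_lt_iff.2 (v_ne_zero P h0))] at h2
  exact h2

theorem ord_of_algebraic (P : Place k K) {z : K} (halg : IsAlgebraic k z) : P.ord z = 0 := by
  rcases eq_or_ne z 0 with rfl | h0
  · simp [Place.ord]
  · simp [Place.ord, v_eq_one_of_algebraic P h0 halg]

theorem transcendental_of_v_lt_one (_hK : IsFF0 k K) (P : Place k K) {z : K} (h0 : z ≠ 0)
    (hz : P.1 z < 1) : Transcendental k z := fun halg => by
  rw [v_eq_one_of_algebraic P h0 halg] at hz
  exact lt_irrefl _ hz

theorem finite_over (hK : IsFF0 k K) {z : K} (hz : Transcendental k z) :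
    FiniteDimensional (IntermediateField.adjoin k ({z} : Set K)) K := by
  obtain ⟨x, hx, hfin⟩ := hK
  have h1 : Algebra.IsAlgebraic (Algebra.adjoin k ({x} : Set K)) K :=
    IntermediateField.isAlgebraic_adjoin_iff_top.1 (Algebra.IsAlgebraic.of_finite _ K)
  have htr : Algebra.trdeg k K ≤ 1 := (Algebra.IsAlgebraic.trdeg_le_cardinalMk k ({x} : Set K)).trans (by simp)
  have hai : AlgebraicIndependent k ![z] := algebraicIndependent_unique_type_iff.2 hz
  have htb := hai.isTranscendenceBasis_of_lift_trdeg_le_of_finite (by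
    simp only [Cardinal.mk_fintype, Fintype.card_fin, Nat.cast_one, Cardinal.lift_one]
    exact (Cardinal.lift_le.2 htr).trans_eq (by simp))
  have halg := htb.isAlgebraic_field
  have hr : Set.range ![z] = {z} := Set.range_unique
  rw [hr] at halg
  have hxint : IsIntegral (IntermediateField.adjoin k ({z} : Set K)) x :=
    Algebra.IsIntegral.isIntegral x
  set F := IntermediateField.adjoin (IntermediateField.adjoin k ({z} : Set K)) ({x} : Set K) with hF
  have hF1 : FiniteDimensional (IntermediateField.adjoin k ({z} : Set K)) F :=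
    IntermediateField.adjoin.finiteDimensional hxint
  have hle : IntermediateField.adjoin k ({x} : Set K) ≤ F.restrictScalars k := by
    rw [IntermediateField.adjoin_le_iff, Set.singleton_subset_iff]
    exact IntermediateField.mem_adjoin_simple_self _ x
  have hF2 : FiniteDimensional F K := by
    obtain ⟨s, hs⟩ := hfin.fg_top
    refine ⟨⟨s, eq_top_iff.2 fun y _ => ?_⟩⟩
    have hy : y ∈ Submodule.span (IntermediateField.adjoin k ({x} : Set K)) (s : Set K) := by
      rw [hs]; trivial
    induction hy using Submodule.span_induction with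
    | mem a ha => exact Submodule.subset_span ha
    | zero => exact zero_mem _
    | add a b _ _ iha ihb => exact add_mem (iha trivial) (ihb trivial)
    | smul c a _ iha =>
      exact Submodule.smul_mem _ (⟨(c : K), hle c.2⟩ : F) (iha trivial)
  exact FiniteDimensional.trans _ F K

theorem linearIndependent_adjoin {ι : Type*} (x : K) (f : ι → K)
    (h : ∀ (s : Finset ι) (φ : ι → k[X]), ∑ i ∈ s, aeval x (φ i) * f i = 0 →
      ∀ i ∈ s, aeval x (φ i) = 0) :
    LinearIndependent (IntermediateField.adjoin k ({x} : Set K)) f := by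
  classical
  rw [linearIndependent_iff']
  intro s g hg i hi
  choose r q hrq using fun j => (IntermediateField.mem_adjoin_simple_iff k (α := x) (g j : K)).1 (g j).2
  let q' : ι → k[X] := fun j => if (g j : K) = 0 then 1 else q j
  let r' : ι → k[X] := fun j => if (g j : K) = 0 then 0 else r j
  have hq' : ∀ j, aeval x (q' j) ≠ 0 := fun j => by
    simp only [q']; split_ifs with h0
    · simp
    · intro h1; apply h0; rw [hrq j, h1, div_zero]
  have hg' : ∀ j, (g j : K) * aeval x (q' j) = aeval x (r' j) := fun j => by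
    simp only [q', r']; split_ifs with h0
    · simp [h0]
    · rw [hrq j, div_mul_cancel₀]
      intro h1; apply h0; rw [hrq j, h1, div_zero]
  have hsum : ∑ j ∈ s, aeval x (r' j * ∏ l ∈ s.erase j, q' l) * f j = 0 := by
    have h0 : aeval x (∏ l ∈ s, q' l) * ∑ j ∈ s, (g j : K) * f j = 0 := by
      have hg2 : ∑ j ∈ s, (g j : K) * f j = 0 := hg
      rw [hg2, mul_zero]
    rw [Finset.mul_sum] at h0
    rw [← h0]
    refine Finset.sum_congr rfl fun j hj => ?_
    rw [← Finset.mul_prod_erase s q' hj, map_mul, map_mul, ← hg' j]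
    ring
  have hz := h s _ hsum i hi
  rw [map_mul, map_prod, mul_eq_zero, ← hg' i, mul_eq_zero] at hz
  rcases hz with (hz | hz) | hz
  · exact Subtype.ext hz
  · exact absurd hz (hq' i)
  · rw [Finset.prod_eq_zero_iff] at hz
    obtain ⟨l, -, hl⟩ := hz
    exact absurd hl (hq' l)

theorem eq_zero_of_reduce {ι : Type*} {x : K} (hx : x ≠ 0) (f : ι → K)
    (h : ∀ (s : Finset ι) (ψ : ι → k[X]) (c : ι → k),
      ∑ i ∈ s, (algebraMap k K (c i) + x * aeval x (ψ i)) * f i = 0 → ∀ i ∈ s, c i = 0)
    (s : Finset ι) (φ : ι → k[X]) (hφ : ∑ i ∈ s, aeval x (φ i) * f i = 0) :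
    ∀ i ∈ s, aeval x (φ i) = 0 := by
  obtain ⟨N, hN⟩ : ∃ N : ℕ, ∀ i ∈ s, (φ i).natDegree ≤ N := ⟨_, fun i hi => Finset.le_sup (f := fun i => (φ i).natDegree) hi⟩
  induction N generalizing φ with
  | zero =>
    intro i hi
    have hc : ∀ j ∈ s, φ j = C ((φ j).coeff 0) := fun j hj =>
      eq_C_of_natDegree_le_zero (hN j hj)
    have := h s 0 (fun j => (φ j).coeff 0) (by
      rw [← hφ]; refine Finset.sum_congr rfl fun j hj => ?_
      conv_rhs => rw [hc j hj]
      simp) i hi
    rw [hc i hi, this]; simp
  | succ N ih =>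
    have hd : ∀ j, aeval x (φ j) = algebraMap k K ((φ j).coeff 0) + x * aeval x (φ j).divX := fun j => by
      conv_lhs => rw [← X_mul_divX_add (φ j)]
      rw [map_add, map_mul, aeval_X, aeval_C]; ring
    have hc := h s (fun j => (φ j).divX) (fun j => (φ j).coeff 0) (by
      rw [← hφ]; exact Finset.sum_congr rfl fun j _ => by rw [hd j])
    have h2 : ∑ j ∈ s, aeval x (φ j).divX * f j = 0 := by
      have h3 : x * ∑ j ∈ s, aeval x (φ j).divX * f j = 0 := by
        rw [← hφ, Finset.mul_sum]
        exact Finset.sum_congr rfl fun j hj => by rw [hd j, hc j hj, map_zero]; ring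
      exact (mul_eq_zero.1 h3).resolve_left hx
    intro i hi
    have := ih (fun j => (φ j).divX) h2 (fun j hj => by
      have := hN j hj
      rw [natDegree_divX_eq_natDegree_tsub_one]; omega) i hi
    rw [hd i, hc i hi, this]; simp

theorem v_aeval_le (P : Place k K) {x : K} (hx : P.1 x ≤ 1) (ψ : k[X]) : P.1 (aeval x ψ) ≤ 1 := by
  induction ψ using Polynomial.induction_on' with
  | add p q hp hq => rw [map_add]; exact (Valuation.map_add _ _ _).trans (max_le hp hq)
  | monomial n a =>
    rw [aeval_monomial, map_mul, map_pow]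
    exact mul_le_one' (P.2.1 a) (pow_le_one₀ zero_le hx)

/-- Strictly increasing chains below a fixed element have bounded length. -/
theorem chain_le (hK : IsFF0 k K) (O : ValuationSubring K)
    (hk : ∀ c : k, algebraMap k K c ∈ O) (z : K) (hz0 : z ≠ 0) (hz : O.valuation z < 1)
    (hztr : Transcendental k z) {m : ℕ} (c : Fin m → K)
    (hc : StrictMono fun i => O.valuation (c i)) (hzc : ∀ i, O.valuation z ≤ O.valuation (c i))
    (hc1 : ∀ i, O.valuation (c i) < 1) :
    m ≤ Module.finrank (IntermediateField.adjoin k ({z} : Set K)) K := by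
  classical
  have := finite_over hK hztr
  have hz1 : ∀ ψ : k[X], O.valuation (aeval z ψ) ≤ 1 := fun ψ => by
    induction ψ using Polynomial.induction_on' with
    | add p q hp hq => rw [map_add]; exact (Valuation.map_add _ _ _).trans (max_le hp hq)
    | monomial n a =>
      rw [aeval_monomial, map_mul, map_pow]
      exact mul_le_one' ((O.valuation_le_one_iff _).2 (hk a)) (pow_le_one₀ zero_le hz.le)
  have hunit : ∀ a : k, a ≠ 0 → O.valuation (algebraMap k K a) = 1 := fun a ha => by
    refine le_antisymm ((O.valuation_le_one_iff _).2 (hk a)) ?_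
    have h2 := (O.valuation_le_one_iff _).2 (hk a⁻¹)
    rw [map_inv₀, map_inv₀] at h2
    exact (inv_le_one₀ (zero_lt_iff.2 ((Valuation.ne_zero_iff _).2
      (by simpa using ha)))).1 h2
  have hli := linearIndependent_adjoin (k := k) z c (fun s φ hφ => eq_zero_of_reduce hz0 c (fun s ψ a hsum => by
    by_contra hne
    push Not at hne
    obtain ⟨i0, hi0, hai0⟩ := hne
    set T := s.filter fun i => a i ≠ 0
    have hT : T.Nonempty := ⟨i0, mem_filter.2 ⟨hi0, hai0⟩⟩
    obtain ⟨hj, haj⟩ := mem_filter.1 (T.max'_mem hT)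
    set j := T.max' hT
    have hcj : O.valuation ((algebraMap k K (a j) + z * aeval z (ψ j)) * c j) = O.valuation (c j) := by
      rw [map_mul, Valuation.map_add_eq_of_lt_left, hunit _ haj, one_mul]
      rw [hunit _ haj, map_mul]
      exact mul_lt_one_of_lt_of_le hz (hz1 _)
    have hlt : ∀ i ∈ s \ {j}, O.valuation ((algebraMap k K (a i) + z * aeval z (ψ i)) * c i) <
        O.valuation ((algebraMap k K (a j) + z * aeval z (ψ j)) * c j) := by
      intro i hi
      rw [mem_sdiff, Finset.mem_singleton] at hi
      rw [hcj, map_mul]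
      by_cases hai : a i = 0
      · rw [hai, map_zero, zero_add, map_mul]
        calc O.valuation z * O.valuation (aeval z (ψ i)) * O.valuation (c i)
            ≤ O.valuation z * O.valuation (c i) := mul_le_mul_left (mul_le_of_le_one_right' (hz1 _)) _
          _ < O.valuation z * 1 := mul_lt_mul_of_pos_left (hc1 i) (zero_lt_iff.2 ((Valuation.ne_zero_iff _).2 hz0))
          _ ≤ O.valuation (c j) := by rw [mul_one]; exact hzc j
      · have hij : i < j := lt_of_le_of_ne (T.le_max' i (mem_filter.2 ⟨hi.1, hai⟩)) hi.2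
        calc O.valuation (algebraMap k K (a i) + z * aeval z (ψ i)) * O.valuation (c i)
            ≤ 1 * O.valuation (c i) := mul_le_mul_left ((Valuation.map_add _ _ _).trans (max_le (hunit _ hai).le
              (by rw [map_mul]; exact mul_le_one' hz.le (hz1 _)))) _
          _ < O.valuation (c j) := by rw [one_mul]; exact hc hij
    have hv := Valuation.map_sum_eq_of_lt O.valuation hj hlt
    rw [hsum, map_zero, hcj] at hv
    exact absurd hv.symm (fun h0 => by
      have := hzc j
      rw [h0, le_zero_iff] at this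
      exact hz0 ((map_eq_zero _).1 this))) s φ hφ)
  simpa using hli.fintype_card_le_finrank

/-- Every valuation ring of `K` containing `k`, other than `K`, is the ring of a place. -/
theorem exists_place (hK : IsFF0 k K) (O : ValuationSubring K)
    (hk : ∀ c : k, algebraMap k K c ∈ O) (hne : ∃ z : K, z ≠ 0 ∧ O.valuation z < 1) :
    ∃ P : Place k K, ∀ z : K, P.1 z ≤ 1 ↔ z ∈ O := by
  classical
  have htr : ∀ z : K, z ≠ 0 → O.valuation z < 1 → Transcendental k z := fun z h0 h1 halg => by
    have h2 := (O.valuation_le_one_iff _).2 (mem_of_algebraic O hk halg.inv)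
    rw [map_inv₀, inv_le_one₀ (zero_lt_iff.2 ((Valuation.ne_zero_iff _).2 h0))] at h2
    exact absurd (h1.trans_le h2) (lt_irrefl _)
  obtain ⟨t, ht0, ht, hmax⟩ : ∃ t : K, t ≠ 0 ∧ O.valuation t < 1 ∧
      ∀ z : K, O.valuation z < 1 → O.valuation z ≤ O.valuation t := by
    by_contra hc
    push Not at hc
    obtain ⟨z, hz0, hz⟩ := hne
    choose! nxt hn1 hn2 using hc
    let seq : ℕ → K := fun i => Nat.rec z (fun _ a => nxt a) i
    have hs : ∀ i, seq i ≠ 0 ∧ O.valuation (seq i) < 1 := fun i => by
      induction i with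
      | zero => exact ⟨hz0, hz⟩
      | succ i ih =>
        have h2 := hn2 (seq i) ih.1 ih.2
        refine ⟨fun h0 => ?_, hn1 (seq i) ih.1 ih.2⟩
        change O.valuation (seq i) < O.valuation (seq (i + 1)) at h2
        rw [h0, map_zero] at h2
        exact not_lt_zero h2
    have hmono : StrictMono fun i => O.valuation (seq i) :=
      strictMono_nat_of_lt_succ fun i => hn2 (seq i) (hs i).1 (hs i).2
    have := chain_le hK O hk z hz0 hz (htr z hz0 hz)
      (fun i : Fin (Module.finrank (IntermediateField.adjoin k ({z} : Set K)) K + 1) => seq i)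
      (fun i j hij => hmono hij) (fun i => hmono.monotone (Nat.zero_le _)) (fun i => (hs i).2)
    omega
  have hlt : ∀ z : K, z ≠ 0 → O.valuation z < 1 → ∃ i : ℤ, O.valuation z = O.valuation t ^ i := by
    intro z hz0 hz
    have hex : ∃ i : ℕ, O.valuation t ^ i < O.valuation z := by
      by_contra hc
      push Not at hc
      set n := Module.finrank (IntermediateField.adjoin k ({z} : Set K)) K
      have := chain_le hK O hk z hz0 hz (htr z hz0 hz) (fun i : Fin (n + 1) => t ^ (n + 1 - i.val))
        (fun i j hij => by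
          simp only [map_pow]
          exact pow_lt_pow_right_of_lt_one₀ (zero_lt_iff.2 ((Valuation.ne_zero_iff _).2 ht0)) ht (by
            have : i.val < j.val := hij
            omega))
        (fun i => by rw [map_pow]; exact hc _) (fun i => by
          rw [map_pow]; exact pow_lt_one₀ zero_le ht (by omega))
      omega
    have h2 : 2 ≤ Nat.find hex := by
      by_contra h2
      have hs := Nat.find_spec hex
      rcases (show Nat.find hex = 0 ∨ Nat.find hex = 1 by omega) with h | h <;> rw [h] at hs
      · rw [pow_zero] at hs; exact lt_asymm hs hz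
      · rw [pow_one] at hs; exact absurd (hmax z hz) (not_le.2 hs)
    obtain ⟨m, hm⟩ : ∃ m, Nat.find hex = m + 1 := ⟨Nat.find hex - 1, by omega⟩
    refine ⟨m, ?_⟩
    rw [zpow_natCast]
    have h1 : O.valuation z ≤ O.valuation t ^ m := not_lt.1 (Nat.find_min hex (by omega))
    rcases h1.lt_or_eq with h1 | h1
    · exfalso
      have h3 := hmax (z / t ^ m) (by
        rw [map_div₀, map_pow, div_lt_one₀ (pow_pos (zero_lt_iff.2 ((Valuation.ne_zero_iff _).2 ht0)) _)]
        exact h1)
      rw [map_div₀, map_pow, div_le_iff₀ (pow_pos (zero_lt_iff.2 ((Valuation.ne_zero_iff _).2 ht0)) _),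
        ← pow_succ', ← hm] at h3
      exact absurd (Nat.find_spec hex) (not_lt.2 h3)
    · exact h1
  have hall : ∀ z : K, z ≠ 0 → ∃ i : ℤ, O.valuation z = O.valuation t ^ i := by
    intro z hz0
    rcases lt_trichotomy (O.valuation z) 1 with h | h | h
    · exact hlt z hz0 h
    · exact ⟨0, by rw [h, zpow_zero]⟩
    · obtain ⟨i, hi⟩ := hlt z⁻¹ (inv_ne_zero hz0) (by rw [map_inv₀]; exact inv_lt_one_of_one_lt₀ h)
      exact ⟨-i, by rw [zpow_neg, ← hi, map_inv₀, inv_inv]⟩
  have htp : 0 < O.valuation t := zero_lt_iff.2 ((Valuation.ne_zero_iff _).2 ht0)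
  choose! ex hex using hall
  let w : K → WithZero (Multiplicative ℤ) := fun z => if z = 0 then 0 else exp (-(ex z))
  have hle : ∀ z y : K, w z ≤ w y ↔ O.valuation z ≤ O.valuation y := by
    intro z y
    rcases eq_or_ne z 0 with rfl | hz
    · simp [w]
    rcases eq_or_ne y 0 with rfl | hy
    · simp [w, hz]
    simp only [w, hz, hy, if_false, exp_le_exp, neg_le_neg_iff]
    rw [hex z hz, hex y hy, (zpow_right_strictAnti₀ htp ht).le_iff_ge]
  have hw : ∀ (z : K) (i : ℤ), O.valuation z = O.valuation t ^ i → w z = exp (-i) := by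
    intro z i hi
    have hz : z ≠ 0 := fun h => by rw [h, map_zero] at hi; exact (zpow_ne_zero i htp.ne') hi.symm
    simp only [w, hz, if_false, exp_inj, neg_inj]
    exact (zpow_right_strictAnti₀ htp ht).injective ((hex z hz).symm.trans hi)
  let W : Valuation K (WithZero (Multiplicative ℤ)) :=
    { toFun := w
      map_zero' := if_pos rfl
      map_one' := by rw [hw 1 0 (by simp)]; simp
      map_mul' := fun z y => by
        rcases eq_or_ne z 0 with rfl | hz
        · simp [w]
        rcases eq_or_ne y 0 with rfl | hy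
        · simp [w]
        rw [hw (z * y) (ex z + ex y) (by rw [map_mul, zpow_add₀ htp.ne', ← hex z hz, ← hex y hy]),
          hw z (ex z) (hex z hz), hw y (ex y) (hex y hy), ← exp_add, neg_add]
      map_add_le_max' := fun z y => by
        rcases le_total (O.valuation z) (O.valuation y) with h | h
        · exact le_max_of_le_right ((hle _ _).2 ((Valuation.map_add _ _ _).trans (max_le h le_rfl)))
        · exact le_max_of_le_left ((hle _ _).2 ((Valuation.map_add _ _ _).trans (max_le le_rfl h))) }
  have hW : ∀ z, W z ≤ 1 ↔ z ∈ O := fun z => by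
    rw [← O.valuation_le_one_iff, ← map_one O.valuation, ← hle, ← map_one W]
    rfl
  refine ⟨⟨W, fun c => (hW _).2 (hk c), fun g => ?_⟩, hW⟩
  rcases eq_or_ne g 0 with rfl | hg
  · exact ⟨0, map_zero W⟩
  · refine ⟨t ^ (-(log g)), (hw _ _ (by rw [map_zpow₀])).trans ?_⟩
    rw [neg_neg, exp_log hg]

theorem exists_zero (hK : IsFF0 k K) {z : K} (hz : Transcendental k z) :
    ∃ P : Place k K, P.1 z < 1 := by
  let R := (Algebra.adjoin k ({z} : Set K)).toSubring
  let zR : R := ⟨z, Algebra.subset_adjoin rfl⟩
  have hI : Ideal.span {zR} ≠ ⊤ := by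
    rw [Ne, Ideal.span_singleton_eq_top]
    intro hu
    obtain ⟨⟨b, hb⟩, hb'⟩ := isUnit_iff_exists_inv.1 hu
    have hb2 : z * b = 1 := congrArg Subtype.val hb'
    rw [Subalgebra.mem_toSubring, Algebra.adjoin_singleton_eq_range_aeval] at hb
    obtain ⟨p, rfl⟩ := hb
    have hb3 : z * aeval z p = 1 := hb2
    have : X * p - 1 = 0 := (transcendental_iff.1 hz) _ (by simp [hb3])
    have := congrArg (fun q : k[X] => q.coeff 0) this
    simp at this
  obtain ⟨O, hRO, hIO⟩ := Ideal.image_subset_nonunits_valuationSubring _ hI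
  have hzO : O.valuation z < 1 := hIO ⟨zR, Ideal.subset_span rfl, rfl⟩
  have hz0 : z ≠ 0 := fun h => by subst h; exact hz isAlgebraic_zero
  obtain ⟨P, hP⟩ := exists_place hK O (fun c => hRO (Subalgebra.algebraMap_mem _ c)) ⟨z, hz0, hzO⟩
  refine ⟨P, lt_of_le_of_ne ((hP z).2 ((O.valuation_le_one_iff _).1 hzO.le)) fun h => ?_⟩
  have h2 : z⁻¹ ∈ O := (hP _).1 (by rw [map_inv₀, h, inv_one])
  rw [← O.valuation_le_one_iff, map_inv₀, inv_le_one₀ (zero_lt_iff.2 ((Valuation.ne_zero_iff _).2 hz0))] at h2
  exact absurd hzO (not_lt.2 h2)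

open scoped Classical in
/-- `-` the part of the zero divisor of `x` supported on `S`. -/
theorem zeros_bound (hK : IsFF0 k K) {x : K} (hx : Transcendental k x)
    (S : Finset (Place k K)) (hS : ∀ P ∈ S, P.1 x < 1) :
    ∀ (D : Divisor k K), (∀ P, D P = if P ∈ S then -(P.ord x) else 0) →
      ∃ n : ℤ, Rel (AD D) (AD 0) n ∧
        n ≤ Module.finrank (IntermediateField.adjoin k ({x} : Set K)) K := by
  intro D hD
  have hfin := finite_over hK hx
  have hx0 : x ≠ 0 := fun h => by subst h; exact hx isAlgebraic_zero
  have hle : D ≤ 0 := fun P => by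
    rw [hD]; split_ifs with h
    · have := (v_lt_one_iff P hx0).1 (hS P h); simp; omega
    · simp
  set Q := ↥(AD (0 : Divisor k K)) ⧸ (AD D).comap (AD (0 : Divisor k K)).subtype
  have hrank : Module.rank k Q ≤ Module.finrank (IntermediateField.adjoin k ({x} : Set K)) K := by
    by_contra hc
    have hc' : ((Module.finrank (IntermediateField.adjoin k ({x} : Set K)) K + 1 : ℕ) : Cardinal) ≤
        Module.rank k Q := by
      rw [Nat.cast_add, Nat.cast_one, Cardinal.natCast_add_one_le_iff]; exact not_le.1 hc
    obtain ⟨q, hq⟩ := exists_linearIndependent_of_le_rank hc'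
    choose a ha using fun i => Submodule.Quotient.mk_surjective _ (q i)
    choose y hy using fun i => approx S (fun P => (a i).1 P) D
    have hyS : ∀ i, ∀ P ∈ S, P.1 (y i) ≤ 1 := fun i P hP => by
      have h1 : P.1 ((a i).1 P) ≤ 1 := by simpa using (a i).2 P
      have h2 : P.1 (y i - (a i).1 P) ≤ 1 := (hy i P hP).trans (by
        have := hle P
        simpa [← exp_zero] using this)
      simpa using (Valuation.map_add P.1 (y i - (a i).1 P) ((a i).1 P)).trans (max_le h2 h1)
    have hli := linearIndependent_adjoin (k := k) x y (fun s φ hφ => eq_zero_of_reduce hx0 y (fun s ψ c hsum => by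
      have hmem : (∑ i ∈ s, c i • (a i).1) ∈ AD D := by
        intro P
        rw [Finset.sum_apply]
        by_cases hP : P ∈ S
        · have h1 : ∑ i ∈ s, c i • (a i).1 P = (-(∑ i ∈ s, c i • (y i - (a i).1 P))) +
              -(x * ∑ i ∈ s, aeval x (ψ i) * y i) := by
            have h2 : x * ∑ i ∈ s, aeval x (ψ i) * y i = -∑ i ∈ s, c i • y i := by
              rw [eq_neg_iff_add_eq_zero, ← hsum, Finset.mul_sum, ← Finset.sum_add_distrib]
              exact Finset.sum_congr rfl fun i _ => by rw [Algebra.smul_def]; ring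
            simp only [h2, smul_sub, Finset.sum_sub_distrib, neg_neg, neg_sub, sub_add_cancel]
          simp only [Pi.smul_apply]
          rw [h1]
          refine (Valuation.map_add _ _ _).trans (max_le ?_ ?_)
          · rw [Valuation.map_neg]
            exact Valuation.map_sum_le _ fun i _ => v_smul_le P _ _ (hy i P hP)
          · rw [Valuation.map_neg, map_mul, hD, if_pos hP, ← v_eq_exp P hx0]
            exact mul_le_of_le_one_right' (Valuation.map_sum_le _ fun i _ => by
              rw [map_mul]
              exact mul_le_one' (v_aeval_le P (hS P hP).le _) (hyS i P hP))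
        · rw [hD, if_neg hP]
          refine Valuation.map_sum_le _ fun i _ => v_smul_le P _ _ ?_
          simpa using (a i).2 P
      have h0 : ∑ i ∈ s, c i • q i = 0 := by
        have : (Submodule.Quotient.mk (∑ i ∈ s, c i • a i) : Q) = 0 := by
          rw [Submodule.Quotient.mk_eq_zero]
          simpa using hmem
        rw [← this, ← Submodule.mkQ_apply, map_sum]
        exact Finset.sum_congr rfl fun i _ => by rw [map_smul, Submodule.mkQ_apply, ha]
      exact linearIndependent_iff'.1 hq s c h0) s φ hφ)
    have := hli.fintype_card_le_finrank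
    rw [Fintype.card_fin] at this
    omega
  have hQ : Module.Finite k Q := Module.rank_lt_aleph0_iff.1 (hrank.trans_lt (Cardinal.natCast_lt_aleph0))
  refine ⟨_, ⟨AD_mono hle, hQ, rfl⟩, ?_⟩
  rw [← Module.finrank_eq_rank] at hrank
  exact_mod_cast hrank

theorem finite_residue (hK : IsFF0 k K) (P : Place k K) :
    FiniteDimensional k (IsLocalRing.ResidueField P.O) := by
  classical
  obtain ⟨x, hx0, hx⟩ := exists_exp P (-1)
  have hord : P.ord x = 1 := by
    have := v_eq_exp P hx0
    rw [hx, exp_inj] at this; omega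
  have hlt : P.1 x < 1 := by rw [lt_one_iff_le]; exact hx.le
  set D : Divisor k K := -Finsupp.single P 1
  obtain ⟨n, hn, -⟩ := zeros_bound hK (transcendental_of_v_lt_one hK P hx0 hlt) {P}
    (fun Q hQ => by rw [Finset.mem_singleton.1 hQ]; exact hlt) D
    (fun Q => by
      rcases eq_or_ne Q P with rfl | h
      · simp [D, hord]
      · simp [D, h])
  have hD0 : D + Finsupp.single P 1 = 0 := neg_add_cancel _
  obtain ⟨t, -, ht⟩ := exists_exp P (-(D P + 1))
  have hker := stepMap_ker D P t ht
  have hQ : Module.Finite k (↥(AD (D + Finsupp.single P 1)) ⧸ (AD D).comap (AD (D + Finsupp.single P 1)).subtype) := by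
    rw [hD0]; exact hn.2.1
  exact Module.Finite.equiv ((Submodule.quotEquivOfEq _ _ hker.symm).trans
    ((stepMap D P t ht).quotKerEquivOfSurjective (stepMap_surjective D P t ht)))

theorem deg_pos (hK : IsFF0 k K) (P : Place k K) : 0 < P.deg := by
  have := finite_residue hK P
  exact Module.finrank_pos

theorem zeros_deg_le (hK : IsFF0 k K) {x : K} (hx : Transcendental k x)
    (S : Finset (Place k K)) (hS : ∀ P ∈ S, P.1 x < 1) :
    (∑ P ∈ S, P.ord x * (P.deg : ℤ)) ≤ Module.finrank (IntermediateField.adjoin k ({x} : Set K)) K := by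
  classical
  let D : Divisor k K := ∑ P ∈ S, Finsupp.single P (-(P.ord x))
  have hD : ∀ P, D P = if P ∈ S then -(P.ord x) else 0 := fun P => by
    simp only [D, Finsupp.finsetSum_apply, Finsupp.single_apply, Finset.sum_ite_eq']
  obtain ⟨n, hn, hle⟩ := zeros_bound hK hx S hS D hD
  have hle' : D ≤ 0 := by
    have hx0 : x ≠ 0 := fun h => by subst h; exact hx isAlgebraic_zero
    intro P; rw [hD]; split_ifs with h
    · have := (v_lt_one_iff P hx0).1 (hS P h); simp; omega
    · simp
  have h1 := hn.unique (rel_AD (finite_residue hK) D 0 hle')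
  have h2 : D.deg = -∑ P ∈ S, P.ord x * (P.deg : ℤ) := by
    have : ∀ T : Finset (Place k K), Divisor.deg (∑ P ∈ T, Finsupp.single P (-(P.ord x)) : Divisor k K) =
        -∑ P ∈ T, P.ord x * (P.deg : ℤ) := fun T => by
      induction T using Finset.induction with
      | empty => simp [deg_zero]
      | insert a T ha ih => rw [Finset.sum_insert ha, deg_add, deg_single, ih, Finset.sum_insert ha]; ring
    exact this S
  rw [deg_zero, h2] at h1
  omega

theorem finite_ord_support (hK : IsFF0 k K) (x : K) :
    (Function.support fun P : Place k K => P.ord x).Finite := by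
  by_cases hxk : IsAlgebraic k x
  · simp [ord_of_algebraic _ hxk]
  have hzf : ∀ z : K, Transcendental k z → {P : Place k K | 0 < P.ord z}.Finite := by
    intro z hz
    have hz0 : z ≠ 0 := fun h => by subst h; exact hz isAlgebraic_zero
    by_contra hinf
    obtain ⟨S, hS, hc⟩ := Set.Infinite.exists_subset_card_eq hinf
      (Module.finrank (IntermediateField.adjoin k ({z} : Set K)) K + 1)
    have h1 := zeros_deg_le hK hz S
      (fun P hP => (v_lt_one_iff P hz0).2 (hS hP))
    have h2 : (S.card : ℤ) ≤ ∑ P ∈ S, P.ord z * (P.deg : ℤ) := by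
      rw [Finset.card_eq_sum_ones, Nat.cast_sum]
      refine Finset.sum_le_sum fun P hP => ?_
      have e1 : 0 < P.ord z := hS hP
      have e2 : (1 : ℤ) ≤ P.deg := by exact_mod_cast deg_pos hK P
      push_cast; nlinarith
    rw [hc] at h2
    push_cast at h2
    linarith
  refine ((hzf x hxk).union (hzf x⁻¹ fun h => hxk (by simpa using h.inv))).subset ?_
  intro P hP
  simp only [Function.mem_support, ne_eq] at hP
  simp only [Set.mem_union, Set.mem_setOf_eq, ord_inv]
  omega

theorem div_apply (hK : IsFF0 k K) (x : K) (P : Place k K) : FunFld.div k x P = P.ord x := by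
  unfold FunFld.div
  rw [dif_pos (finite_ord_support hK x)]
  rfl

theorem exists_pole' (hK : IsFF0 k K) {x : K} (hx : Transcendental k x) :
    ∃ P : Place k K, P.ord x < 0 := by
  have hinv : Transcendental k x⁻¹ := fun h => hx (by simpa using h.inv)
  have hx0 : x ≠ 0 := fun h => by subst h; exact hx isAlgebraic_zero
  obtain ⟨P, hP⟩ := exists_zero hK hinv
  refine ⟨P, ?_⟩
  rw [v_lt_one_iff P (inv_ne_zero hx0), ord_inv] at hP
  omega

theorem exists_pole (hK : IsFunctionField k K) {x : K} (hx : x ∉ Set.range (algebraMap k K)) :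
    ∃ P : Place k K, P.ord x < 0 :=
  exists_pole' hK.1 (transcendental_of_not_mem hK hx)

theorem nonempty_place (hK : IsFF0 k K) : Nonempty (Place k K) :=
  let ⟨_, hx, _⟩ := hK
  ⟨(exists_zero hK hx).choose⟩

theorem diag_injective (hK : IsFF0 k K) : Function.Injective (FunFld.diag k K) := by
  obtain ⟨P⟩ := nonempty_place hK
  intro x y h
  exact congr_fun h P

end Groth.Agent.FunFldLib
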