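import Mathlib.Algebra.Polynomial.HasseDeriv
import Mathlib.Algebra.Polynomial.Div
import Mathlib.Algebra.Polynomial.FieldDivision
import Mathlib.Algebra.Polynomial.BigOperators
import Mathlib.LinearAlgebra.Vandermonde
import Mathlib.RingTheory.Polynomial.Pochhammer
import Mathlib.LinearAlgebra.Matrix.NonsingularInverse
import Mathlib.RingTheory.Coprime.Lemmas
import Mathlib.Algebra.Polynomial.Taylor

/-! Vanishing orders of a finite family of polynomials and its Wronskian. -/

namespace Groth.Agent.FunFldLib.Wronskian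

open Polynomial Matrix Finset

variable {k : Type*} [Field k] {N : ℕ}

/-- matrix of Hasse derivatives -/
noncomputable def wr (f : Fin N → k[X]) : Matrix (Fin N) (Fin N) k[X] :=
  Matrix.of fun i j => hasseDeriv (i : ℕ) (f j)

theorem det_choose_ne_zero [CharZero k] (e : Fin N → ℕ) (he : Function.Injective e) :
    (Matrix.of fun i j : Fin N => ((e j).choose (i : ℕ) : k)).det ≠ 0 := by
  have h := Matrix.det_eval_matrixOfPolynomials_eq_det_vandermonde (fun j => (e j : k))
    (fun i : Fin N => descPochhammer k (i : ℕ)) (fun i => descPochhammer_natDegree k i)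
    (fun i => monic_descPochhammer k i)
  have hv : (Matrix.vandermonde fun j => (e j : k)).det ≠ 0 :=
    Matrix.det_vandermonde_ne_zero_iff.2 fun a b hab => he (by exact_mod_cast hab)
  rw [h] at hv
  have e1 : (Matrix.of fun i j : Fin N => (descPochhammer k (j : ℕ)).eval (e i : k)) =
      (Matrix.of fun i j : Fin N => ((j : ℕ).factorial : k) *
        (Matrix.of fun i j : Fin N => ((e j).choose (i : ℕ) : k)).transpose i j) := by
    ext i j
    simp only [Matrix.of_apply, Matrix.transpose_apply, descPochhammer_eval_eq_descFactorial,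
      Nat.descFactorial_eq_factorial_mul_choose, Nat.cast_mul]
  intro h0
  apply hv
  rw [e1, Matrix.det_mul_row, Matrix.det_transpose, h0, mul_zero]

theorem natDegree_X_pow_mul_hasseDeriv_le (p : k[X]) (i : ℕ) :
    (X ^ i * hasseDeriv i p).natDegree ≤ p.natDegree := by
  by_cases h : hasseDeriv i p = 0
  · simp [h]
  rw [natDegree_mul (pow_ne_zero _ X_ne_zero) h, natDegree_X_pow]
  have h1 := natDegree_hasseDeriv_le p i
  have h2 : i ≤ p.natDegree := by
    by_contra hlt
    exact h (hasseDeriv_eq_zero_of_lt_natDegree p i (by omega))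
  omega

theorem coeff_X_pow_mul_hasseDeriv (p : k[X]) (i : ℕ) :
    (X ^ i * hasseDeriv i p).coeff p.natDegree = p.leadingCoeff * (p.natDegree.choose i : k) := by
  rw [coeff_X_pow_mul']
  split_ifs with h
  · rw [hasseDeriv_coeff, Nat.sub_add_cancel h, mul_comm]
    rfl
  · rw [Nat.choose_eq_zero_of_lt (by omega), Nat.cast_zero, mul_zero]

theorem det_mul_X_pow (f : Fin N → k[X]) :
    (Matrix.of fun i j : Fin N => X ^ (i : ℕ) * wr f i j).det =
      X ^ (∑ i : Fin N, (i : ℕ)) * (wr f).det := by
  rw [Matrix.det_mul_column, Finset.prod_pow_eq_pow_sum]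

theorem natDegree_term_le (f : Fin N → k[X]) (σ : Equiv.Perm (Fin N)) :
    ∀ j ∈ (univ : Finset (Fin N)),
      ((Matrix.of fun i l : Fin N => X ^ (i : ℕ) * wr f i l) (σ j) j).natDegree ≤ (f j).natDegree :=
  fun j _ => natDegree_X_pow_mul_hasseDeriv_le (f j) _

theorem natDegree_det_le (f : Fin N → k[X]) :
    (Matrix.of fun i j : Fin N => X ^ (i : ℕ) * wr f i j).det.natDegree ≤ ∑ j, (f j).natDegree := by
  rw [Matrix.det_apply]
  refine natDegree_sum_le_of_forall_le _ _ fun σ _ => ?_
  refine (natDegree_smul_le _ _).trans ((natDegree_prod_le _ _).trans ?_)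
  exact Finset.sum_le_sum (natDegree_term_le f σ)

theorem coeff_det (f : Fin N → k[X]) :
    (Matrix.of fun i j : Fin N => X ^ (i : ℕ) * wr f i j).det.coeff (∑ j, (f j).natDegree) =
      (∏ j, (f j).leadingCoeff) *
        (Matrix.of fun i j : Fin N => (((f j).natDegree).choose (i : ℕ) : k)).det := by
  rw [Matrix.det_apply, Matrix.det_apply, finsetSum_coeff, Finset.mul_sum]
  refine Finset.sum_congr rfl fun σ _ => ?_
  rw [coeff_smul]
  have h : ∀ (s : Finset (Fin N)),
      (∏ j ∈ s, (Matrix.of fun i l : Fin N => X ^ (i : ℕ) * wr f i l) (σ j) j).coeff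
        (∑ j ∈ s, (f j).natDegree) =
      ∏ j ∈ s, ((f j).leadingCoeff * ((f j).natDegree.choose (σ j : ℕ) : k)) := by
    intro s
    induction s using Finset.induction_on with
    | empty => simp
    | insert a s ha ih =>
      rw [Finset.prod_insert ha, Finset.sum_insert ha, Finset.prod_insert ha,
        coeff_mul_add_eq_of_natDegree_le (natDegree_term_le f σ a (mem_univ a))
          ((natDegree_prod_le _ _).trans
            (Finset.sum_le_sum fun j hj => natDegree_term_le f σ j (mem_univ j))), ih]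
      congr 1
      exact coeff_X_pow_mul_hasseDeriv (f a) _
  rw [h univ, Finset.prod_mul_distrib, mul_smul_comm]
  rfl

/-- the Wronskian of a family with pairwise different degrees -/
theorem det_wr_ne_zero [CharZero k] (f : Fin N → k[X]) (h0 : ∀ j, f j ≠ 0)
    (he : Function.Injective fun j => (f j).natDegree) :
    (wr f).det ≠ 0 ∧ (wr f).det.natDegree + ∑ i : Fin N, (i : ℕ) ≤ ∑ j, (f j).natDegree := by
  have h1 : (wr f).det ≠ 0 := by
    intro h
    have := coeff_det f
    rw [det_mul_X_pow, h, mul_zero, coeff_zero, eq_comm, mul_eq_zero] at this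
    rcases this with h | h
    · obtain ⟨j, -, hj⟩ := Finset.prod_eq_zero_iff.1 h
      exact h0 j (leadingCoeff_eq_zero.1 hj)
    · exact det_choose_ne_zero _ he h
  refine ⟨h1, ?_⟩
  have := natDegree_det_le f
  rw [det_mul_X_pow, natDegree_mul (pow_ne_zero _ X_ne_zero) h1, natDegree_X_pow] at this
  omega

theorem hasseDeriv_C_mul (c : k) (p : k[X]) (i : ℕ) :
    hasseDeriv i (C c * p) = C c * hasseDeriv i p := by
  rw [← smul_eq_C_mul, ← smul_eq_C_mul, map_smul]

theorem pow_dvd_hasseDeriv (p : k[X]) (a : k) (m i : ℕ) (h : (X - C a) ^ m ∣ p) :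
    (X - C a) ^ m ∣ (X - C a) ^ i * hasseDeriv i p := by
  obtain ⟨q, rfl⟩ := h
  rw [hasseDeriv_mul, Finset.mul_sum]
  refine Finset.dvd_sum fun x hx => ?_
  rw [Finset.mem_antidiagonal] at hx
  rw [← mul_assoc]
  refine dvd_mul_of_dvd_left ?_ _
  have h1 : hasseDeriv x.1 ((X - C a) ^ m) = C (m.choose x.1 : k) * (X - C a) ^ (m - x.1) := by
    have : taylor a (hasseDeriv x.1 ((X - C a) ^ m)) = taylor a (C (m.choose x.1 : k) * (X - C a) ^ (m - x.1)) := by
      ext n
      have h2 : taylor a ((X - C a) ^ m) = X ^ m := by simp [taylor_apply]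
      have h3 : taylor a ((X - C a) ^ (m - x.1)) = X ^ (m - x.1) := by simp [taylor_apply]
      rw [taylor_coeff, taylor_mul, taylor_C, h3, coeff_C_mul_X_pow]
      have h4 := DFunLike.congr_fun (hasseDeriv_comp (R := k) n x.1) ((X - C a) ^ m)
      simp only [LinearMap.comp_apply, LinearMap.smul_apply] at h4
      rw [h4, eval_smul, ← taylor_coeff, h2, coeff_X_pow]
      split_ifs with ha hb hb <;> simp only [nsmul_eq_mul, mul_one, mul_zero]
      · rw [← ha, Nat.choose_symm_add]
      · exact absurd (by omega) hb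
      · rw [Nat.choose_eq_zero_of_lt (by omega : m < x.1), Nat.cast_zero]
    exact taylor_injective a this
  rw [h1, ← mul_assoc, mul_comm _ (C _), mul_assoc, ← pow_add]
  exact dvd_mul_of_dvd_right (pow_dvd_pow _ (by omega)) _

/-- the Wronskian bound: multiplicities at finitely many points against degrees -/
theorem sum_mult_le [CharZero k] (g : Fin N → k[X]) (hg0 : ∀ j, g j ≠ 0)
    (hg : Function.Injective fun j => (g j).natDegree) (S : Finset k) (f : k → Fin N → k[X])
    (hf : ∀ a ∈ S, LinearIndependent k (f a) ∧ ∀ j, f a j ∈ Submodule.span k (Set.range g))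
    (m : k → Fin N → ℕ) (hm : ∀ a ∈ S, ∀ j, (X - C a) ^ m a j ∣ f a j) :
    (∑ a ∈ S, ((∑ j, (m a j : ℤ)) - ∑ i : Fin N, (i : ℤ))) ≤
      (∑ j, ((g j).natDegree : ℤ)) - ∑ i : Fin N, (i : ℤ) := by
  obtain ⟨hne, hdeg⟩ := det_wr_ne_zero g hg0 hg
  set R := ∑ i : Fin N, (i : ℕ) with hR
  have hd : ∀ a ∈ S, (X - C a) ^ (∑ j, m a j - R) ∣ (wr g).det := by
    intro a ha
    obtain ⟨hli, hsp⟩ := hf a ha
    choose c hc using fun j => (Submodule.mem_span_range_iff_exists_fun k).1 (hsp j)
    set M : Matrix (Fin N) (Fin N) k := Matrix.of fun i j => c j i with hM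
    have hMu : IsUnit M := by
      rw [← Matrix.mulVec_injective_iff_isUnit]
      intro v w hvw
      have h : ∀ v : Fin N → k, ∑ j, v j • f a j = ∑ i, (M.mulVec v) i • g i := by
        intro v
        simp only [← hc, Finset.smul_sum, Matrix.mulVec, dotProduct, Finset.sum_smul, smul_smul, hM,
          Matrix.of_apply]
        rw [Finset.sum_comm]
        simp only [mul_comm]
      have := Fintype.linearIndependent_iff.1 hli (fun j => v j - w j) (by
        simp only [sub_smul, Finset.sum_sub_distrib, h, hvw, sub_self])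
      exact funext fun j => sub_eq_zero.1 (this j)
    have hwr : wr (f a) = wr g * M.map C := by
      refine Matrix.ext fun i j => ?_
      simp only [wr, Matrix.mul_apply, Matrix.of_apply, Matrix.map_apply, ← hc, map_sum, hM]
      refine Finset.sum_congr rfl fun l _ => ?_
      rw [map_smul, smul_eq_C_mul, mul_comm]
    have hdet : (wr (f a)).det = (wr g).det * C M.det := by
      rw [hwr, Matrix.det_mul]
      congr 1
      exact (RingHom.map_det C M).symm
    have h1 : (X - C a) ^ (∑ j, m a j) ∣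
        (Matrix.of fun i j : Fin N => (X - C a) ^ (i : ℕ) * wr (f a) i j).det := by
      rw [Matrix.det_apply]
      refine Finset.dvd_sum fun σ _ => ?_
      rw [Units.smul_def, zsmul_eq_mul]
      refine dvd_mul_of_dvd_right ?_ _
      rw [← Finset.prod_pow_eq_pow_sum]
      exact Finset.prod_dvd_prod_of_dvd _ _ fun j _ => pow_dvd_hasseDeriv _ a _ _ (hm a ha j)
    rw [Matrix.det_mul_column, Finset.prod_pow_eq_pow_sum, ← hR, hdet] at h1
    have hu : IsUnit (C M.det) := isUnit_C.2 ((Matrix.isUnit_iff_isUnit_det _).1 hMu)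
    rw [← mul_assoc, IsUnit.dvd_mul_right hu] at h1
    rcases Nat.le_total (∑ j, m a j) R with hle | hle
    · rw [Nat.sub_eq_zero_of_le hle, pow_zero]; exact one_dvd _
    · obtain ⟨q, hq⟩ := h1
      refine ⟨q, mul_left_cancel₀ (pow_ne_zero R (X_sub_C_ne_zero a)) ?_⟩
      rw [hq, ← mul_assoc, ← pow_add, Nat.add_sub_cancel' hle]
  have hprod : (∏ a ∈ S, (X - C a) ^ (∑ j, m a j - R)) ∣ (wr g).det :=
    Finset.prod_dvd_of_coprime (fun a ha b hb hab =>
      (Polynomial.pairwise_coprime_X_sub_C Function.injective_id hab).pow) hd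
  have h2 := natDegree_le_of_dvd hprod hne
  rw [natDegree_prod _ _ fun a _ => pow_ne_zero _ (X_sub_C_ne_zero a)] at h2
  simp only [natDegree_pow, natDegree_X_sub_C, mul_one] at h2
  have h3 : ∀ a, ((∑ j, (m a j : ℤ)) - ∑ i : Fin N, (i : ℤ)) ≤ ((∑ j, m a j - R : ℕ) : ℤ) := by
    intro a
    have : ((∑ j, m a j : ℕ) : ℤ) - (R : ℤ) ≤ ((∑ j, m a j - R : ℕ) : ℤ) := by omega
    simpa [hR] using this
  refine (Finset.sum_le_sum fun a _ => h3 a).trans ?_
  have h4 : (((∑ a ∈ S, (∑ j, m a j - R)) + R : ℕ) : ℤ) ≤ ((∑ j, (g j).natDegree : ℕ) : ℤ) := by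
    exact_mod_cast (show _ ≤ _ by omega)
  push_cast [hR] at h4 ⊢
  linarith

end Groth.Agent.FunFldLib.Wronskian
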