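import Groth.Agent.FunFldLib.Order
import Groth.Agent.FunFldLib.Wronskian
import Mathlib.Algebra.Polynomial.AlgebraMap
import Mathlib.Tactic.Linarith

/-! Weights of linear series at places. -/

set_option autoImplicit false

open WithZero Finset Polynomial

namespace Groth.Agent.FunFldLib

open FunFld

variable {k K : Type*} [Field k] [Field K] [Algebra k K]

/-- `∑_{n=1}^{d} dim V(-nP)` -/
noncomputable def vsum (D : Divisor k K) (V : Submodule k K) (P : Place k K) (d : ℕ) : ℕ :=
  ∑ n ∈ range d, Module.finrank k ↥(V ⊓ FunFld.L (D - Finsupp.single P ((n : ℤ) + 1)))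

theorem two_sum_ge (M : Finset ℕ) (a : ℕ) (h : ∀ m ∈ M, a ≤ m) :
    (M.card : ℤ) * (M.card - 1) + 2 * a * M.card ≤ 2 * ∑ m ∈ M, (m : ℤ) := by
  classical
  induction M using Finset.induction_on_max with
  | empty => simp
  | insert x s hs ih =>
    have hx : x ∉ s := fun hm => lt_irrefl _ (hs x hm)
    have hc : s.card ≤ x - a := by
      have : s ⊆ Finset.Ico a x := fun m hm =>
        Finset.mem_Ico.2 ⟨h m (Finset.mem_insert_of_mem hm), hs m hm⟩
      simpa using Finset.card_le_card this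
    have hax := h x (Finset.mem_insert_self x s)
    have := ih fun m hm => h m (Finset.mem_insert_of_mem hm)
    have h2 : (s.card : ℤ) + a ≤ x := by omega
    rw [Finset.sum_insert hx, Finset.card_insert_of_notMem hx]
    push_cast
    linarith

theorem inf_L_eq_bot (hK : IsFunctionField k K) (V : Submodule k K) (E : Divisor k K) (h : E.deg < 0) :
    V ⊓ FunFld.L E = ⊥ := by
  rw [L_eq_bot_of_deg_neg hK.1 h, inf_bot_eq]

/-- the set of vanishing orders -/
theorem exists_orderSet [IsAlgClosed k] (hK : IsFunctionField k K) (D : Divisor k K) (d : ℕ)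
    (hD : D.deg = d) (V : Submodule k K) (hV : V ≤ FunFld.L D) (P : Place k K) :
    ∃ M : Finset ℕ, M.card = Module.finrank k V ∧ (∀ m ∈ M, m ≤ d) ∧
      (∀ m ∈ M, ∃ w ∈ V, w ≠ 0 ∧ P.ord w = (m : ℤ) - D P) ∧
      ∀ n : ℕ, Module.finrank k ↥(V ⊓ FunFld.L (D - Finsupp.single P (n : ℤ))) =
        (M.filter fun m => n ≤ m).card := by
  classical
  have hP := deg_eq_one hK P
  have := finiteDimensional_of_le_L hK hV
  obtain ⟨T, hT, hTn⟩ := exists_orders hK P hP D V hV
  have hcard : T.card = Module.finrank k V := le_antisymm (card_le_finrank_of_ord P V T hTn) hT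
  have hrange : ∀ t ∈ T, 0 ≤ t + D P ∧ t + D P ≤ d := by
    intro t ht
    obtain ⟨w, hw, hw0, hwo⟩ := hTn t ht
    have h1 := (v_le_exp_iff P hw0 _).1 (hV hw P)
    refine ⟨by omega, ?_⟩
    by_contra hlt
    have hmem : w ∈ V ⊓ FunFld.L (D - Finsupp.single P ((d : ℤ) + 1)) := by
      refine ⟨hw, fun Q => ?_⟩
      rcases eq_or_ne Q P with rfl | hQ
      · rw [v_le_exp_iff Q hw0]; simp; omega
      · simpa [Finsupp.single_eq_of_ne hQ] using hV hw Q
    rw [inf_L_eq_bot hK V _ (by rw [deg_sub, deg_single, hP, hD]; simp)] at hmem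
    exact hw0 ((Submodule.mem_bot k).1 hmem)
  have hinj : Set.InjOn (fun t => (t + D P).toNat) T := by
    intro a ha b hb h
    have := hrange a ha
    have := hrange b hb
    simp only at h
    omega
  refine ⟨T.image fun t => (t + D P).toNat, by rw [Finset.card_image_of_injOn hinj, hcard], ?_, ?_, ?_⟩
  · intro m hm
    obtain ⟨t, ht, rfl⟩ := Finset.mem_image.1 hm
    have := hrange t ht
    omega
  · intro m hm
    obtain ⟨t, ht, rfl⟩ := Finset.mem_image.1 hm
    obtain ⟨w, hw, hw0, hwo⟩ := hTn t ht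
    exact ⟨w, hw, hw0, by rw [hwo, Int.toNat_of_nonneg (hrange t ht).1]; ring⟩
  · intro n
    rw [Finset.filter_image, Finset.card_image_of_injOn (hinj.mono fun x hx => by simp at hx; exact hx.1)]
    set V' := V ⊓ FunFld.L (D - Finsupp.single P (n : ℤ)) with hV'
    have : FiniteDimensional k V' := Submodule.finiteDimensional_of_le inf_le_left
    refine le_antisymm ?_ (card_le_finrank_of_ord P V' _ fun t ht => ?_)
    · obtain ⟨T', hT', hTn'⟩ := exists_orders hK P hP (D - Finsupp.single P (n : ℤ)) V' inf_le_right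
      refine hT'.trans (Finset.card_le_card fun t ht => ?_)
      obtain ⟨w, hw, hw0, hwo⟩ := hTn' t ht
      have htT : t ∈ T := by
        by_contra hnot
        have hle := card_le_finrank_of_ord P V (insert t T) fun u hu => by
          rcases Finset.mem_insert.1 hu with rfl | hu
          · exact ⟨w, hw.1, hw0, hwo⟩
          · exact hTn u hu
        rw [Finset.card_insert_of_notMem hnot] at hle
        omega
      have h2 := (v_le_exp_iff P hw0 _).1 (hw.2 P)
      simp at h2
      refine Finset.mem_filter.2 ⟨htT, ?_⟩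
      omega
    · obtain ⟨htT, htn⟩ := Finset.mem_filter.1 ht
      obtain ⟨w, hw, hw0, hwo⟩ := hTn t htT
      refine ⟨w, ⟨hw, fun Q => ?_⟩, hw0, hwo⟩
      rcases eq_or_ne Q P with rfl | hQ
      · rw [v_le_exp_iff Q hw0]; simp
        have := hrange t htT
        omega
      · simpa [Finsupp.single_eq_of_ne hQ] using hV hw Q

theorem vsum_eq_sum {D : Divisor k K} {V : Submodule k K} {P : Place k K} {d : ℕ} {M : Finset ℕ}
    (hd : ∀ m ∈ M, m ≤ d)
    (h : ∀ n : ℕ, Module.finrank k ↥(V ⊓ FunFld.L (D - Finsupp.single P (n : ℤ))) =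
      (M.filter fun m => n ≤ m).card) :
    vsum D V P d = ∑ m ∈ M, m := by
  classical
  have e : ∀ n : ℕ, Module.finrank k ↥(V ⊓ FunFld.L (D - Finsupp.single P ((n : ℤ) + 1))) =
      (M.filter fun m => n + 1 ≤ m).card := fun n => by simpa using h (n + 1)
  simp only [vsum, e, Finset.card_filter]
  rw [Finset.sum_comm]
  refine Finset.sum_congr rfl fun m hm => ?_
  rw [← Finset.card_filter]
  have : (Finset.range d).filter (fun n => n + 1 ≤ m) = Finset.range m := by
    ext n
    have := hd m hm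
    simp
    omega
  rw [this, Finset.card_range]

section Bounds

variable [IsAlgClosed k] (hK : IsFunctionField k K) {D : Divisor k K} {d r : ℕ} (hD : D.deg = d)
  {V : Submodule k K} (hV : V ≤ FunFld.L D) (hr : Module.finrank k V = r + 1)

include hK hD hV hr

theorem two_vsum_ge (P : Place k K) : (r : ℤ) * (r + 1) ≤ 2 * (vsum D V P d : ℤ) := by
  obtain ⟨M, hM, hMd, -, hMf⟩ := exists_orderSet hK D d hD V hV P
  rw [vsum_eq_sum hMd hMf]
  have := two_sum_ge M 0 (fun m _ => m.zero_le)
  rw [hM, hr] at this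
  push_cast at this ⊢
  linarith

theorem r_le_d : r ≤ d := by
  obtain ⟨P⟩ := nonempty_place hK.1
  obtain ⟨M, hM, hMd, -⟩ := exists_orderSet hK D d hD V hV P
  have := Finset.card_le_card (show M ⊆ Finset.range (d + 1) from fun m hm =>
    Finset.mem_range.2 (Nat.lt_succ_of_le (hMd m hm)))
  rw [Finset.card_range, hM, hr] at this
  omega

theorem cusp_weight (P : Place k K)
    (hc : r ≤ Module.finrank k ↥(V ⊓ FunFld.L (D - Finsupp.single P (2 : ℤ)))) :
    (r : ℤ) * (r + 1) + 2 * r ≤ 2 * (vsum D V P d : ℤ) := by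
  classical
  obtain ⟨M, hM, hMd, -, hMf⟩ := exists_orderSet hK D d hD V hV P
  rw [vsum_eq_sum hMd hMf]
  have h2 := hMf 2
  push_cast at h2
  rw [h2] at hc
  obtain ⟨M', hM', hM'c⟩ := Finset.exists_subset_card_eq hc
  have h3 := two_sum_ge M' 2 (fun m hm => (Finset.mem_filter.1 (hM' hm)).2)
  have h4 : ∑ m ∈ M', (m : ℤ) ≤ ∑ m ∈ M, (m : ℤ) :=
    Finset.sum_le_sum_of_subset_of_nonneg (hM'.trans (Finset.filter_subset _ _)) fun m _ _ => by omega
  rw [hM'c] at h3
  push_cast at h3 h4 ⊢
  linarith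

theorem finrank_add_le (P Q : Place k K) (hPQ : P ≠ Q) (a b : ℕ) (hab : a + b = d + 1) :
    Module.finrank k ↥(V ⊓ FunFld.L (D - Finsupp.single P (a : ℤ))) +
      Module.finrank k ↥(V ⊓ FunFld.L (D - Finsupp.single Q (b : ℤ))) ≤ r + 1 := by
  have := finiteDimensional_of_le_L hK hV
  have : FiniteDimensional k ↥(V ⊓ FunFld.L (D - Finsupp.single P (a : ℤ))) :=
    Submodule.finiteDimensional_of_le inf_le_left
  have : FiniteDimensional k ↥(V ⊓ FunFld.L (D - Finsupp.single Q (b : ℤ))) :=
    Submodule.finiteDimensional_of_le inf_le_left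
  have hbot : (V ⊓ FunFld.L (D - Finsupp.single P (a : ℤ))) ⊓
      (V ⊓ FunFld.L (D - Finsupp.single Q (b : ℤ))) = ⊥ := by
    rw [eq_bot_iff]
    rintro x ⟨⟨hxV, hx1⟩, -, hx2⟩
    rw [← inf_L_eq_bot hK V (D - Finsupp.single P (a : ℤ) - Finsupp.single Q (b : ℤ))
      (by rw [deg_sub, deg_sub, deg_single, deg_single, deg_eq_one hK P, deg_eq_one hK Q, hD]; simp; omega)]
    refine ⟨hxV, fun R => ?_⟩
    rcases eq_or_ne R Q with rfl | hR
    · simpa [Finsupp.single_eq_of_ne hPQ.symm] using hx2 R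
    · simpa [Finsupp.single_eq_of_ne hR] using hx1 R
  rw [← Submodule.finrank_sup_add_finrank_inf_eq, hbot, finrank_bot, add_zero, ← hr]
  exact Submodule.finrank_mono (sup_le inf_le_left inf_le_left)

theorem two_point (P Q : Place k K) (hPQ : P ≠ Q) :
    vsum D V P d + vsum D V Q d ≤ (r + 1) * d := by
  unfold vsum
  rw [← Finset.sum_range_reflect
    (fun n => Module.finrank k ↥(V ⊓ FunFld.L (D - Finsupp.single Q ((n : ℤ) + 1)))),
    ← Finset.sum_add_distrib]
  refine (Finset.sum_le_card_nsmul _ _ (r + 1) fun n hn => ?_).trans (by simp [mul_comm])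
  rw [Finset.mem_range] at hn
  have h := finrank_add_le hK hD hV hr P Q hPQ (n + 1) (d - n) (by omega)
  push_cast at h
  rw [show ((d - 1 - n : ℕ) : ℤ) + 1 = ((d - n : ℕ) : ℤ) by omega]
  exact h

theorem positive_genus_weight (hg : 0 < genus k K) (P : Place k K) :
    2 * (vsum D V P d : ℤ) + 2 * r + r * (r + 1) ≤ 2 * ((r : ℤ) + 1) * d := by
  classical
  obtain ⟨M, hM, hMd, -, hMf⟩ := exists_orderSet hK D d hD V hV P
  rw [vsum_eq_sum hMd hMf]
  have hMne : M.Nonempty := Finset.card_pos.1 (by omega)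
  set top := M.max' hMne with htop
  have hmem := M.max'_mem hMne
  have hrest : ∀ m ∈ M.erase top, m + 2 ≤ d := by
    intro m hm
    by_contra hlt
    obtain ⟨hne, hmM⟩ := Finset.mem_erase.1 hm
    have hlt' : m < top := lt_of_le_of_ne (M.le_max' m hmM) hne
    have hd1 := hMd _ hmem
    have h1 := hMf (d - 1)
    have h2 : ({m, top} : Finset ℕ) ⊆ M.filter fun x => d - 1 ≤ x := by
      intro x hx
      rcases Finset.mem_insert.1 hx with rfl | hx
      · exact Finset.mem_filter.2 ⟨hmM, by omega⟩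
      · rw [Finset.mem_singleton] at hx
        subst hx
        exact Finset.mem_filter.2 ⟨hmem, by omega⟩
    have h3 := Finset.card_le_card h2
    rw [Finset.card_pair hne] at h3
    set E := D - Finsupp.single P ((d - 1 : ℕ) : ℤ) with hE
    have := finite_L hK.1 E
    have h5 := Submodule.finrank_mono (inf_le_right (a := V) (b := FunFld.L E))
    have hEd : E.deg = 1 := by
      rw [hE, deg_sub, deg_single, deg_eq_one hK P, hD]; omega
    have h6 : ell E ≤ 1 := ell_le_one_of_deg_one hK hg (deg_eq_one hK) hEd.le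
    rw [h1] at h5
    change _ ≤ ell E at h5
    omega
  have h4 := two_sum_ge ((M.erase top).image fun m => d - 2 - m) 0 (fun m _ => m.zero_le)
  have hinj : Set.InjOn (fun m => d - 2 - m) ↑(M.erase top) := by
    intro a ha b hb h
    have := hrest a ha
    have := hrest b hb
    simp only at h
    omega
  rw [Finset.card_image_of_injOn hinj, Finset.sum_image hinj, Finset.card_erase_of_mem hmem, hM, hr] at h4
  have h7 : ∑ m ∈ M.erase top, ((d - 2 - m : ℕ) : ℤ) = ∑ m ∈ M.erase top, ((d : ℤ) - 2 - m) :=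
    Finset.sum_congr rfl fun m hm => by have := hrest m hm; omega
  rw [h7, Finset.sum_sub_distrib, Finset.sum_const, Finset.card_erase_of_mem hmem, hM, hr] at h4
  have hd1 := hMd _ hmem
  have h8 : (∑ m ∈ M, (m : ℤ)) = top + ∑ m ∈ M.erase top, (m : ℤ) := (Finset.add_sum_erase M _ hmem).symm
  have h9 : (top : ℤ) ≤ d := by exact_mod_cast hd1
  push_cast at h4 ⊢
  simp only [Nat.add_sub_cancel, nsmul_eq_mul] at h4
  push_cast at h4
  linarith

end Bounds

theorem vsum_node {K' : Type*} [Field K'] [Algebra k K'] (D : Divisor k K) (V : Submodule k K)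
    (B : Place k K) (D' : Divisor k K') (V' : Submodule k K') (A : Place k K') (d r : ℕ)
    (h : ∀ m : ℕ, m ≤ d + 1 →
      Module.finrank k ↥(V ⊓ FunFld.L (D - Finsupp.single B ((m : ℤ)))) +
        Module.finrank k ↥(V' ⊓ FunFld.L (D' - Finsupp.single A ((d : ℤ) + 1 - m))) = r + 1) :
    vsum D V B d + vsum D' V' A d = (r + 1) * d := by
  unfold vsum
  rw [← Finset.sum_range_reflect
    (fun n => Module.finrank k ↥(V' ⊓ FunFld.L (D' - Finsupp.single A ((n : ℤ) + 1)))),
    ← Finset.sum_add_distrib]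
  rw [Finset.sum_congr rfl fun n hn => ?_, Finset.sum_const, Finset.card_range, smul_eq_mul, mul_comm]
  rw [Finset.mem_range] at hn
  have h1 := h (n + 1) (by omega)
  rw [show ((d : ℤ) + 1 - ((n + 1 : ℕ) : ℤ)) = ((d - 1 - n : ℕ) : ℤ) + 1 by omega,
    show ((n + 1 : ℕ) : ℤ) = (n : ℤ) + 1 by omega] at h1
  exact h1

section GenusZero

variable [IsAlgClosed k] (hK : IsFunctionField k K) (hg : genus k K = 0)

include hK hg

theorem exists_principal {E : Divisor k K} (hE : E.deg = 0) :
    ∃ x : K, x ≠ 0 ∧ ∀ Q : Place k K, Q.ord x = -E Q := by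
  classical
  have h1 := ell_eq_of_large hK (D := E) (by omega)
  rw [hE, hg] at h1
  obtain ⟨x, hx, hx'⟩ := exists_mem_L hK.1 (D := E) (by omega)
  refine ⟨x, hx, fun Q => ?_⟩
  set F := E + FunFld.div k x with hF
  have hdeg : F.deg = 0 := by rw [hF, deg_add, hE, deg_div hK.1, add_zero]
  have h2 : F Q = 0 := by
    by_contra hne
    have h3 : F.deg = ∑ R ∈ F.support, F R := by
      rw [FunFld.Divisor.deg, Finsupp.sum]
      exact Finset.sum_congr rfl fun R _ => by rw [deg_eq_one hK R]; simp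
    have h4 : F Q ≤ ∑ R ∈ F.support, F R :=
      Finset.single_le_sum (fun R _ => hx' R) (Finsupp.mem_support_iff.2 hne)
    have : 0 ≤ F Q := hx' Q
    omega
  rw [hF, Finsupp.add_apply, div_apply hK.1] at h2
  omega

end GenusZero

section Param

variable [IsAlgClosed k] (hK : IsFunctionField k K) {t : K} {P₀ : Place k K}
  (h1 : P₀.ord t = -1) (h2 : ∀ Q, Q ≠ P₀ → 0 ≤ Q.ord t)

include hK h1 h2

theorem param_ne_zero : t ≠ 0 := fun h => by
  rw [h] at h1
  simp [Place.ord] at h1

theorem v_param : P₀.1 t = exp 1 := by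
  rw [v_eq_exp P₀ (param_ne_zero hK h1 h2), h1]; rfl

theorem v_aeval_param_le (n : ℕ) (p : k[X]) (hp : p.natDegree ≤ n) : P₀.1 (aeval t p) ≤ exp (n : ℤ) := by
  rw [aeval_eq_sum_range' (Nat.lt_succ_of_le hp) t]
  refine Valuation.map_sum_le _ fun i hi => (smul_le P₀ _ _).trans ?_
  rw [map_pow, v_param hK h1 h2, ← exp_nsmul, exp_le_exp]
  rw [Finset.mem_range] at hi
  simp
  omega

theorem ord_aeval_inf {p : k[X]} (hp : p ≠ 0) :
    aeval t p ≠ 0 ∧ P₀.ord (aeval t p) = -(p.natDegree : ℤ) := by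
  have hlead : P₀.1 (algebraMap k K p.leadingCoeff * t ^ p.natDegree) = exp (p.natDegree : ℤ) := by
    rw [map_mul, map_pow, v_param hK h1 h2, v_algebraMap P₀ (leadingCoeff_ne_zero.2 hp), one_mul,
      ← exp_nsmul]
    simp
  have hv : P₀.1 (aeval t p) = exp (p.natDegree : ℤ) := by
    conv_lhs => rw [← p.eraseLead_add_C_mul_X_pow, map_add, map_mul, aeval_C, map_pow, aeval_X]
    rw [Valuation.map_add_eq_of_lt_right, hlead]
    rw [hlead]
    by_cases h0 : p.eraseLead = 0
    · rw [h0, map_zero, map_zero]; exact zero_lt_iff.2 exp_ne_zero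
    · have hdeg := eraseLead_natDegree_le p
      have hlt : p.eraseLead.natDegree < p.natDegree := by
        rcases eraseLead_natDegree_lt_or_eraseLead_eq_zero p with h | h
        · exact h
        · exact absurd h h0
      exact (v_aeval_param_le hK h1 h2 _ _ le_rfl).trans_lt (exp_lt_exp.2 (by exact_mod_cast hlt))
  refine ⟨fun h => ?_, by rw [Place.ord, hv, log_exp]⟩
  rw [h, map_zero] at hv
  exact exp_ne_zero hv.symm

theorem exists_value (Q : Place k K) (hQ : Q ≠ P₀) :
    ∃ a : k, 0 < Q.ord (t - algebraMap k K a) ∧ t - algebraMap k K a ≠ 0 := by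
  have hne : ∀ a : k, t - algebraMap k K a ≠ 0 := fun a h => by
    rw [sub_eq_zero] at h
    rw [h, ord_algebraMap] at h1
    omega
  have ht : Q.1 t ≤ 1 := (v_le_one_iff Q (param_ne_zero hK h1 h2)).2 (h2 Q hQ)
  have := finite_residue hK.1 Q
  have hd : Module.finrank k (IsLocalRing.ResidueField Q.O) = 1 := deg_eq_one hK Q
  obtain ⟨a, ha⟩ := ((finrank_eq_one_iff_of_nonzero' (1 : IsLocalRing.ResidueField Q.O) one_ne_zero).1 hd)
    (IsLocalRing.residue Q.O ⟨t, ht⟩)
  refine ⟨a, ?_, hne a⟩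
  rw [← v_lt_one_iff Q (hne a)]
  have h0 : IsLocalRing.residue Q.O (⟨t, ht⟩ - algebraMap k Q.O a) = 0 := by
    rw [map_sub, ← ha, sub_eq_zero]
    refine Eq.trans ((Algebra.smul_def a (1 : IsLocalRing.ResidueField Q.O)).trans (mul_one _)) ?_
    rfl
  rw [residue_eq_zero] at h0
  exact h0

theorem value_injective {Q Q' : Place k K} (hQ : Q ≠ P₀) (hQ' : Q' ≠ P₀) {a : k}
    (h : 0 < Q.ord (t - algebraMap k K a)) (h' : 0 < Q'.ord (t - algebraMap k K a)) : Q = Q' := by
  classical
  by_contra hne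
  have hadj := rational_of_pole hK (deg_eq_one hK P₀) h1 h2
  set z := t - algebraMap k K a with hz
  have hzt : Transcendental k z := transcendental_of_not_mem hK (by
    rintro ⟨c, hc⟩
    rw [← hc, ord_algebraMap] at h
    omega)
  have hB := deg_poles_eq hK.1 hzt
  have hA := deg_zeros_eq hK.1 hzt
  have hle : (Finsupp.single Q 1 + Finsupp.single Q' 1 : Divisor k K) ≤ FunFld.div k z ⊔ 0 := by
    intro R
    simp only [Finsupp.add_apply, Finsupp.sup_apply, div_apply hK.1, Finsupp.coe_zero, Pi.zero_apply]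
    rcases eq_or_ne R Q with rfl | hR
    · rw [Finsupp.single_eq_same, Finsupp.single_eq_of_ne hne]
      omega
    · rcases eq_or_ne R Q' with rfl | hR'
      · rw [Finsupp.single_eq_same, Finsupp.single_eq_of_ne hR]
        omega
      · rw [Finsupp.single_eq_of_ne hR, Finsupp.single_eq_of_ne hR']
        omega
  have h3 := deg_effective_pos hK (sub_nonneg.2 hle)
  have hdegX : degX k z = 1 := by
    rw [← adjoin_eq_top_iff, eq_top_iff, ← hadj, IntermediateField.adjoin_simple_le_iff]
    have h4 : z + algebraMap k K a ∈ IntermediateField.adjoin k ({z} : Set K) :=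
      add_mem (IntermediateField.mem_adjoin_simple_self k z) (IntermediateField.algebraMap_mem _ a)
    rwa [hz, sub_add_cancel] at h4
  rw [deg_sub, deg_add, deg_single, deg_single, deg_eq_one hK Q, deg_eq_one hK Q', hA, hdegX] at h3
  omega

theorem ord_aeval_value (Q : Place k K) (hQ : Q ≠ P₀) {a : k} (ha : 0 < Q.ord (t - algebraMap k K a))
    (hta : t - algebraMap k K a ≠ 0) {p : k[X]} (hp : p ≠ 0) (m : ℕ)
    (hm : (m : ℤ) ≤ Q.ord (aeval t p)) : (X - C a) ^ m ∣ p := by
  obtain ⟨q, hq⟩ := pow_rootMultiplicity_dvd p a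
  have hqa : q.eval a ≠ 0 := by
    intro h0
    obtain ⟨q', rfl⟩ := dvd_iff_isRoot.2 h0
    refine pow_rootMultiplicity_not_dvd hp a ⟨q', ?_⟩
    conv_lhs => rw [hq]
    ring
  have hadj := rational_of_pole hK (deg_eq_one hK P₀) h1 h2
  have hord1 : Q.ord (t - algebraMap k K a) = 1 := by
    have hzt : Transcendental k (t - algebraMap k K a) := transcendental_of_not_mem hK (by
      rintro ⟨c, hc⟩
      rw [← hc, ord_algebraMap] at ha
      omega)
    have hA := deg_zeros_eq hK.1 hzt
    have hdegX : degX k (t - algebraMap k K a) = 1 := by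
      rw [← adjoin_eq_top_iff, eq_top_iff, ← hadj, IntermediateField.adjoin_simple_le_iff]
      have h4 : (t - algebraMap k K a) + algebraMap k K a ∈
          IntermediateField.adjoin k ({t - algebraMap k K a} : Set K) :=
        add_mem (IntermediateField.mem_adjoin_simple_self k _) (IntermediateField.algebraMap_mem _ a)
      rwa [sub_add_cancel] at h4
    have hle : (Finsupp.single Q (Q.ord (t - algebraMap k K a)) : Divisor k K) ≤
        FunFld.div k (t - algebraMap k K a) ⊔ 0 := by
      classical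
      intro R
      simp only [Finsupp.sup_apply, div_apply hK.1, Finsupp.coe_zero, Pi.zero_apply]
      rcases eq_or_ne R Q with rfl | hR
      · rw [Finsupp.single_eq_same]
        omega
      · rw [Finsupp.single_eq_of_ne hR]
        exact le_sup_right
    have h3 := deg_effective_pos hK (sub_nonneg.2 hle)
    rw [deg_sub, deg_single, deg_eq_one hK Q, hA, hdegX] at h3
    omega
  have hv : Q.1 (aeval t q) = 1 := by
    obtain ⟨s, hs⟩ := (dvd_iff_isRoot (a := a) (p := q - C (q.eval a))).2 (by simp)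
    rw [sub_eq_iff_eq_add] at hs
    have ht : Q.1 t ≤ 1 := (v_le_one_iff Q (param_ne_zero hK h1 h2)).2 (h2 Q hQ)
    have hlt : Q.1 ((t - algebraMap k K a) * aeval t s) < 1 := by
      rw [map_mul]
      exact mul_lt_one_of_lt_of_le ((v_lt_one_iff Q hta).2 ha) (v_aeval_le Q ht s)
    rw [hs, map_add, map_mul, map_sub, aeval_X, aeval_C, aeval_C, Valuation.map_add_eq_of_lt_right,
      v_algebraMap Q hqa]
    rwa [v_algebraMap Q hqa]
  have hq0 : aeval t q ≠ 0 := fun h => by rw [h, map_zero] at hv; exact zero_ne_one hv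
  have hval : Q.ord (aeval t p) = rootMultiplicity a p := by
    conv_lhs => rw [hq, map_mul, map_pow, map_sub, aeval_X, aeval_C]
    rw [ord_mul Q (pow_ne_zero _ hta) hq0, ord_pow Q hta, hord1, Place.ord, hv]
    simp
  exact (le_rootMultiplicity_iff hp).1 (by omega)

theorem exists_poly {d : ℕ} (hg : genus k K = 0) {u : K} (hu : ∀ Q : Place k K,
    Q.1 u ≤ exp ((Finsupp.single P₀ (d : ℤ) : Divisor k K) Q)) :
    ∃ p : k[X], p.natDegree ≤ d ∧ aeval t p = u := by
  classical
  set E : Divisor k K := Finsupp.single P₀ (d : ℤ) with hE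
  have hfin := finite_L hK.1 E
  have hdeg : E.deg = d := by rw [hE, deg_single, deg_eq_one hK P₀]; simp
  have hell := ell_eq_of_large hK (D := E) (by rw [hdeg, hg]; omega)
  rw [hdeg, hg] at hell
  have hmem : ∀ i : Fin (d + 1), t ^ (i : ℕ) ∈ FunFld.L E := by
    intro i Q
    rcases eq_or_ne Q P₀ with rfl | hQ
    · rw [map_pow, v_param hK h1 h2, ← exp_nsmul, exp_le_exp, hE, Finsupp.single_eq_same]
      have := i.isLt
      simp
      omega
    · rw [hE, Finsupp.single_eq_of_ne hQ, map_pow, exp_zero]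
      exact pow_le_one₀ zero_le' ((v_le_one_iff Q (param_ne_zero hK h1 h2)).2 (h2 Q hQ))
  have hli : LinearIndependent k (fun i : Fin (d + 1) => t ^ (i : ℕ)) := by
    refine linearIndependent_of_ord P₀ _ (fun i => pow_ne_zero _ (param_ne_zero hK h1 h2)) fun a b h => ?_
    simp only [ord_pow P₀ (param_ne_zero hK h1 h2), h1] at h
    exact Fin.ext (by omega)
  have hspan : Submodule.span k (Set.range fun i : Fin (d + 1) => t ^ (i : ℕ)) = FunFld.L E := by
    refine Submodule.eq_of_le_of_finrank_le (Submodule.span_le.2 (Set.range_subset_iff.2 hmem)) ?_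
    rw [finrank_span_eq_card hli, Fintype.card_fin]
    change (ell E : ℕ) ≤ _
    omega
  have hu' : u ∈ Submodule.span k (Set.range fun i : Fin (d + 1) => t ^ (i : ℕ)) := by
    rw [hspan]; exact hu
  obtain ⟨c, hc⟩ := (Submodule.mem_span_range_iff_exists_fun k).1 hu'
  refine ⟨∑ i : Fin (d + 1), C (c i) * X ^ (i : ℕ), natDegree_sum_le_of_forall_le _ _ fun i _ =>
    (natDegree_C_mul_X_pow_le _ _).trans (Nat.le_of_lt_succ i.isLt), ?_⟩
  rw [← hc, map_sum]
  exact Finset.sum_congr rfl fun i _ => by rw [map_mul, aeval_C, map_pow, aeval_X, Algebra.smul_def]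

theorem aeval_injective : Function.Injective (aeval t : k[X] → K) := by
  rw [injective_iff_map_eq_zero]
  intro p hp
  by_contra hne
  exact (ord_aeval_inf hK h1 h2 hne).1 hp

end Param

/-- the total weight of a linear series on a rational curve -/
theorem weight_sum_le [IsAlgClosed k] [CharZero k] (hK : IsFunctionField k K) (hg : genus k K = 0)
    {D : Divisor k K} {d r : ℕ} (hD : D.deg = d) {V : Submodule k K} (hV : V ≤ FunFld.L D)
    (hr : Module.finrank k V = r + 1) (S : Finset (Place k K)) :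
    ∑ Q ∈ S, (2 * (vsum D V Q d : ℤ) - r * (r + 1)) ≤ 2 * ((r : ℤ) + 1) * (d - r) := by
  classical
  obtain ⟨P₀⟩ := nonempty_place hK.1
  refine (Finset.sum_le_sum_of_subset_of_nonneg (Finset.subset_insert P₀ S) fun Q _ _ => by
    have := two_vsum_ge hK hD hV hr Q
    omega).trans ?_
  rw [← Finset.insert_erase (Finset.mem_insert_self P₀ S), Finset.sum_insert (Finset.notMem_erase _ _)]
  set S' := (insert P₀ S).erase P₀
  obtain ⟨t, h1, h2⟩ := exists_rational_of_genus_zero hK hg (deg_eq_one hK P₀)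
  obtain ⟨x, hx0, hxo⟩ := exists_principal hK hg (E := Finsupp.single P₀ (d : ℤ) - D)
    (by rw [deg_sub, deg_single, deg_eq_one hK P₀, hD]; simp)
  have hpoly : ∀ w ∈ V, ∃ p : k[X], p.natDegree ≤ d ∧ aeval t p = w * x := by
    intro w hw
    refine exists_poly hK h1 h2 hg fun Q => ?_
    rcases eq_or_ne w 0 with rfl | hw0
    · simp
    rw [v_le_exp_iff Q (mul_ne_zero hw0 hx0), ord_mul Q hw0 hx0, hxo Q, Finsupp.sub_apply]
    have := (v_le_exp_iff Q hw0 _).1 (hV hw Q)
    omega
  choose M hM hMd hMw hMf using fun Q => exists_orderSet hK D d hD V hV Q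
  have hcard : ∀ Q, (M Q).card = r + 1 := fun Q => (hM Q).trans hr
  let e : ∀ Q, Fin (r + 1) ↪o ℕ := fun Q => (M Q).orderEmbOfFin (hcard Q)
  have he : ∀ Q i, e Q i ∈ M Q := fun Q i => Finset.orderEmbOfFin_mem _ _ i
  choose w hwV hw0 hwo using fun (Q : Place k K) (i : Fin (r + 1)) => hMw Q _ (he Q i)
  choose p hpd hpw using fun (Q : Place k K) (i : Fin (r + 1)) => hpoly _ (hwV Q i)
  have hp0 : ∀ Q i, p Q i ≠ 0 := fun Q i h =>
    mul_ne_zero (hw0 Q i) hx0 (by rw [← hpw, h, map_zero])
  have hord : ∀ Q i, Q.ord (aeval t (p Q i)) =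
      (e Q i : ℤ) - (Finsupp.single P₀ (d : ℤ) : Divisor k K) Q := by
    intro Q i
    rw [hpw, ord_mul Q (hw0 Q i) hx0, hwo Q i, hxo Q, Finsupp.sub_apply]
    ring
  have hdeg0 : ∀ i, ((p P₀ i).natDegree : ℤ) = d - e P₀ i := by
    intro i
    have h3 := hord P₀ i
    rw [(ord_aeval_inf hK h1 h2 (hp0 P₀ i)).2, Finsupp.single_eq_same] at h3
    omega
  have hlw : ∀ Q, LinearIndependent k (w Q) := fun Q => by
    refine linearIndependent_of_ord Q _ (hw0 Q) fun a b h => (e Q).injective ?_
    simp only [hwo] at h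
    omega
  have hspanV : ∀ Q, Submodule.span k (Set.range (w Q)) = V := fun Q => by
    have := finiteDimensional_of_le_L hK hV
    refine Submodule.eq_of_le_of_finrank_le (Submodule.span_le.2 (Set.range_subset_iff.2 (hwV Q))) ?_
    rw [finrank_span_eq_card (hlw Q), Fintype.card_fin, hr]
  have hspan : ∀ Q i, p Q i ∈ Submodule.span k (Set.range (p P₀)) := by
    intro Q i
    have hmem : w Q i ∈ Submodule.span k (Set.range (w P₀)) := by rw [hspanV]; exact hwV Q i
    obtain ⟨c, hc⟩ := (Submodule.mem_span_range_iff_exists_fun k).1 hmem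
    refine (Submodule.mem_span_range_iff_exists_fun k).2 ⟨c, aeval_injective hK h1 h2 ?_⟩
    rw [map_sum, hpw, ← hc, Finset.sum_mul]
    exact Finset.sum_congr rfl fun j _ => by rw [map_smul, hpw, smul_mul_assoc]
  have hli : ∀ Q, LinearIndependent k (p Q) := fun Q => by
    refine LinearIndependent.of_comp (aeval t).toLinearMap ?_
    have : (aeval t).toLinearMap ∘ p Q = fun i => w Q i * x := funext fun i => hpw Q i
    rw [this]
    exact (hlw Q).map' (LinearMap.mulRight k x) (LinearMap.ker_eq_bot.2 (mul_left_injective₀ hx0))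
  have hS' : ∀ Q ∈ S', Q ≠ P₀ := fun Q hQ => (Finset.mem_erase.1 hQ).1
  let val : Place k K → k := fun Q => if hQ : Q ≠ P₀ then (exists_value hK h1 h2 Q hQ).choose else 0
  have hval : ∀ Q, Q ≠ P₀ → 0 < Q.ord (t - algebraMap k K (val Q)) ∧ t - algebraMap k K (val Q) ≠ 0 := by
    intro Q hQ
    simp only [val, dif_pos hQ]
    exact (exists_value hK h1 h2 Q hQ).choose_spec
  have hinj : Set.InjOn val S' := fun Q hQ Q' hQ' h =>
    value_injective hK h1 h2 (hS' Q hQ) (hS' Q' hQ') (hval Q (hS' Q hQ)).1 (h ▸ (hval Q' (hS' Q' hQ')).1)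
  let back : k → Place k K := fun a =>
    if h : ∃ Q ∈ S', val Q = a then h.choose else P₀
  have hback : ∀ Q ∈ S', back (val Q) = Q := fun Q hQ => by
    have h : ∃ Q' ∈ S', val Q' = val Q := ⟨Q, hQ, rfl⟩
    simp only [back, dif_pos h]
    exact hinj h.choose_spec.1 hQ h.choose_spec.2
  have key := Wronskian.sum_mult_le (p P₀) (hp0 P₀)
    (fun a b h => (e P₀).injective (by
      have := hdeg0 a
      have := hdeg0 b
      simp only at h
      omega))
    (S'.image val) (fun a => p (back a))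
    (fun a _ => ⟨hli _, hspan _⟩) (fun a i => e (back a) i) (fun a ha i => by
      obtain ⟨Q, hQ, rfl⟩ := Finset.mem_image.1 ha
      rw [hback Q hQ]
      refine ord_aeval_value hK h1 h2 Q (hS' Q hQ) (hval Q (hS' Q hQ)).1 (hval Q (hS' Q hQ)).2 (hp0 Q i) _ ?_
      rw [hord, Finsupp.single_eq_of_ne (hS' Q hQ)]
      omega)
  rw [Finset.sum_image hinj] at key
  simp only [hdeg0] at key
  rw [Finset.sum_congr rfl (g := fun Q => (∑ i, (e Q i : ℤ)) - ∑ i : Fin (r + 1), (i : ℤ))
    (fun Q hQ => by simp only [hback Q hQ])] at key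
  have hsum : ∀ Q, (∑ i, (e Q i : ℤ)) = (vsum D V Q d : ℤ) := by
    intro Q
    rw [vsum_eq_sum (hMd Q) (hMf Q), Nat.cast_sum, ← Finset.map_orderEmbOfFin_univ (M Q) (hcard Q),
      Finset.sum_map]
    rfl
  have hR : (2 : ℤ) * ∑ i : Fin (r + 1), (i : ℤ) = r * (r + 1) := by
    have h := Finset.sum_range_id_mul_two (r + 1)
    rw [← Fin.sum_univ_eq_sum_range, Nat.add_sub_cancel] at h
    have : (((∑ i : Fin (r + 1), (i : ℕ)) * 2 : ℕ) : ℤ) = (((r + 1) * r : ℕ) : ℤ) := by rw [h]
    push_cast at this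
    linarith
  rw [Finset.sum_sub_distrib, Finset.sum_sub_distrib, Finset.sum_const, Finset.sum_const,
    Finset.card_univ, Fintype.card_fin, nsmul_eq_mul, nsmul_eq_mul, hsum] at key
  simp only [hsum] at key
  push_cast at key
  rw [Finset.sum_sub_distrib, Finset.sum_const, nsmul_eq_mul, ← Finset.mul_sum]
  nlinarith [key, hR]

end Groth.Agent.FunFldLib
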