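import Groth.Agent.FunFldLib.Embedding
import Groth.Agent.FunFldLib.Weight
import Groth.Agent.FunFldLib.Extra
import Mathlib.RingTheory.Etale.Field
import Mathlib.RingTheory.Etale.Kaehler
import Mathlib.RingTheory.Kaehler.Polynomial
import Mathlib.LinearAlgebra.Matrix.ToLinearEquiv
import Mathlib.FieldTheory.IntermediateField.Adjoin.Algebra
import Mathlib.Data.Finset.Sort
import Mathlib.Algebra.BigOperators.Field

/-! Finiteness of the torsion points in genus one. -/

set_option autoImplicit false

open WithZero Polynomial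
open scoped TensorProduct

namespace Groth.Agent.FunFldLib

open FunFld

variable {k K : Type*} [Field k] [Field K] [Algebra k K]

theorem exists_derivation [CharZero k] (hK : IsFunctionField k K) :
    ∃ δ : Derivation k K K, (∃ x, δ x ≠ 0) ∧ ∀ y, δ y = 0 → y ∈ Set.range (algebraMap k K) := by
  obtain ⟨t, ht, hfin⟩ := hK.1
  have : CharZero K := charZero_of_injective_algebraMap (algebraMap k K).injective
  have : CharZero (IntermediateField.adjoin k ({t} : Set K)) :=
    charZero_of_injective_algebraMap (algebraMap k _).injective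
  let _ : Algebra k[X] K := (aeval t : k[X] →ₐ[k] K).toRingHom.toAlgebra
  have : IsScalarTower k k[X] K := IsScalarTower.of_algebraMap_eq fun c => (aeval_C t c).symm
  set A := Algebra.adjoin k ({t} : Set K) with hA
  let e : k[X] ≃ₐ[k] A :=
    (AlgEquiv.ofInjective (aeval t) (transcendental_iff_injective.1 ht)).trans
      (Subalgebra.equivOfEq _ _ (Algebra.adjoin_singleton_eq_range_aeval k t).symm)
  let _ : Algebra k[X] A := e.toRingEquiv.toRingHom.toAlgebra
  have : IsScalarTower k[X] A K := IsScalarTower.of_algebraMap_eq fun p => rfl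
  open IntermediateField.algebraAdjoinAdjoin in
  have hAK : Algebra.FormallyEtale A K := by
    have h1 : Algebra.FormallyEtale A (IntermediateField.adjoin k ({t} : Set K)) :=
      .of_isLocalization (nonZeroDivisors A)
    have h2 : Algebra.FormallyEtale (IntermediateField.adjoin k ({t} : Set K)) K :=
      Algebra.FormallyEtale.of_isSeparable _ K
    exact .comp A (IntermediateField.adjoin k ({t} : Set K)) K
  have : Algebra.FormallyEtale k[X] A :=
    .of_equiv ({ e.toRingEquiv with commutes' := fun _ => rfl } : k[X] ≃ₐ[k[X]] A)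
  have : Algebra.FormallyEtale k[X] K := .comp k[X] A K
  let eΩ : Ω[K⁄k] ≃ₗ[K] K :=
    (KaehlerDifferential.tensorKaehlerEquivOfFormallyEtale k k[X] K).symm.trans
      ((LinearEquiv.baseChange k[X] K _ _ (KaehlerDifferential.polynomialEquiv k)).trans
        (TensorProduct.AlgebraTensorModule.rid k[X] K K))
  have hne : ∃ x, (eΩ.toLinearMap.compDer (KaehlerDifferential.D k K)) x ≠ 0 := by
    by_contra h
    push Not at h
    have htop := KaehlerDifferential.span_range_derivation k K
    have hle : Submodule.span K (Set.range (KaehlerDifferential.D k K)) ≤ LinearMap.ker eΩ.toLinearMap :=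
      Submodule.span_le.2 (Set.range_subset_iff.2 fun x => h x)
    have h1 : eΩ.symm 1 ∈ LinearMap.ker eΩ.toLinearMap := hle (htop ▸ Submodule.mem_top)
    simp at h1
  refine ⟨_, hne, ?_⟩
  set δ := eΩ.toLinearMap.compDer (KaehlerDifferential.D k K)
  intro y hy
  by_contra hyk
  have hyt := transcendental_of_not_mem hK hyk
  let C : IntermediateField k K :=
    { carrier := {z | δ z = 0}
      mul_mem' := fun {a b} (ha : δ a = 0) (hb : δ b = 0) => by
        show δ (a * b) = 0
        rw [δ.leibniz, ha, hb, smul_zero, smul_zero, add_zero]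
      add_mem' := fun {a b} (ha : δ a = 0) (hb : δ b = 0) => by
        show δ (a + b) = 0
        rw [map_add, ha, hb, add_zero]
      algebraMap_mem' := fun c => δ.map_algebraMap c
      inv_mem' := fun a (ha : δ a = 0) => by
        show δ a⁻¹ = 0
        rw [δ.leibniz_inv, ha, smul_zero] }
  have hle : IntermediateField.adjoin k ({y} : Set K) ≤ C :=
    IntermediateField.adjoin_le_iff.2 (Set.singleton_subset_iff.2 hy)
  have := finite_over hK.1 hyt
  let _ : Algebra (IntermediateField.adjoin k ({y} : Set K)) C := (IntermediateField.inclusion hle).toRingHom.toAlgebra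
  have : IsScalarTower (IntermediateField.adjoin k ({y} : Set K)) C K := IsScalarTower.of_algebraMap_eq fun _ => rfl
  have : FiniteDimensional C K := Module.Finite.right (IntermediateField.adjoin k ({y} : Set K)) C K
  let δC : Derivation C K K := Derivation.mk'
    { toFun := δ
      map_add' := map_add δ
      map_smul' := fun c z => by
        have hc : δ (c : K) = 0 := c.2
        show δ ((c : K) * z) = (c : K) * δ z
        rw [δ.leibniz, hc, smul_zero, add_zero, smul_eq_mul] }
    fun a b => δ.leibniz a b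
  obtain ⟨x, hx⟩ := hne
  have hint : IsIntegral C x := IsIntegral.of_finite C x
  have h0 := δC.map_aeval (minpoly C x) x
  rw [minpoly.aeval, map_zero, smul_eq_mul] at h0
  rcases mul_eq_zero.1 h0.symm with h1 | h1
  · have : CharZero C := charZero_of_injective_algebraMap (algebraMap k C).injective
    have hd : (minpoly C x).natDegree ≤ (derivative (minpoly C x)).natDegree :=
      natDegree_le_natDegree (minpoly.degree_le_of_ne_zero C x (fun h => by
        have := natDegree_eq_zero_of_derivative_eq_zero h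
        exact (minpoly.natDegree_pos hint).ne' this) h1)
    have := natDegree_derivative_lt (minpoly.natDegree_pos hint).ne'
    omega
  · exact hx h1

theorem wronskian_ne_zero {δ : Derivation k K K}
    (hδ : ∀ y, δ y = 0 → y ∈ Set.range (algebraMap k K)) :
    ∀ {m : ℕ} (e : Fin m → K), LinearIndependent k e →
      (Matrix.of fun i l : Fin m => (δ^[(i : ℕ)]) (e l)).det ≠ 0 := by
  intro m
  induction m with
  | zero => intro e _; simp
  | succ m ih =>
    intro e he hdet
    obtain ⟨c, hc0, hc⟩ := Matrix.exists_mulVec_eq_zero_iff.2 hdet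
    have hrow : ∀ i : Fin (m + 1), ∑ l, c l * (δ^[(i : ℕ)]) (e l) = 0 := fun i => by
      have := congrFun hc i
      simpa [Matrix.mulVec, dotProduct, mul_comm] using this
    have he' : LinearIndependent k (e ∘ Fin.castSucc) := he.comp _ (Fin.castSucc_injective m)
    have hsmall : ∀ v : Fin m → K, (∀ i : Fin m, ∑ l : Fin m, v l * (δ^[(i : ℕ)]) (e l.castSucc) = 0) → v = 0 := by
      intro v hv
      by_contra hv0
      refine ih (e ∘ Fin.castSucc) he' (Matrix.exists_mulVec_eq_zero_iff.1 ⟨v, hv0, ?_⟩)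
      funext i
      simpa [Matrix.mulVec, dotProduct, mul_comm] using hv i
    by_cases hlast : c (Fin.last m) = 0
    · refine hc0 (funext fun l => ?_)
      induction l using Fin.lastCases with
      | last => exact hlast
      | cast l =>
        have := hsmall (fun l => c l.castSucc) fun i => by
          have h := hrow i.castSucc
          rw [Fin.sum_univ_castSucc, hlast, zero_mul, add_zero] at h
          exact h
        exact congrFun this l
    set f : Fin (m + 1) → K := fun l => c l / c (Fin.last m) with hf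
    have hfrow : ∀ i : Fin (m + 1), ∑ l, f l * (δ^[(i : ℕ)]) (e l) = 0 := fun i => by
      simp only [hf, div_mul_eq_mul_div, ← Finset.sum_div, hrow i, zero_div]
    have hfl : f (Fin.last m) = 1 := div_self hlast
    have hd : ∀ i : Fin m, ∑ l : Fin m, δ (f l.castSucc) * (δ^[(i : ℕ)]) (e l.castSucc) = 0 := fun i => by
      have h1 := congrArg δ (hfrow i.castSucc)
      have h2 := hfrow i.succ
      simp only [map_sum, δ.leibniz, smul_eq_mul, map_zero, Finset.sum_add_distrib, Fin.val_castSucc] at h1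
      simp only [Fin.val_succ, Function.iterate_succ_apply'] at h2
      rw [h2, zero_add, Fin.sum_univ_castSucc, hfl, δ.map_one_eq_zero, mul_zero, add_zero] at h1
      rw [← h1]
      exact Finset.sum_congr rfl fun l _ => mul_comm _ _
    have hconst : ∀ l, f l ∈ Set.range (algebraMap k K) := fun l => hδ _ (by
      induction l using Fin.lastCases with
      | last => rw [hfl, δ.map_one_eq_zero]
      | cast l => exact congrFun (hsmall _ hd) l)
    choose a ha using hconst
    have h0 : ∑ l, a l • e l = 0 := by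
      have := hfrow 0
      simpa [Algebra.smul_def, ha] using this
    have := Fintype.linearIndependent_iff.1 he a h0 (Fin.last m)
    have h1 := ha (Fin.last m)
    rw [this, map_zero, hfl] at h1
    exact zero_ne_one h1

theorem deriv_integral [IsAlgClosed k] (hK : IsFunctionField k K) {E : Divisor k K} (hsep : Separates E)
    (hE : 0 ≤ E) (hpos : 0 < E.deg) (δ : Derivation k K K) {n : ℕ} (φ : Fin n → K)
    (hspan : Submodule.span k (Set.range φ) = FunFld.L E) (Q : Place k K) (hQ : E Q = 0)
    (hδ : ∀ i, Q.1 (δ (φ i)) ≤ 1) {z : K} (hz : Q.1 z ≤ 1) : Q.1 (δ z) ≤ 1 := by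
  have hA : ∀ a ∈ Algebra.adjoin k ((FunFld.L E : Submodule k K) : Set K), Q.1 a ≤ 1 ∧ Q.1 (δ a) ≤ 1 := by
    intro a ha
    induction ha using Algebra.adjoin_induction with
    | mem x hx =>
      refine ⟨by simpa [hQ] using hx Q, ?_⟩
      obtain ⟨c, hc⟩ := (Submodule.mem_span_range_iff_exists_fun k).1 (hspan.ge hx)
      rw [← hc, map_sum]
      refine Valuation.map_sum_le _ fun i _ => ?_
      rw [δ.map_smul, Algebra.smul_def, map_mul]
      exact mul_le_one' (Q.2.1 _) (hδ i)
    | algebraMap c => exact ⟨Q.2.1 c, by rw [δ.map_algebraMap, map_zero]; exact zero_le⟩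
    | add x y _ _ hx hy =>
      exact ⟨(Q.1.map_add _ _).trans (max_le hx.1 hy.1),
        by rw [map_add]; exact (Q.1.map_add _ _).trans (max_le hx.2 hy.2)⟩
    | mul x y _ _ hx hy =>
      refine ⟨by rw [map_mul]; exact mul_le_one' hx.1 hy.1, ?_⟩
      rw [δ.leibniz, smul_eq_mul, smul_eq_mul]
      refine (Q.1.map_add _ _).trans (max_le ?_ ?_) <;> rw [map_mul]
      · exact mul_le_one' hx.1 hy.2
      · exact mul_le_one' hy.1 hx.2
  obtain ⟨u, hu, w, hw, hw1, he⟩ := exists_unit_multiple hK hsep hE hpos Q hQ z hz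
  have hw0 : w ≠ 0 := fun h => by rw [h, map_zero] at hw1; exact zero_ne_one hw1
  have h1 := congrArg δ he
  rw [δ.leibniz, smul_eq_mul, smul_eq_mul] at h1
  have h2 : w * δ z = δ u - z * δ w := by rw [← h1]; ring
  have h3 : Q.1 (w * δ z) ≤ 1 := by
    rw [h2]
    refine (Q.1.map_sub _ _).trans (max_le (hA u hu).2 ?_)
    rw [map_mul]
    exact mul_le_one' hz (hA w hw).2
  rwa [map_mul, hw1, one_mul] at h3

theorem deriv_order (Q : Place k K) (δ : Derivation k K K) (hδ : ∀ z, Q.1 z ≤ 1 → Q.1 (δ z) ≤ 1) {z : K} {n : ℕ}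
    (hz : Q.1 z ≤ exp (-(n : ℤ))) : Q.1 (δ z) ≤ exp (-((n - 1 : ℕ) : ℤ)) := by
  obtain ⟨τ, hτ0, hτ⟩ := exists_exp (P := Q) (-1)
  set u := z / τ ^ n with hu
  have hu1 : Q.1 u ≤ 1 := by
    rw [hu, map_div₀, map_pow, hτ, ← exp_nsmul]
    refine (div_le_one₀ (zero_lt_iff.2 exp_ne_zero)).2 (hz.trans_eq ?_)
    simp
  have hz' : z = τ ^ n * u := by rw [hu, mul_div_cancel₀ _ (pow_ne_zero n hτ0)]
  have hτ1 : Q.1 τ ≤ 1 := by rw [hτ, ← exp_zero, exp_le_exp]; norm_num
  have hp : ∀ i : ℕ, Q.1 (τ ^ i) = exp (-(i : ℤ)) := fun i => by rw [map_pow, hτ, ← exp_nsmul]; simp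
  rw [hz', δ.leibniz, δ.leibniz_pow, smul_eq_mul, smul_eq_mul, smul_eq_mul]
  refine (Q.1.map_add _ _).trans (max_le ?_ ?_)
  · rw [map_mul, hp]
    calc exp (-(n : ℤ)) * Q.1 (δ u) ≤ exp (-((n - 1 : ℕ) : ℤ)) * 1 :=
          mul_le_mul' (exp_le_exp.2 (by omega)) (hδ u hu1)
      _ = _ := mul_one _
  · rw [nsmul_eq_mul, map_mul, map_mul, map_mul, hp]
    calc Q.1 u * (Q.1 (n : K) * (exp (-((n - 1 : ℕ) : ℤ)) * Q.1 (δ τ)))
          ≤ 1 * (1 * (exp (-((n - 1 : ℕ) : ℤ)) * 1)) := by
            refine mul_le_mul' hu1 (mul_le_mul' ?_ (mul_le_mul' le_rfl (hδ τ hτ1)))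
            exact (map_natCast (algebraMap k K) n) ▸ Q.2.1 _
      _ = _ := by rw [one_mul, one_mul, mul_one]

theorem finite_osculating [IsAlgClosed k] [CharZero k] (hK : IsFunctionField k K) (hg : genus k K = 1)
    (P : Place k K) (m : ℕ) (hm : 0 < m) :
    {Q : Place k K | Q ≠ P ∧ ∃ g ∈ FunFld.L (Finsupp.single P (m : ℤ)), g ≠ 0 ∧ (m : ℤ) ≤ Q.ord g}.Finite := by
  classical
  obtain ⟨δ, -, hδ⟩ := exists_derivation hK
  set E : Divisor k K := Finsupp.single P 3 with hE
  have hE0 : 0 ≤ E := Finsupp.single_nonneg.2 (by norm_num)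
  have hEd : E.deg = 3 := by rw [hE, deg_single, deg_eq_one hK P]; norm_num
  have hsep : Separates E := fun R Q => by
    have h1 := ell_eq_of_large hK (D := E) (by rw [hEd, hg]; norm_num)
    have h2 := ell_eq_of_large hK (D := E - Finsupp.single R 1 - Finsupp.single Q 1) (by
      simp only [deg_sub, deg_single, deg_eq_one hK R, deg_eq_one hK Q, hEd, hg]; norm_num)
    rw [hEd, hg] at h1
    simp only [deg_sub, deg_single, deg_eq_one hK R, deg_eq_one hK Q, hEd, hg] at h2
    push_cast at h1 h2
    omega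
  have := finite_L hK.1 E
  set W := FunFld.L (Finsupp.single P (m : ℤ) : Divisor k K) with hW
  have := finite_L hK.1 (Finsupp.single P (m : ℤ) : Divisor k K)
  have hWd : Module.finrank k W = m := by
    have h := ell_eq_of_large hK (D := (Finsupp.single P (m : ℤ) : Divisor k K)) (by
      rw [deg_single, deg_eq_one hK P, hg]; omega)
    rw [deg_single, deg_eq_one hK P, hg, ell] at h
    change (Module.finrank k W : ℤ) = _ at h
    push_cast at h
    omega
  let b := (Module.finBasis k (FunFld.L E))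
  let φ : Fin (Module.finrank k (FunFld.L E)) → K := fun i => b i
  have hspan : Submodule.span k (Set.range φ) = FunFld.L E := by
    have h := congrArg (Submodule.map (FunFld.L E).subtype) b.span_eq
    rw [Submodule.map_span, Submodule.map_top, Submodule.range_subtype] at h
    rw [← Set.range_comp] at h
    exact h
  let be := (Module.finBasis k W).reindex (finCongr hWd)
  let e : Fin m → K := fun l => be l
  have heli : LinearIndependent k e := be.linearIndependent.map' W.subtype (Submodule.ker_subtype W)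
  set M : Matrix (Fin m) (Fin m) K := Matrix.of fun i l => (δ^[(i : ℕ)]) (e l) with hM
  have hdet : M.det ≠ 0 := wronskian_ne_zero hδ e heli
  let Bad : Set (Place k K) := {P} ∪ {Q | Q.ord M.det ≠ 0} ∪ ⋃ i, {Q | ¬ Q.1 (δ (φ i)) ≤ 1}
  have hBad : Bad.Finite := by
    refine ((Set.finite_singleton P).union (finite_ord_support hK.1 _)).union (Set.finite_iUnion fun i => ?_)
    refine (finite_ord_support hK.1 (δ (φ i))).subset fun Q hQ => ?_
    show Q.ord _ ≠ 0
    intro h0
    rcases eq_or_ne (δ (φ i)) 0 with h | h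
    · exact hQ (by rw [h, map_zero]; exact zero_le)
    · exact hQ (by rw [v_eq_exp Q h, h0, neg_zero, exp_zero])
  refine hBad.subset ?_
  rintro Q ⟨hQP, g, hg', hg0, hgm⟩
  by_contra hQ
  simp only [Bad, Set.mem_union, Set.mem_iUnion, Set.mem_singleton_iff, Set.mem_ofPred_eq, not_or, not_exists,
    not_not] at hQ
  obtain ⟨⟨-, hdetQ⟩, hφQ⟩ := hQ
  have hEQ : E Q = 0 := by rw [hE, Finsupp.single_eq_of_ne hQP]
  have hint : ∀ z, Q.1 z ≤ 1 → Q.1 (δ z) ≤ 1 := fun z hz =>
    deriv_integral hK hsep hE0 (by omega) δ φ hspan Q hEQ hφQ hz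
  have hiter : ∀ i, ∀ z, Q.1 z ≤ 1 → Q.1 ((δ^[i]) z) ≤ 1 := fun i => by
    induction i with
    | zero => exact fun z hz => hz
    | succ i ih => intro z hz; rw [Function.iterate_succ_apply']; exact hint _ (ih z hz)
  have hM1 : ∀ i l, Q.1 (M i l) ≤ 1 := fun i l => hiter i _ (by
    have := (be l).2 Q
    rwa [Finsupp.single_eq_of_ne hQP, exp_zero] at this)
  have hgi : ∀ i : ℕ, Q.1 ((δ^[i]) g) ≤ exp (-((m - i : ℕ) : ℤ)) := fun i => by
    induction i with
    | zero => rw [Function.iterate_zero_apply, v_eq_exp Q hg0, exp_le_exp]; simp; omega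
    | succ i ih =>
      rw [Function.iterate_succ_apply', show m - (i + 1) = (m - i) - 1 by omega]
      exact deriv_order Q δ hint ih
  set c : Fin m → k := fun l => be.repr ⟨g, hg'⟩ l with hc
  have hgc : g = ∑ l, c l • e l := by
    have h := congrArg Subtype.val (be.sum_repr ⟨g, hg'⟩)
    rw [Submodule.coe_sum] at h
    exact h.symm
  obtain ⟨l₀, hl₀⟩ : ∃ l, c l ≠ 0 := by
    by_contra h
    push Not at h
    exact hg0 (by rw [hgc]; simp [h])
  set v : Fin m → K := fun i => (δ^[(i : ℕ)]) g with hv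
  have hMv : M.mulVec (fun l => algebraMap k K (c l)) = v := by
    funext i
    have hit : ∀ (j : ℕ), (δ^[j]) (∑ l, c l • e l) = ∑ l, c l • (δ^[j]) (e l) := fun j => by
      induction j with
      | zero => rfl
      | succ j ih => simp only [Function.iterate_succ_apply', ih, map_sum, δ.map_smul]
    rw [hv]
    simp only [hgc, hit, Matrix.mulVec, dotProduct, hM, Matrix.of_apply]
    exact Finset.sum_congr rfl fun l _ => by rw [Algebra.smul_def, mul_comm]
  have hadj : M.det * algebraMap k K (c l₀) = ∑ i, M.adjugate l₀ i * v i := by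
    have h := congrFun (congrArg (M.adjugate.mulVec) hMv) l₀
    rw [Matrix.mulVec_mulVec, Matrix.adjugate_mul, Matrix.smul_mulVec, Matrix.one_mulVec] at h
    exact h
  have hdet1 : ∀ N : Matrix (Fin m) (Fin m) K, (∀ i l, Q.1 (N i l) ≤ 1) → Q.1 N.det ≤ 1 := fun N hN => by
    rw [Matrix.det_apply]
    refine Valuation.map_sum_le _ fun σ _ => ?_
    rw [Units.smul_def, zsmul_eq_mul, map_mul, map_prod]
    refine mul_le_one' ?_ (Finset.prod_le_one' fun i _ => hN _ _)
    exact (map_intCast (algebraMap k K) _) ▸ Q.2.1 _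
  have hlt : Q.1 (M.det * algebraMap k K (c l₀)) ≤ exp (-1) := by
    rw [hadj]
    refine Valuation.map_sum_le _ fun i _ => ?_
    rw [map_mul]
    calc Q.1 (M.adjugate l₀ i) * Q.1 (v i) ≤ 1 * exp (-1) := by
          refine mul_le_mul' ?_ ((hgi i).trans (exp_le_exp.2 (by omega)))
          rw [Matrix.adjugate_apply]
          refine hdet1 _ fun a b => ?_
          rcases eq_or_ne a i with rfl | ha
          · rw [Matrix.updateRow_self]
            rcases eq_or_ne b l₀ with rfl | hb
            · simp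
            · simp [Pi.single_eq_of_ne hb]
          · rw [Matrix.updateRow_ne ha]; exact hM1 a b
      _ = _ := one_mul _
  rw [map_mul, v_algebraMap Q hl₀, mul_one, v_eq_exp Q hdet, hdetQ, neg_zero, exp_le_exp] at hlt
  omega

theorem finite_weight_pair [IsAlgClosed k] [CharZero k] (hK : IsFunctionField k K) (hg1 : genus k K = 1)
    (P : Place k K) (d r : ℕ) :
    Set.Finite {Q : Place k K | Q ≠ P ∧ ∃ (D : Divisor k K) (V : Submodule k K),
      D.deg = d ∧ V ≤ FunFld.L D ∧ Module.finrank k ↥V = r + 1 ∧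
      (r + 1) * d + 1 ≤ vsum D V P d + vsum D V Q d + r} := by
  classical
  refine ((Finset.Icc 1 d).finite_toSet.biUnion fun m hm =>
    finite_osculating hK hg1 P m (Finset.mem_Icc.1 hm).1).subset ?_
  rintro Q ⟨hQP, D, V, hD, hV, hr, hw⟩
  have := finiteDimensional_of_le_L hK hV
  obtain ⟨MP, hMP, hMPd, -, hMPf⟩ := exists_orderSet hK D d hD V hV P
  obtain ⟨MQ, hMQ, hMQd, -, hMQf⟩ := exists_orderSet hK D d hD V hV Q
  rw [vsum_eq_sum hMPd hMPf, vsum_eq_sum hMQd hMQf] at hw
  set a := MP.orderEmbOfFin (hMP.trans hr) with ha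
  set b := MQ.orderEmbOfFin (hMQ.trans hr) with hb
  -- sections with prescribed vanishing
  have hsec : ∀ i : Fin (r + 1), ∃ w : K, w ≠ 0 ∧ 0 ≤ D + FunFld.div k w ∧
      (a i : ℤ) ≤ (D + FunFld.div k w) P ∧ (b i.rev : ℤ) ≤ (D + FunFld.div k w) Q := by
    intro i
    set V₁ := V ⊓ FunFld.L (D - Finsupp.single P ((a i : ℕ) : ℤ)) with hV₁
    set V₂ := V ⊓ FunFld.L (D - Finsupp.single Q ((b i.rev : ℕ) : ℤ)) with hV₂
    have h1 : r + 1 - (i : ℕ) ≤ Module.finrank k V₁ := by
      rw [hV₁, hMPf, ← show (Finset.Ici i).card = r + 1 - (i : ℕ) from Fin.card_Ici i,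
        ← Finset.card_image_of_injective _ a.injective]
      refine Finset.card_le_card fun x hx => ?_
      obtain ⟨j, hj, rfl⟩ := Finset.mem_image.1 hx
      exact Finset.mem_filter.2 ⟨MP.orderEmbOfFin_mem _ j, a.monotone (Finset.mem_Ici.1 hj)⟩
    have h2 : r + 1 - (i.rev : ℕ) ≤ Module.finrank k V₂ := by
      rw [hV₂, hMQf, ← show (Finset.Ici i.rev).card = r + 1 - (i.rev : ℕ) from Fin.card_Ici i.rev,
        ← Finset.card_image_of_injective _ b.injective]
      refine Finset.card_le_card fun x hx => ?_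
      obtain ⟨j, hj, rfl⟩ := Finset.mem_image.1 hx
      exact Finset.mem_filter.2 ⟨MQ.orderEmbOfFin_mem _ j, b.monotone (Finset.mem_Ici.1 hj)⟩
    have : FiniteDimensional k V₁ := Submodule.finiteDimensional_of_le inf_le_left
    have : FiniteDimensional k V₂ := Submodule.finiteDimensional_of_le inf_le_left
    have h3 := Submodule.finrank_sup_add_finrank_inf_eq V₁ V₂
    have h4 := Submodule.finrank_mono (show V₁ ⊔ V₂ ≤ V from sup_le inf_le_left inf_le_left)
    have hrev : (i.rev : ℕ) = r - (i : ℕ) := by rw [Fin.val_rev]; omega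
    have hi := i.2
    have hne : V₁ ⊓ V₂ ≠ ⊥ := fun h => by
      rw [h, finrank_bot] at h3
      omega
    obtain ⟨w, ⟨hw1, hw2⟩, hw0⟩ := Submodule.exists_mem_ne_zero_of_ne_bot hne
    refine ⟨w, hw0, (mem_L_iff hK.1 hw0 D).1 (hV hw1.1), ?_, ?_⟩
    · have := (mem_L_ord hw0 _).1 hw1.2 P
      simp [div_apply hK.1] at this ⊢
      omega
    · have := (mem_L_ord hw0 _).1 hw2.2 Q
      simp [div_apply hK.1] at this ⊢
      omega
  choose w hw0 hwE hwP hwQ using hsec
  have hdeg : ∀ i, (D + FunFld.div k (w i)).deg = d := fun i => by rw [deg_add, hD, deg_div hK.1, add_zero]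
  have hexact : ∀ i, (a i : ℕ) + b i.rev ≤ d ∧ ((a i : ℕ) + b i.rev = d →
      D + FunFld.div k (w i) = Finsupp.single P ((a i : ℕ) : ℤ) + Finsupp.single Q ((b i.rev : ℕ) : ℤ)) := by
    intro i
    set F := D + FunFld.div k (w i) - Finsupp.single P ((a i : ℕ) : ℤ) - Finsupp.single Q ((b i.rev : ℕ) : ℤ) with hF
    have hF0 : 0 ≤ F := fun R => by
      have h0 : 0 ≤ (D + FunFld.div k (w i)) R := hwE i R
      have h1 := hwP i
      have h2 := hwQ i
      show (0 : ℤ) ≤ F R
      rw [hF, Finsupp.sub_apply, Finsupp.sub_apply]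
      rcases eq_or_ne R P with rfl | hR
      · rw [Finsupp.single_eq_same, Finsupp.single_eq_of_ne hQP.symm]; omega
      · rcases eq_or_ne R Q with rfl | hR'
        · rw [Finsupp.single_eq_same, Finsupp.single_eq_of_ne hR]; omega
        · rw [Finsupp.single_eq_of_ne hR, Finsupp.single_eq_of_ne hR']; omega
    have hFd : F.deg = (d : ℤ) - (a i : ℕ) - (b i.rev : ℕ) := by
      rw [hF, deg_sub, deg_sub, hdeg, deg_single, deg_single, deg_eq_one hK P, deg_eq_one hK Q]; simp
    have := deg_effective_pos hK hF0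
    refine ⟨by omega, fun h => ?_⟩
    have hz : F = 0 := by
      by_contra hne
      obtain ⟨R, hR⟩ := Finsupp.support_nonempty_iff.2 hne
      have h4 : F.deg = ∑ R ∈ F.support, F R := by
        rw [FunFld.Divisor.deg, Finsupp.sum]
        exact Finset.sum_congr rfl fun R _ => by rw [deg_eq_one hK R]; simp
      have h5 : F R ≤ ∑ R ∈ F.support, F R := Finset.single_le_sum (fun R _ => hF0 R) hR
      have h6 : 0 ≤ F R := hF0 R
      have h7 := Finsupp.mem_support_iff.1 hR
      omega
    rw [hF, sub_sub, sub_eq_zero] at hz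
    exact hz
  -- two exact pairs
  have hsum : ∑ i : Fin (r + 1), ((a i : ℕ) + b i.rev) = ∑ x ∈ MP, x + ∑ x ∈ MQ, x := by
    rw [Finset.sum_add_distrib]
    congr 1
    · conv_rhs => rw [← Finset.map_orderEmbOfFin_univ MP (hMP.trans hr), Finset.sum_map]
      rfl
    · conv_rhs => rw [← Finset.map_orderEmbOfFin_univ MQ (hMQ.trans hr), Finset.sum_map]
      exact Fintype.sum_equiv Fin.revPerm _ _ fun i => rfl
  set S := (Finset.univ : Finset (Fin (r + 1))).filter fun i => (a i : ℕ) + b i.rev = d
  have hS : 2 ≤ S.card := by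
    by_contra hlt
    have h1 : ∑ i : Fin (r + 1), ((a i : ℕ) + b i.rev + if i ∈ S then 0 else 1) ≤ ∑ _i : Fin (r + 1), d :=
      Finset.sum_le_sum fun i _ => by
        have := (hexact i).1
        split_ifs with h
        · omega
        · have : ¬ (a i : ℕ) + b i.rev = d := fun e => h (Finset.mem_filter.2 ⟨Finset.mem_univ i, e⟩)
          omega
    have h2 : (∑ i : Fin (r + 1), if i ∈ S then 0 else 1 : ℕ) = r + 1 - S.card := by
      simp [Finset.sum_ite, Finset.card_compl, Finset.filter_not, Finset.card_sdiff]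
    rw [Finset.sum_add_distrib, h2, hsum, Finset.sum_const, Finset.card_univ, Fintype.card_fin, smul_eq_mul] at h1
    omega
  obtain ⟨i, hi, j, hj, hij⟩ := Finset.one_lt_card.1 hS
  wlog hlt : i < j generalizing i j
  · exact this j hj i hi hij.symm (lt_of_le_of_ne (not_lt.1 hlt) hij.symm)
  have hi' := (Finset.mem_filter.1 hi).2
  have hj' := (Finset.mem_filter.1 hj).2
  have hab : (a i : ℕ) < a j := a.strictMono hlt
  set m := (a j : ℕ) - a i with hmdef
  refine Set.mem_biUnion (x := m) (Finset.mem_coe.2 (Finset.mem_Icc.2 ⟨by omega, by omega⟩)) ⟨hQP, w i / w j, ?_,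
    div_ne_zero (hw0 i) (hw0 j), ?_⟩
  all_goals
    have key : ∀ R : Place k K, R.ord (w i / w j) =
        (Finsupp.single Q (m : ℤ) : Divisor k K) R - (Finsupp.single P (m : ℤ) : Divisor k K) R := fun R => by
      have e1 := congrArg (fun F : Divisor k K => F R) ((hexact i).2 hi')
      have e2 := congrArg (fun F : Divisor k K => F R) ((hexact j).2 hj')
      simp only [Finsupp.add_apply, div_apply hK.1] at e1 e2
      rw [div_eq_mul_inv, ord_mul R (hw0 i) (inv_ne_zero (hw0 j)), ord_inv]
      rcases eq_or_ne R P with rfl | hR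
      · simp [Finsupp.single_eq_of_ne hQP.symm] at e1 e2 ⊢; omega
      · rcases eq_or_ne R Q with rfl | hR'
        · simp [Finsupp.single_eq_of_ne hR] at e1 e2 ⊢; omega
        · simp [Finsupp.single_eq_of_ne hR, Finsupp.single_eq_of_ne hR'] at e1 e2 ⊢; omega
  · rw [mem_L_ord (div_ne_zero (hw0 i) (hw0 j))]
    intro R
    rw [key R]
    have : (0 : ℤ) ≤ (Finsupp.single Q (m : ℤ) : Divisor k K) R :=
      (Finsupp.single_nonneg.2 (by omega) : (0 : Divisor k K) ≤ Finsupp.single Q (m : ℤ)) R
    omega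
  · rw [key Q, Finsupp.single_eq_same, Finsupp.single_eq_of_ne hQP]; simp

end Groth.Agent.FunFldLib
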