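import Groth.Agent.FunFldLib.Field
import Mathlib.RingTheory.AlgebraTower
import Mathlib.LinearAlgebra.Dual.Lemmas

set_option autoImplicit false

open WithZero Finset Polynomial

namespace Groth.Agent.FunFldLib

open FunFld

variable {k K : Type*} [Field k] [Field K] [Algebra k K]

/-- `deg D + 1 - ℓ(D)` -/
noncomputable def delta (D : Divisor k K) : ℤ := D.deg + 1 - (ell D : ℤ)

theorem div_coe (hK : IsFF0 k K) (x : K) : ⇑(FunFld.div k x) = fun P => P.ord x :=
  funext (div_apply hK x)

theorem v_eq_exp_div (hK : IsFF0 k K) {x : K} (hx : x ≠ 0) (P : Place k K) :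
    P.1 x = exp (-(FunFld.div k x P)) := by rw [div_apply hK, v_eq_exp P hx]

theorem div_inv (hK : IsFF0 k K) (x : K) : FunFld.div k x⁻¹ = -FunFld.div k x :=
  Finsupp.ext fun P => by rw [Finsupp.neg_apply, div_apply hK, div_apply hK, ord_inv]

theorem div_algebraMap (hK : IsFF0 k K) (c : k) : FunFld.div k (algebraMap k K c) = 0 :=
  Finsupp.ext fun P => by rw [div_apply hK, ord_algebraMap, Finsupp.coe_zero, Pi.zero_apply]

theorem mem_L_iff (hK : IsFF0 k K) {x : K} (hx : x ≠ 0) (D : Divisor k K) :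
    x ∈ FunFld.L D ↔ 0 ≤ D + FunFld.div k x := by
  refine forall_congr' fun P => ?_
  rw [v_eq_exp_div hK hx, exp_le_exp, Finsupp.coe_zero, Pi.zero_apply, Finsupp.add_apply]
  omega

theorem L_eq_bot_of_le (hK : IsFF0 k K) {D : Divisor k K} (P : Place k K)
    (hD : D ≤ 0) (hP : D P < 0) : FunFld.L D = ⊥ := by
  rw [eq_bot_iff]
  intro x hx
  by_contra hne
  have hx0 : x ≠ 0 := by simpa using hne
  by_cases hxk : IsAlgebraic k x
  · have := (mem_L_iff hK hx0 D).1 hx P
    rw [Finsupp.add_apply, div_apply hK, ord_of_algebraic P hxk] at this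
    simp at this; omega
  · obtain ⟨Q, hQ⟩ := exists_pole' hK hxk
    have := (mem_L_iff hK hx0 D).1 hx Q
    rw [Finsupp.add_apply, div_apply hK] at this
    have := hD Q
    simp at *; omega

theorem rel_L (hK : IsFF0 k K) {D E : Divisor k K} (h : D ≤ E) :
    ∃ p q : ℤ, Rel (FunFld.L D) (FunFld.L E) p ∧
      Rel (AD D ⊔ LinearMap.range (diag k K)) (AD E ⊔ LinearMap.range (diag k K)) q ∧
      E.deg - D.deg = p + q := by
  obtain ⟨p, q, hp, hq, e⟩ := (rel_AD (finite_residue hK) D E h).modular (LinearMap.range (diag k K))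
  rw [← L_map_diag, ← L_map_diag, Rel.map_iff _ (diag_injective hK)] at hp
  exact ⟨p, q, hp, hq, e⟩

theorem finite_L (hK : IsFF0 k K) (D : Divisor k K) : FiniteDimensional k (FunFld.L D) := by
  classical
  obtain ⟨P⟩ := nonempty_place hK
  let D' : Divisor k K := D ⊓ -Finsupp.single P 1
  have h1 : D' ≤ 0 := inf_le_right.trans (neg_nonpos.2 (Finsupp.single_nonneg.2 zero_le_one))
  have h2 : D' P < 0 := by
    have : D' P ≤ (-Finsupp.single P 1 : Divisor k K) P := inf_le_right (a := D) P
    simp at this; omega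
  obtain ⟨p, q, hp, -, -⟩ := rel_L hK (inf_le_left : D' ≤ D)
  rw [L_eq_bot_of_le hK P h1 h2, Rel.bot_iff] at hp
  exact hp.1

theorem ell_rel (hK : IsFF0 k K) {D E : Divisor k K} {p : ℤ}
    (hp : Rel (FunFld.L D) (FunFld.L E) p) : (ell E : ℤ) = ell D + p :=
  have := finite_L hK D
  hp.finrank_sub.2

theorem rel_L' (hK : IsFF0 k K) {D E : Divisor k K} (h : D ≤ E) :
    Rel (AD D ⊔ LinearMap.range (diag k K)) (AD E ⊔ LinearMap.range (diag k K)) (delta E - delta D) := by
  obtain ⟨p, q, hp, hq, e⟩ := rel_L hK h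
  have := ell_rel hK hp
  have hq' : q = delta E - delta D := by simp only [delta]; omega
  rwa [hq'] at hq

theorem ell_sub_le (hK : IsFF0 k K) {D E : Divisor k K} (h : D ≤ E) :
    (ell E : ℤ) - ell D ≤ E.deg - D.deg := by
  have := (rel_L' hK h).nonneg
  simp only [delta] at this
  omega

theorem delta_mono (hK : IsFF0 k K) {D E : Divisor k K} (h : D ≤ E) : delta D ≤ delta E := by
  have := (rel_L' hK h).nonneg
  omega

theorem ell_mono (hK : IsFF0 k K) {D E : Divisor k K} (h : D ≤ E) : ell D ≤ ell E :=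
  have := finite_L hK E
  Submodule.finrank_mono (L_mono h)

theorem L_zero (hK : IsFunctionField k K) : FunFld.L (0 : Divisor k K) = 1 := by
  ext x
  rw [Submodule.mem_one]
  constructor
  · intro hx
    by_contra hxk
    obtain ⟨P, hP⟩ := exists_pole hK hxk
    have hx0 : x ≠ 0 := fun h => hxk ⟨0, by simp [h]⟩
    have := (mem_L_iff hK hx0 0).1 hx P
    simp [div_apply hK.1] at this
    omega
  · rintro ⟨c, rfl⟩ P
    simpa using P.2.1 c

theorem ell_zero (hK : IsFunctionField k K) : ell (0 : Divisor k K) = 1 := by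
  show Module.finrank k (FunFld.L (0 : Divisor k K)) = 1
  rw [L_zero hK, Submodule.one_eq_range]
  rw [LinearMap.finrank_range_of_inj]
  · exact Module.finrank_self k
  · exact fun a b h => (algebraMap k K).injective (by simpa using h)

theorem delta_zero (hK : IsFunctionField k K) : delta (0 : Divisor k K) = 0 := by
  simp [delta, ell_zero hK, deg_zero]

theorem ell_le_deg (hK : IsFunctionField k K) {D : Divisor k K} (h : 0 ≤ D) :
    (ell D : ℤ) ≤ D.deg + 1 := by
  have := ell_sub_le hK h
  rw [ell_zero hK, deg_zero] at this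
  omega

theorem ell_le_deg_add (hK : IsFF0 k K) {D : Divisor k K} (h : 0 ≤ D) :
    (ell D : ℤ) ≤ D.deg + ell (0 : Divisor k K) := by
  have := ell_sub_le hK h
  rw [deg_zero] at this
  omega

theorem L_shift (hK : IsFF0 k K) (D : Divisor k K) {x : K} (hx : x ≠ 0) (y : K) :
    x * y ∈ FunFld.L D ↔ y ∈ FunFld.L (D + FunFld.div k x) := by
  refine forall_congr' fun P => ?_
  rw [map_mul, v_eq_exp_div hK hx, Finsupp.add_apply, exp_add, exp_neg, inv_mul_le_iff₀ (zero_lt_iff.2 exp_ne_zero), mul_comm]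

theorem ell_add_div (hK : IsFF0 k K) (D : Divisor k K) {x : K} (hx : x ≠ 0) :
    ell (D + FunFld.div k x) = ell D := by
  have h : (FunFld.L (D + FunFld.div k x)).map (LinearMap.mulLeft k x) = FunFld.L D := by
    ext y
    constructor
    · rintro ⟨z, hz, rfl⟩; exact (L_shift hK D hx z).2 hz
    · intro hy
      exact ⟨x⁻¹ * y, (L_shift hK D hx _).1 (by rwa [mul_inv_cancel_left₀ hx]), by
        rw [LinearMap.mulLeft_apply, mul_inv_cancel_left₀ hx]⟩
  exact ((Submodule.equivMapOfInjective (LinearMap.mulLeft k x)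
    (fun a b h => mul_left_cancel₀ hx h) _).trans (LinearEquiv.ofEq _ _ h)).finrank_eq

theorem deg_sup_zero (D : Divisor k K) :
    (D ⊔ 0).deg = ∑ P ∈ D.support with 0 < D P, D P * (P.deg : ℤ) := by
  classical
  rw [Finset.sum_filter]
  refine (Finsupp.sum_of_support_subset (D ⊔ 0) (s := D.support) (fun P hP => ?_)
    (fun (P : Place k K) (n : ℤ) => n * (P.deg : ℤ)) (fun _ _ => zero_mul _)).trans
    (Finset.sum_congr rfl fun P _ => ?_)
  · rw [Finsupp.mem_support_iff] at hP ⊢
    intro h; simp [Finsupp.sup_apply, h] at hP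
  rw [Finsupp.sup_apply, Finsupp.coe_zero, Pi.zero_apply]
  split_ifs with h
  · rw [sup_eq_left.2 h.le]
  · rw [sup_eq_right.2 (not_lt.1 h), zero_mul]

/-- degree of `k(x)` in `K` -/
noncomputable def degX (k : Type*) {K : Type*} [Field k] [Field K] [Algebra k K] (x : K) : ℕ :=
  Module.finrank (IntermediateField.adjoin k ({x} : Set K)) K

theorem degX_inv (x : K) : degX k x⁻¹ = degX k x := by
  have : IntermediateField.adjoin k ({x⁻¹} : Set K) = IntermediateField.adjoin k ({x} : Set K) := by
    refine le_antisymm ?_ ?_ <;> rw [IntermediateField.adjoin_le_iff, Set.singleton_subset_iff]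
    · exact inv_mem (IntermediateField.mem_adjoin_simple_self k x)
    · simpa using inv_mem (IntermediateField.mem_adjoin_simple_self k x⁻¹)
  rw [degX, degX, this]

theorem deg_sup_le (hK : IsFF0 k K) {x : K} (hx : Transcendental k x) :
    (FunFld.div k x ⊔ 0).deg ≤ degX k x := by
  classical
  have hx0 : x ≠ 0 := fun h => by subst h; exact hx isAlgebraic_zero
  rw [deg_sup_zero]
  have := zeros_deg_le hK hx ((FunFld.div k x).support.filter fun P => 0 < FunFld.div k x P)
    (fun P hP => (v_lt_one_iff P hx0).2 (by rw [← div_apply hK]; exact (mem_filter.1 hP).2))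
  refine le_trans (le_of_eq (Finset.sum_congr rfl fun P _ => ?_)) this
  rw [div_apply hK]

theorem transcendental_inv (hK : IsFF0 k K) {x : K} (hx : Transcendental k x) :
    Transcendental k x⁻¹ := fun h => hx (by simpa using h.inv)

theorem degX_le_deg_poles (hK : IsFF0 k K) {x : K} (hx : Transcendental k x) :
    ((degX k x : ℤ) ≤ (-FunFld.div k x ⊔ 0).deg) ∧
      ∃ γ : ℤ, ∀ l : ℕ, delta (l • (-FunFld.div k x ⊔ 0)) ≤ γ ∧
        (degX k x = 1 → γ ≤ 0) := by
  classical
  have hfin := finite_over hK hx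
  have hx0 : x ≠ 0 := fun h => by subst h; exact hx isAlgebraic_zero
  set B := -FunFld.div k x ⊔ 0 with hB
  obtain ⟨u, hu, hu1⟩ : ∃ u : Fin (degX k x) → K,
      LinearIndependent (IntermediateField.adjoin k ({x} : Set K)) u ∧
      (degX k x = 1 → ∀ i, u i = 1) := by
    by_cases h1 : degX k x = 1
    · refine ⟨fun _ => 1, ?_, fun _ _ => rfl⟩
      have : Subsingleton (Fin (degX k x)) := by rw [h1]; infer_instance
      exact linearIndependent_subsingleton_index_iff _ |>.2 fun _ => one_ne_zero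
    · exact ⟨Module.finBasis _ K, (Module.finBasis _ K).linearIndependent, fun h => absurd h h1⟩
  set C : Divisor k K := ∑ i, (-FunFld.div k (u i) ⊔ 0) with hC
  have hC0 : 0 ≤ C := Finset.sum_nonneg fun i _ => le_sup_right
  have hB0 : 0 ≤ B := le_sup_right
  have key : ∀ l : ℕ, ((degX k x * (l + 1) : ℕ) : ℤ) ≤ ell (l • B + C) := by
    intro l
    have hmem : ∀ p : Fin (l + 1) × Fin (degX k x), x ^ (p.1 : ℕ) * u p.2 ∈ FunFld.L (l • B + C) := by
      rintro ⟨j, i⟩ P
      have h1 : P.1 (u i) ≤ exp (C P) := by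
        rcases eq_or_ne (u i) 0 with h | h
        · simp [h]
        rw [v_eq_exp_div hK h, exp_le_exp]
        have : (-FunFld.div k (u i) ⊔ 0) ≤ C :=
          Finset.single_le_sum (f := fun i => -FunFld.div k (u i) ⊔ 0) (fun a _ => le_sup_right) (mem_univ i)
        have := this P
        rw [Finsupp.sup_apply, Finsupp.neg_apply] at this
        exact le_sup_left.trans this
      have h2 : P.1 (x ^ (j : ℕ)) ≤ exp (l • B P) := by
        rw [v_eq_exp_div hK (pow_ne_zero _ hx0), exp_le_exp, div_apply hK, ord_pow P hx0, nsmul_eq_mul]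
        have e1 : -P.ord x ≤ B P := by
          rw [hB, Finsupp.sup_apply, Finsupp.neg_apply, div_apply hK]; exact le_sup_left
        have e2 : 0 ≤ B P := hB0 P
        have e3 : (j : ℕ) ≤ l := Nat.lt_succ_iff.1 j.2
        calc -((j : ℕ) * P.ord x : ℤ) = (j : ℕ) * (-P.ord x) := by ring
          _ ≤ (j : ℕ) * B P := mul_le_mul_of_nonneg_left e1 (Int.natCast_nonneg _)
          _ ≤ _ := mul_le_mul_of_nonneg_right (by exact_mod_cast e3) e2
      rw [map_mul, Finsupp.add_apply, exp_add]
      exact mul_le_mul' h2 h1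
    have hpow : LinearIndependent k (fun j : Fin (l + 1) =>
        (⟨x ^ (j : ℕ), pow_mem (IntermediateField.mem_adjoin_simple_self k x) _⟩ :
          IntermediateField.adjoin k ({x} : Set K))) := by
      rw [Fintype.linearIndependent_iff]
      intro g hg i
      have h1 : aeval x (∑ j : Fin (l + 1), monomial (j : ℕ) (g j)) = 0 := by
        have := congrArg Subtype.val hg
        simpa [aeval_monomial, Algebra.smul_def] using this
      have h2 := (transcendental_iff.1 hx) _ h1
      have h3 := congrArg (fun q : k[X] => q.coeff (i : ℕ)) h2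
      simpa [coeff_monomial, Fin.val_inj] using h3
    have hli := linearIndependent_smul hpow hu
    have hli' : LinearIndependent k (fun p : Fin (l + 1) × Fin (degX k x) =>
        (⟨_, hmem p⟩ : FunFld.L (l • B + C))) :=
      LinearIndependent.of_comp (FunFld.L (l • B + C)).subtype hli
    have := finite_L hK (l • B + C)
    have h4 := hli'.fintype_card_le_finrank
    rw [Fintype.card_prod, Fintype.card_fin, Fintype.card_fin, mul_comm] at h4
    exact_mod_cast h4
  have hdeg : ∀ l : ℕ, (l • B + C).deg = l * B.deg + C.deg := by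
    intro l
    induction l with
    | zero => simp
    | succ l ih =>
      rw [succ_nsmul, deg_add, deg_add]
      rw [deg_add] at ih
      push_cast; linarith
  have upper : ∀ l : ℕ, ((degX k x * (l + 1) : ℕ) : ℤ) ≤ l * B.deg + C.deg + ell (0 : Divisor k K) := fun l =>
    (key l).trans ((ell_le_deg_add hK (add_nonneg (nsmul_nonneg hB0 l) hC0)).trans_eq (by rw [hdeg]))
  have hBn : (degX k x : ℤ) ≤ B.deg := by
    by_contra hlt
    push Not at hlt
    have h1 := upper ((C.deg + ell (0 : Divisor k K)).toNat)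
    push_cast at h1
    have h2 := Int.self_le_toNat (C.deg + ell (0 : Divisor k K))
    have h3 : 0 < (degX k x : ℤ) := by
      have : 0 < degX k x := Module.finrank_pos
      exact_mod_cast this
    nlinarith [Int.natCast_nonneg (C.deg + ell (0 : Divisor k K)).toNat]
  have hBn' : B.deg ≤ degX k x := by
    have := deg_sup_le hK (transcendental_inv hK hx)
    rwa [div_inv hK, degX_inv] at this
  refine ⟨hBn, C.deg + 1 - degX k x, fun l => ⟨?_, ?_⟩⟩
  · have h1 := key l
    have h2 := delta_mono hK (le_add_of_nonneg_right hC0 : l • B ≤ l • B + C)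
    simp only [delta, hdeg] at h2 ⊢
    push_cast at h1
    have e : B.deg = degX k x := le_antisymm hBn' hBn
    rw [e] at h2
    linarith
  · intro h1
    have hCz : C = 0 := Finset.sum_eq_zero fun i _ => by
      rw [hu1 h1 i, show (1 : K) = algebraMap k K 1 by simp, div_algebraMap hK, neg_zero, sup_idem]
    rw [hCz, deg_zero, h1]; simp

theorem deg_zeros_eq (hK : IsFF0 k K) {x : K} (hx : Transcendental k x) :
    (FunFld.div k x ⊔ 0).deg = degX k x := by
  refine le_antisymm (deg_sup_le hK hx) ?_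
  have := (degX_le_deg_poles hK (transcendental_inv hK hx)).1
  rwa [div_inv hK, neg_neg, degX_inv] at this

theorem deg_poles_eq (hK : IsFF0 k K) {x : K} (hx : Transcendental k x) :
    (-FunFld.div k x ⊔ 0).deg = degX k x := by
  have := deg_zeros_eq hK (transcendental_inv hK hx)
  rwa [div_inv hK, degX_inv] at this

theorem deg_div (hK : IsFF0 k K) (x : K) : (FunFld.div k x).deg = 0 := by
  by_cases hxk : IsAlgebraic k x
  · rw [show FunFld.div k x = 0 from Finsupp.ext fun P => by rw [div_apply hK, ord_of_algebraic P hxk]; rfl, deg_zero]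
  have hx : Transcendental k x := hxk
  have e : FunFld.div k x = (FunFld.div k x ⊔ 0) - (-FunFld.div k x ⊔ 0) := Finsupp.ext fun P => by
    simp only [Finsupp.sub_apply, Finsupp.sup_apply, Finsupp.neg_apply, Finsupp.coe_zero, Pi.zero_apply]
    rcases le_total (FunFld.div k x P) 0 with h | h
    · rw [sup_eq_right.2 h, sup_eq_left.2 (neg_nonneg.2 h)]; ring
    · rw [sup_eq_left.2 h, sup_eq_right.2 (neg_nonpos.2 h)]; ring
  rw [e, deg_sub, deg_zeros_eq hK hx, deg_poles_eq hK hx, sub_self]

theorem delta_add_div (hK : IsFF0 k K) (D : Divisor k K) {x : K} (hx : x ≠ 0) :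
    delta (D + FunFld.div k x) = delta D := by
  simp only [delta, deg_add, deg_div hK, ell_add_div hK D hx, add_zero]

theorem L_eq_bot_of_deg_neg (hK : IsFF0 k K) {D : Divisor k K} (h : D.deg < 0) :
    FunFld.L D = ⊥ := by
  rw [eq_bot_iff]
  intro x hx
  by_contra hne
  have hx0 : x ≠ 0 := by simpa using hne
  have := (deg_mono_aux (deg_pos hK) ((mem_L_iff hK hx0 D).1 hx)).1
  rw [deg_zero, deg_add, deg_div hK] at this
  omega

theorem ell_eq_zero_of_deg_neg (hK : IsFF0 k K) {D : Divisor k K} (h : D.deg < 0) :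
    ell D = 0 := by
  show Module.finrank k (FunFld.L D) = 0
  rw [L_eq_bot_of_deg_neg hK h]
  simp

theorem exists_mem_L (hK : IsFF0 k K) {D : Divisor k K} (h : 0 < ell D) :
    ∃ x : K, x ≠ 0 ∧ 0 ≤ D + FunFld.div k x := by
  have hne : FunFld.L D ≠ ⊥ := fun hb => by
    have : ell D = 0 := by
      show Module.finrank k (FunFld.L D) = 0
      rw [hb]; simp
    omega
  obtain ⟨x, hx, hx0⟩ := Submodule.exists_mem_ne_zero_of_ne_bot hne
  exact ⟨x, hx0, (mem_L_iff hK hx0 D).1 hx⟩

theorem delta_le_of_poles (hK : IsFF0 k K) {x : K} (hx : Transcendental k x) {γ : ℤ}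
    (hγ : ∀ l : ℕ, delta (l • (-FunFld.div k x ⊔ 0)) ≤ γ) (D : Divisor k K) : delta D ≤ γ := by
  set B := -FunFld.div k x ⊔ 0 with hB
  have hBdeg : B.deg = degX k x := deg_poles_eq hK hx
  have hn : (1 : ℤ) ≤ degX k x := by
    have := finite_over hK hx
    exact_mod_cast Module.finrank_pos (R := IntermediateField.adjoin k ({x} : Set K)) (M := K)
  have hdeg : ∀ l : ℕ, (l • B).deg = l * B.deg := fun l => by
    induction l with
    | zero => simp [deg_zero]
    | succ l ih => rw [succ_nsmul, deg_add, ih]; push_cast; ring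
  obtain ⟨D1, hD1, hD1'⟩ : ∃ D1 : Divisor k K, D ≤ D1 ∧ 0 ≤ D1 := ⟨D ⊔ 0, le_sup_left, le_sup_right⟩
  set l := (D1.deg + γ).toNat
  have h1 := ell_sub_le hK (sub_le_self (l • B) hD1')
  rw [deg_sub] at h1
  have h2 := hγ l
  simp only [delta, hdeg, hBdeg] at h2
  have h3 : D1.deg + γ ≤ l := Int.self_le_toNat _
  have h4 : (l : ℤ) ≤ l * degX k x := le_mul_of_one_le_right (Int.natCast_nonneg _) hn
  have h5 : 0 < ell (l • B - D1) := by omega
  obtain ⟨z, hz0, hz⟩ := exists_mem_L hK h5
  have h6 : D1 - FunFld.div k z ≤ l • B := by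
    rw [sub_le_iff_le_add, ← sub_nonneg]
    calc (0 : Divisor k K) ≤ _ := hz
      _ = _ := by abel
  have e1 : delta (D1 - FunFld.div k z) = delta D1 := by
    conv_rhs => rw [← sub_add_cancel D1 (FunFld.div k z), delta_add_div hK _ hz0]
  calc delta D ≤ delta D1 := delta_mono hK hD1
    _ = _ := e1.symm
    _ ≤ delta (l • B) := delta_mono hK h6
    _ ≤ γ := hγ l

theorem exists_bound (hK : IsFF0 k K) : ∃ γ : ℤ, ∀ D : Divisor k K, delta D ≤ γ := by
  obtain ⟨x, hx, -⟩ := id hK
  obtain ⟨γ, hγ⟩ := (degX_le_deg_poles hK hx).2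
  exact ⟨γ, delta_le_of_poles hK hx fun l => (hγ l).1⟩

theorem bddAbove_delta (hK : IsFF0 k K) :
    BddAbove (Set.range fun D : Divisor k K => (D.deg + 1 - (ell D : ℤ)).toNat) := by
  obtain ⟨γ, hγ⟩ := exists_bound hK
  refine ⟨γ.toNat, ?_⟩
  rintro _ ⟨D, rfl⟩
  exact Int.toNat_le_toNat (hγ D)

theorem delta_le_genus (hK : IsFF0 k K) (D : Divisor k K) : delta D ≤ genus k K :=
  (Int.self_le_toNat _).trans (Int.ofNat_le.2 (le_csSup (bddAbove_delta hK) ⟨D, rfl⟩))

theorem exists_delta_eq_genus (hK : IsFunctionField k K) : ∃ D : Divisor k K, delta D = genus k K := by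
  obtain ⟨D, hD⟩ := Nat.sSup_mem (Set.range_nonempty fun D : Divisor k K => (D.deg + 1 - (ell D : ℤ)).toNat)
    (bddAbove_delta hK)
  change (D.deg + 1 - (ell D : ℤ)).toNat = genus k K at hD
  rcases Nat.eq_zero_or_pos (genus k K) with h | h
  · exact ⟨0, by rw [delta_zero hK, h]; rfl⟩
  · exact ⟨D, by simp only [delta]; omega⟩

theorem exists_large (hK : IsFunctionField k K) :
    ∃ N : ℤ, ∀ D : Divisor k K, N ≤ D.deg → delta D = genus k K := by
  obtain ⟨D0, hD0⟩ := exists_delta_eq_genus hK
  refine ⟨D0.deg + genus k K, fun D hD => le_antisymm (delta_le_genus hK D) ?_⟩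
  have h1 := delta_le_genus hK (D - D0)
  simp only [delta, deg_sub] at h1
  obtain ⟨z, hz0, hz⟩ := exists_mem_L hK (show 0 < ell (D - D0) by omega)
  rw [← hD0, ← delta_add_div hK D hz0]
  refine delta_mono hK (sub_nonneg.1 ?_)
  calc (0 : Divisor k K) ≤ _ := hz
    _ = _ := by abel

theorem range_diag_le_adele (hK : IsFF0 k K) : LinearMap.range (diag k K) ≤ adele k K := by
  rintro _ ⟨x, rfl⟩
  rw [mem_adele]
  refine (finite_ord_support hK x).subset fun P hP => ?_
  rw [Function.mem_support]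
  intro h
  apply hP
  show P.1 x ≤ 1
  rcases eq_or_ne x 0 with rfl | hx
  · simp
  · exact (v_le_one_iff P hx).2 (le_of_eq h.symm)

theorem exists_ge_large (hK : IsFF0 k K) (D : Divisor k K) (N : ℤ) :
    ∃ E : Divisor k K, D ≤ E ∧ N ≤ E.deg := by
  classical
  obtain ⟨P⟩ := nonempty_place hK
  refine ⟨D + Finsupp.single P (|N - D.deg|), le_add_of_nonneg_right (Finsupp.single_nonneg.2 (abs_nonneg _)), ?_⟩
  rw [deg_add, deg_single]
  have : (1 : ℤ) ≤ P.deg := by exact_mod_cast deg_pos hK P
  have := le_mul_of_one_le_right (abs_nonneg (N - D.deg)) this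
  have := le_abs_self (N - D.deg)
  linarith

theorem AD_sup_diag_eq_adele (hK : IsFF0 k K) {D : Divisor k K} (h : delta D = genus k K) :
    AD D ⊔ LinearMap.range (diag k K) = adele k K := by
  refine le_antisymm (sup_le (AD_le_adele D) (range_diag_le_adele hK)) fun a ha => ?_
  obtain ⟨E, hE⟩ := adele_exists_AD ha
  have r := rel_L' hK (le_sup_left : D ≤ D ⊔ E)
  have h1 := delta_le_genus hK (D ⊔ E)
  have h2 := delta_mono hK (le_sup_left : D ≤ D ⊔ E)
  rw [show delta (D ⊔ E) - delta D = 0 by omega] at r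
  rw [r.eq_of_zero]
  exact Submodule.mem_sup_left (AD_mono le_sup_right hE)

theorem rel_adele (hK : IsFunctionField k K) (D : Divisor k K) :
    Rel (AD D ⊔ LinearMap.range (diag k K)) (adele k K) ((genus k K : ℤ) - delta D) := by
  obtain ⟨N, hN⟩ := exists_large hK
  obtain ⟨E, hDE, hE⟩ := exists_ge_large hK D N
  have r := rel_L' hK hDE
  rwa [AD_sup_diag_eq_adele hK (hN E hE), hN E hE] at r

theorem finrank_WD (hK : IsFunctionField k K) (D : Divisor k K) :
    FiniteDimensional k (WD D) ∧ (Module.finrank k (WD D) : ℤ) = (genus k K : ℤ) - delta D := by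
  obtain ⟨-, h1, h2⟩ := rel_adele hK D
  have : Module.Finite k (↥(adele k K) ⧸ ADK D) := h1
  let e := (ADK D).dualQuotEquivDualAnnihilator
  exact ⟨Module.Finite.equiv e, by
    rw [← h2]; exact_mod_cast e.finrank_eq.symm.trans Subspace.dual_finrank_eq⟩

end Groth.Agent.FunFldLib
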