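import Groth.Agent.FunFldLib.Order
import Mathlib.Algebra.Polynomial.FieldDivision
import Mathlib.Algebra.GroupWithZero.NonZeroDivisors
import Mathlib.Algebra.Squarefree.Basic
import Mathlib.Algebra.CharP.Basic
import Mathlib.RingTheory.Algebraic.Integral
import Mathlib.RingTheory.Polynomial.Basic

set_option autoImplicit false

open WithZero Polynomial

namespace Groth.Agent.FunFldLib

open FunFld

variable {k K : Type*} [Field k] [Field K] [Algebra k K]

theorem aeval_inj {x : K} (hx : Transcendental k x) {p q : k[X]} (h : aeval x p = aeval x q) : p = q :=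
  sub_eq_zero.1 (transcendental_iff.1 hx _ (by rw [map_sub, h, sub_self]))

theorem transcendental_aeval {x : K} (hx : Transcendental k x) {p : k[X]} (hp : 0 < p.natDegree) :
    Transcendental k (aeval x p) := fun h => hx (h.of_aeval p hp.ne' (by
      simpa using mem_nonZeroDivisors_of_ne_zero (leadingCoeff_ne_zero.2 (fun e => by rw [e] at hp; simp at hp) : p.leadingCoeff ≠ 0)))

theorem exists_coprime_rep (x : K) {r : K} (hr : r ∈ IntermediateField.adjoin k ({x} : Set K)) (hx : Transcendental k x) :
    ∃ p q : k[X], q ≠ 0 ∧ IsCoprime p q ∧ r * aeval x q = aeval x p := by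
  classical
  obtain ⟨p, q, hpq⟩ := (IntermediateField.mem_adjoin_simple_iff k r).1 hr
  rcases eq_or_ne q 0 with rfl | hq
  · exact ⟨0, 1, one_ne_zero, isCoprime_zero_left.2 isUnit_one, by simp [hpq]⟩
  obtain ⟨g, a, b, hg0, hab, hp, hqb⟩ : ∃ g a b : k[X], g ≠ 0 ∧ IsCoprime a b ∧ p = g * a ∧ q = g * b := by
    obtain ⟨u, v, huv⟩ := exists_gcd_eq_mul_add_mul p q
    obtain ⟨a, ha⟩ := gcd_dvd_left p q
    obtain ⟨b, hb⟩ := gcd_dvd_right p q
    generalize gcd p q = g at huv ha hb
    have hg : g ≠ 0 := fun e => hq (by rw [hb, e, zero_mul])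
    refine ⟨g, a, b, hg, ⟨u, v, mul_left_cancel₀ hg ?_⟩, ha, hb⟩
    calc g * (u * a + v * b) = (g * a) * u + (g * b) * v := by ring
      _ = p * u + q * v := by rw [← ha, ← hb]
      _ = g * 1 := by rw [← huv, mul_one]
  subst hp hqb
  have hb0 : b ≠ 0 := fun e => hq (by rw [e, mul_zero])
  have hq' : aeval x (g * b) ≠ 0 := fun e => hq (transcendental_iff.1 hx _ e)
  refine ⟨a, b, hb0, hab, ?_⟩
  have hg : aeval x g ≠ 0 := by
    intro e; apply hq'; rw [map_mul, e, zero_mul]
  have h1 : r * aeval x (g * b) = aeval x (g * a) := by rw [hpq, div_mul_cancel₀ _ hq']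
  rw [map_mul, map_mul] at h1
  exact mul_left_cancel₀ hg (by linear_combination h1)

theorem mem_range_of_algebraic {x r : K} (hx : Transcendental k x)
    (hr : r ∈ IntermediateField.adjoin k ({x} : Set K)) (halg : IsAlgebraic k r) :
    r ∈ Set.range (algebraMap k K) := by
  obtain ⟨p, q, hq, hco, he⟩ := exists_coprime_rep x hr hx
  -- `minpoly r` homogenized shows `q ∣ p ^ n`
  have hint := halg.isIntegral
  set n := (minpoly k r).natDegree
  have hm : ∑ i ∈ Finset.range (n + 1), algebraMap k K ((minpoly k r).coeff i) * r ^ i = 0 := by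
    have := minpoly.aeval k r
    rw [aeval_eq_sum_range] at this
    simpa [Algebra.smul_def] using this
  have h2 : aeval x (∑ i ∈ Finset.range (n + 1), C ((minpoly k r).coeff i) * p ^ i * q ^ (n - i)) = 0 := by
    rw [map_sum]
    calc _ = (∑ i ∈ Finset.range (n + 1), algebraMap k K ((minpoly k r).coeff i) * r ^ i) * aeval x q ^ n := by
          rw [Finset.sum_mul]
          refine Finset.sum_congr rfl fun i hi => ?_
          rw [Finset.mem_range] at hi
          rw [map_mul, map_mul, map_pow, map_pow, aeval_C, ← he, mul_pow,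
            show n = i + (n - i) by omega, pow_add]
          simp only [Nat.add_sub_cancel_left]; ring
      _ = 0 := by rw [hm, zero_mul]
  have h3 := transcendental_iff.1 hx _ h2
  rw [Finset.sum_range_succ, Nat.sub_self, pow_zero, mul_one, (minpoly.monic hint).coeff_natDegree, C_1, one_mul] at h3
  have hdvd : q ∣ p ^ n := by
    rw [eq_neg_of_add_eq_zero_right h3, dvd_neg]
    refine Finset.dvd_sum fun i hi => ?_
    rw [Finset.mem_range] at hi
    exact Dvd.dvd.mul_left (dvd_pow_self q (by omega)) _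
  have hu : IsUnit q := (hco.pow_left (m := n)).isUnit_of_dvd' hdvd dvd_rfl
  obtain ⟨c, hc, rfl⟩ := Polynomial.isUnit_iff.1 hu
  rw [aeval_C] at he
  by_cases hp : p.natDegree = 0
  · obtain ⟨d, rfl⟩ := Polynomial.natDegree_eq_zero.1 hp
    refine ⟨d / c, ?_⟩
    rw [map_div₀, ← aeval_C (A := K) x d, ← he, mul_div_assoc, div_self (by simpa using hc.ne_zero), mul_one]
  · exfalso
    refine transcendental_aeval hx (Nat.pos_of_ne_zero hp) ?_
    rw [← he]
    exact halg.mul (isAlgebraic_algebraMap c)

section quad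

variable {x y : K} {f : k[X]}

theorem y_not_mem (hx : Transcendental k x) (hf : Squarefree f) (hd : 1 ≤ f.natDegree)
    (heq : y ^ 2 = aeval x f) : y ∉ IntermediateField.adjoin k ({x} : Set K) := by
  intro hy
  obtain ⟨p, q, hq, hco, he⟩ := exists_coprime_rep x hy hx
  have h1 : p ^ 2 = f * q ^ 2 := aeval_inj hx (by rw [map_pow, map_mul, map_pow, ← heq, ← he]; ring)
  have hu : IsUnit q := (hco.pow_left (m := 2)).isUnit_of_dvd'
    (dvd_trans (dvd_pow_self q two_ne_zero) ⟨f, by rw [h1]; ring⟩) dvd_rfl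
  obtain ⟨w, hw⟩ := hu.exists_left_inv
  have h2 : f = (p * w) * (p * w) := by
    calc f = f * (w * q) ^ 2 := by rw [hw, one_pow, mul_one]
      _ = (f * q ^ 2) * w ^ 2 := by ring
      _ = _ := by rw [← h1]; ring
  have := hf (p * w) ⟨1, by rw [mul_one]; exact h2⟩
  have h4 := natDegree_eq_zero_of_isUnit (h2 ▸ this.mul this : IsUnit f)
  omega

theorem exists_rep (hxy : IntermediateField.adjoin k ({x, y} : Set K) = ⊤) (heq : y ^ 2 = aeval x f) (z : K) :
    ∃ a b : K, a ∈ IntermediateField.adjoin k ({x} : Set K) ∧ b ∈ IntermediateField.adjoin k ({x} : Set K) ∧ z = a + b * y := by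
  set F := IntermediateField.adjoin k ({x} : Set K)
  have hfx : aeval x f ∈ F := (IntermediateField.mem_adjoin_simple_iff k _).2 ⟨f, 1, by simp⟩
  have hint : IsIntegral F y := by
    refine ⟨X ^ 2 - C ⟨_, hfx⟩, monic_X_pow_sub_C _ (by norm_num), ?_⟩
    simp [heq]
  have hz : z ∈ IntermediateField.adjoin F ({y} : Set K) := by
    have h : IntermediateField.adjoin k ({x, y} : Set K) ≤ (IntermediateField.adjoin F ({y} : Set K)).restrictScalars k := by
      rw [IntermediateField.adjoin_le_iff, Set.insert_subset_iff, Set.singleton_subset_iff]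
      exact ⟨(IntermediateField.adjoin F ({y} : Set K)).algebraMap_mem ⟨x, IntermediateField.mem_adjoin_simple_self k x⟩,
        IntermediateField.mem_adjoin_simple_self _ y⟩
    rw [hxy] at h
    exact h IntermediateField.mem_top
  rw [← IntermediateField.mem_toSubalgebra, IntermediateField.adjoin_simple_toSubalgebra_of_isAlgebraic hint.isAlgebraic] at hz
  induction hz using Algebra.adjoin_induction with
  | mem w hw => exact ⟨0, 1, zero_mem _, one_mem _, by rw [Set.mem_singleton_iff.1 hw]; simp⟩
  | algebraMap c => exact ⟨c, 0, c.2, zero_mem _, by rw [zero_mul, add_zero]; rfl⟩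
  | add u v _ _ hu hv =>
    obtain ⟨a, b, ha, hb, rfl⟩ := hu
    obtain ⟨a', b', ha', hb', rfl⟩ := hv
    exact ⟨a + a', b + b', add_mem ha ha', add_mem hb hb', by ring⟩
  | mul u v _ _ hu hv =>
    obtain ⟨a, b, ha, hb, rfl⟩ := hu
    obtain ⟨a', b', ha', hb', rfl⟩ := hv
    exact ⟨a * a' + b * b' * aeval x f, a * b' + b * a', add_mem (mul_mem ha ha') (mul_mem (mul_mem hb hb') hfx),
      add_mem (mul_mem ha hb') (mul_mem hb ha'), by rw [← heq]; ring⟩

theorem rep_unique (hx : Transcendental k x) (hf : Squarefree f) (hd : 1 ≤ f.natDegree) (heq : y ^ 2 = aeval x f)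
    {a b a' b' : K} (ha : a ∈ IntermediateField.adjoin k ({x} : Set K)) (hb : b ∈ IntermediateField.adjoin k ({x} : Set K))
    (ha' : a' ∈ IntermediateField.adjoin k ({x} : Set K)) (hb' : b' ∈ IntermediateField.adjoin k ({x} : Set K))
    (h : a + b * y = a' + b' * y) : a = a' ∧ b = b' := by
  have hb0 : b = b' := by
    by_contra hne
    refine y_not_mem hx hf hd heq ?_
    have : y = (a' - a) / (b - b') := by
      rw [eq_div_iff (sub_ne_zero.2 hne)]; linear_combination h
    rw [this]
    exact div_mem (sub_mem ha' ha) (sub_mem hb hb')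
  exact ⟨by rw [hb0] at h; exact add_right_cancel h, hb0⟩

end quad

end Groth.Agent.FunFldLib
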