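import Groth.Agent.FunFldLib.Weight
import Mathlib.Data.Fintype.Basic

/-! Weights along a chain of components. -/

set_option autoImplicit false

namespace Groth.Agent.FunFldLib.Chain

open Finset

variable {N : ℕ} (T : Finset (Fin (N + 1))) (a b : Fin (N + 1) → ℤ) (W c : ℤ)

theorem filter_lt_succ (j : Fin N) :
    (T.filter fun i => i < j.succ).card =
      (T.filter fun i => i < j.castSucc).card + if j.castSucc ∈ T then 1 else 0 := by
  classical
  split_ifs with h
  · rw [← Finset.card_insert_of_notMem (s := T.filter fun i => i < j.castSucc) (a := j.castSucc) (by simp)]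
    congr 1
    ext i
    simp only [mem_filter, mem_insert, Fin.lt_def, Fin.val_succ, Fin.val_castSucc, Fin.ext_iff]
    refine ⟨fun ⟨hi, hlt⟩ => ?_, ?_⟩
    · rcases Nat.lt_or_ge i.val j.val with h1 | h1
      · exact Or.inr ⟨hi, h1⟩
      · exact Or.inl (by omega)
    · rintro (h1 | ⟨hi, h1⟩)
      · exact ⟨by rwa [show i = j.castSucc from Fin.ext h1], by omega⟩
      · exact ⟨hi, by omega⟩
  · rw [add_zero]
    congr 1
    refine filter_congr fun i hi => ?_
    simp only [Fin.lt_def, Fin.val_succ, Fin.val_castSucc]
    refine ⟨fun h1 => ?_, fun h1 => by omega⟩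
    by_contra h2
    exact h (by rwa [show j.castSucc = i from Fin.ext (by simp; omega)])

theorem filter_gt_castSucc (j : Fin N) :
    (T.filter fun i => j.castSucc < i).card =
      (T.filter fun i => j.succ < i).card + if j.succ ∈ T then 1 else 0 := by
  classical
  split_ifs with h
  · rw [← Finset.card_insert_of_notMem (s := T.filter fun i => j.succ < i) (a := j.succ) (by simp)]
    congr 1
    ext i
    simp only [mem_filter, mem_insert, Fin.lt_def, Fin.val_succ, Fin.val_castSucc, Fin.ext_iff]
    refine ⟨fun ⟨hi, hlt⟩ => ?_, ?_⟩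
    · rcases Nat.lt_or_ge (j.val + 1) i.val with h1 | h1
      · exact Or.inr ⟨hi, h1⟩
      · exact Or.inl (by omega)
    · rintro (h1 | ⟨hi, h1⟩)
      · exact ⟨by rwa [show i = j.succ from Fin.ext h1], by omega⟩
      · exact ⟨hi, by omega⟩
  · rw [add_zero]
    congr 1
    refine filter_congr fun i hi => ?_
    simp only [Fin.lt_def, Fin.val_succ, Fin.val_castSucc]
    refine ⟨fun h1 => ?_, fun h1 => by omega⟩
    by_contra h2
    exact h (by rwa [show j.succ = i from Fin.ext (by simp; omega)])

theorem left_ge (hnode : ∀ j : Fin N, b j.castSucc + a j.succ = W)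
    (hloc : ∀ j : Fin (N + 1), j.val < N →
      (if 0 < j.val then a j else 0) + b j + (if j ∈ T then c else 0) ≤ W) :
    ∀ l : Fin (N + 1), c * (T.filter fun i => i < l).card ≤ if 0 < l.val then a l else 0 := by
  intro l
  induction l using Fin.induction with
  | zero => simp
  | succ j ih =>
    have h1 := hloc j.castSucc (by simp)
    have h2 := hnode j
    rw [filter_lt_succ, if_pos (by simp : 0 < (j.succ).val), Nat.cast_add, Nat.cast_ite, mul_add, mul_ite,
      Nat.cast_one, Nat.cast_zero, mul_one, mul_zero]
    linarith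

theorem right_ge (hnode : ∀ j : Fin N, b j.castSucc + a j.succ = W)
    (hloc : ∀ j : Fin (N + 1), 0 < j.val →
      a j + (if j.val < N then b j else 0) + (if j ∈ T then c else 0) ≤ W) :
    ∀ l : Fin (N + 1), c * (T.filter fun i => l < i).card ≤ if l.val < N then b l else 0 := by
  intro l
  induction l using Fin.reverseInduction with
  | last =>
    have : (T.filter fun i => Fin.last N < i) = ∅ :=
      filter_eq_empty_iff.2 fun i _ => not_lt.2 (Fin.le_last i)
    simp [this]
  | cast j ih =>
    have h1 := hloc j.succ (by simp)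
    have h2 := hnode j
    rw [filter_gt_castSucc, if_pos (by simp : (j.castSucc).val < N), Nat.cast_add, Nat.cast_ite, mul_add,
      mul_ite, Nat.cast_one, Nat.cast_zero, mul_one, mul_zero]
    linarith

theorem card_erase_split (i : Fin (N + 1)) :
    (T.filter fun l => l < i).card + (T.filter fun l => i < l).card = (T.erase i).card := by
  classical
  rw [← Finset.card_union_of_disjoint]
  · congr 1
    ext l
    simp only [mem_union, mem_filter, mem_erase]
    constructor
    · rintro (⟨h1, h2⟩ | ⟨h1, h2⟩)
      · exact ⟨h2.ne, h1⟩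
      · exact ⟨h2.ne', h1⟩
    · rintro ⟨h1, h2⟩
      rcases lt_or_gt_of_ne h1 with h | h
      · exact Or.inl ⟨h2, h⟩
      · exact Or.inr ⟨h2, h⟩
  · exact Finset.disjoint_filter.2 fun l _ h1 h2 => lt_asymm h1 h2

end Groth.Agent.FunFldLib.Chain
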