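import Groth.Agent.FunFldLib.Extra
import Mathlib.Data.Finset.Max

set_option autoImplicit false

open WithZero Finset

namespace Groth.Agent.FunFldLib

open FunFld

variable {k K : Type*} [Field k] [Field K] [Algebra k K]

theorem deg_effective_pos (hK : IsFunctionField k K) {D : Divisor k K} (h : 0 ≤ D) : 0 ≤ D.deg := by
  have := (deg_mono_aux (deg_pos hK) h).1
  rwa [deg_zero] at this

theorem ell_div_congr (hK : IsFunctionField k K) {D E : Divisor k K} {x : K} (hx : x ≠ 0)
    (h : E = D + FunFld.div k x) : ell E = ell D := h ▸ ell_add_div hK D hx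

/-- dropping a divisor cuts a linear system by at most the degree -/
theorem finrank_inf_L_le (hK : IsFunctionField k K) (V : Submodule k K) [FiniteDimensional k V]
    {D E : Divisor k K} (h : D ≤ E) :
    (Module.finrank k ↥(V ⊓ FunFld.L E) : ℤ) ≤ Module.finrank k ↥(V ⊓ FunFld.L D) + (E.deg - D.deg) := by
  obtain ⟨p, q, hp, hq, e⟩ := rel_L hK h
  obtain ⟨p', q', hp', hq', e'⟩ := hp.modular V
  rw [inf_comm (FunFld.L D), inf_comm (FunFld.L E)] at hp'
  have : FiniteDimensional k ↥(V ⊓ FunFld.L D) := Submodule.finiteDimensional_of_le inf_le_left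
  have := hp'.finrank_sub.2
  have := hq.nonneg; have := hq'.nonneg
  omega

theorem finrank_inf_L_drop (hK : IsFunctionField k K) (V : Submodule k K) [FiniteDimensional k V]
    (D : Divisor k K) {P : Place k K} (hd : P.deg = 1) :
    Module.finrank k ↥(V ⊓ FunFld.L D) ≤ Module.finrank k ↥(V ⊓ FunFld.L (D - Finsupp.single P 1)) + 1 := by
  have := finrank_inf_L_le hK V (sub_le_self D (Finsupp.single_nonneg.2 zero_le_one) :
    D - Finsupp.single P 1 ≤ D)
  rw [deg_sub, deg_single, hd] at this
  omega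

theorem finiteDimensional_of_le_L (hK : IsFunctionField k K) {V : Submodule k K} {D : Divisor k K}
    (h : V ≤ FunFld.L D) : FiniteDimensional k V :=
  have := finite_L hK D
  Submodule.finiteDimensional_of_le h

theorem linearIndependent_of_ord (P : Place k K) {ι : Type*} (w : ι → K) (h0 : ∀ i, w i ≠ 0)
    (hinj : Function.Injective fun i => P.ord (w i)) : LinearIndependent k w := by
  classical
  rw [linearIndependent_iff']
  intro s g hg i hi
  by_contra hne
  obtain ⟨j, hj, hmin⟩ := (s.filter fun l => g l ≠ 0).exists_min_image (fun l => P.ord (w l))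
    ⟨i, mem_filter.2 ⟨hi, hne⟩⟩
  obtain ⟨hjs, hgj⟩ := mem_filter.1 hj
  have hv : P.1 (g j • w j) = exp (-P.ord (w j)) := by
    rw [Algebra.smul_def, map_mul, v_algebraMap P hgj, one_mul, v_eq_exp P (h0 j)]
  have hlt : ∀ l ∈ s \ {j}, P.1 (g l • w l) < P.1 (g j • w j) := fun l hl => by
    rw [mem_sdiff, Finset.mem_singleton] at hl
    rw [hv]
    rcases eq_or_ne (g l) 0 with h | h
    · rw [h, zero_smul, map_zero]; exact zero_lt_iff.2 exp_ne_zero
    · rw [Algebra.smul_def, map_mul, v_algebraMap P h, one_mul, v_eq_exp P (h0 l), exp_lt_exp, neg_lt_neg_iff]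
      exact lt_of_le_of_ne (hmin l (mem_filter.2 ⟨hl.1, h⟩)) fun e => hl.2 (hinj e).symm
  have := Valuation.map_sum_eq_of_lt P.1 hjs hlt
  rw [hg, map_zero, hv] at this
  exact exp_ne_zero this.symm

theorem card_le_finrank_of_ord (P : Place k K) (W : Submodule k K) [FiniteDimensional k W] (T : Finset ℤ)
    (h : ∀ n ∈ T, ∃ w ∈ W, w ≠ 0 ∧ P.ord w = n) : T.card ≤ Module.finrank k W := by
  choose w hw h0 ho using fun n : T => h n.1 n.2
  have hli : LinearIndependent k (fun n : T => (⟨w n, hw n⟩ : W)) :=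
    LinearIndependent.of_comp W.subtype (linearIndependent_of_ord P w h0 fun a b e =>
      Subtype.ext (by simpa only [ho] using e))
  simpa using hli.fintype_card_le_finrank

theorem exists_orders (hK : IsFunctionField k K) (P : Place k K) (hd : P.deg = 1) (D : Divisor k K)
    (V : Submodule k K) (hV : V ≤ FunFld.L D) :
    ∃ T : Finset ℤ, Module.finrank k V ≤ T.card ∧ ∀ n ∈ T, ∃ w ∈ V, w ≠ 0 ∧ P.ord w = n := by
  classical
  have := finiteDimensional_of_le_L hK hV
  have key : ∀ N : ℕ, ∀ E : Divisor k K, E.deg ≤ N - 1 →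
      ∃ T : Finset ℤ, Module.finrank k ↥(V ⊓ FunFld.L E) ≤ T.card ∧
        ∀ n ∈ T, -E P ≤ n ∧ ∃ w ∈ V, w ≠ 0 ∧ P.ord w = n := by
    intro N
    induction N with
    | zero =>
      intro E hE
      refine ⟨∅, ?_, by simp⟩
      rw [L_eq_bot_of_deg_neg hK (by omega), inf_bot_eq]
      simp
    | succ N ih =>
      intro E hE
      obtain ⟨T, hT, hTn⟩ := ih (E - Finsupp.single P 1) (by rw [deg_sub, deg_single, hd]; push_cast at hE ⊢; omega)
      by_cases hle : V ⊓ FunFld.L E ≤ FunFld.L (E - Finsupp.single P 1)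
      · refine ⟨T, le_trans ?_ hT, fun n hn => ?_⟩
        · have : FiniteDimensional k ↥(V ⊓ FunFld.L (E - Finsupp.single P 1)) :=
            Submodule.finiteDimensional_of_le inf_le_left
          exact Submodule.finrank_mono (le_inf inf_le_left hle)
        · obtain ⟨h1, h2⟩ := hTn n hn
          simp at h1
          exact ⟨by omega, h2⟩
      · obtain ⟨w, hw, hw'⟩ := SetLike.not_le_iff_exists.1 hle
        have hw0 : w ≠ 0 := fun e => hw' (e ▸ zero_mem _)
        have h1 : -E P ≤ P.ord w := (v_le_exp_iff P hw0 _).1 (hw.2 P)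
        have h2 : P.ord w = -E P := by
          by_contra hne
          apply hw'
          intro Q
          rcases eq_or_ne Q P with rfl | hQ
          · rw [v_le_exp_iff Q hw0]; simp; omega
          · simpa [Finsupp.single_eq_of_ne hQ] using hw.2 Q
        refine ⟨insert (-E P) T, ?_, fun n hn => ?_⟩
        · rw [card_insert_of_notMem fun hm => by have := (hTn _ hm).1; simp at this]
          have := finrank_inf_L_drop hK V E hd
          omega
        · rcases mem_insert.1 hn with rfl | hn
          · exact ⟨le_rfl, w, hw.1, hw0, h2⟩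
          · obtain ⟨h3, h4⟩ := hTn n hn
            simp at h3
            exact ⟨by omega, h4⟩
  obtain ⟨T, hT, hTn⟩ := key (D.deg + 1).toNat D (by have := Int.self_le_toNat (D.deg + 1); omega)
  rw [inf_eq_left.2 hV] at hT
  exact ⟨T, hT, fun n hn => (hTn n hn).2⟩

theorem card_sumset (A B : Finset ℤ) (hA : A.Nonempty) (hB : B.Nonempty) :
    A.card + B.card ≤ (Finset.image₂ (· + ·) A B).card + 1 := by
  classical
  set a := A.max' hA
  set b := B.min' hB
  have h1 : A.image (· + b) ∪ B.image (a + ·) ⊆ Finset.image₂ (· + ·) A B := by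
    intro x hx
    rcases mem_union.1 hx with h | h <;> obtain ⟨y, hy, rfl⟩ := mem_image.1 h
    · exact mem_image₂_of_mem hy (B.min'_mem hB)
    · exact mem_image₂_of_mem (A.max'_mem hA) hy
  have h2 : A.image (· + b) ∩ B.image (a + ·) ⊆ {a + b} := by
    intro x hx
    obtain ⟨h3, h4⟩ := mem_inter.1 hx
    obtain ⟨y, hy, rfl⟩ := mem_image.1 h3
    obtain ⟨z, hz, e⟩ := mem_image.1 h4
    have := A.le_max' y hy
    have := B.min'_le z hz
    rw [Finset.mem_singleton]
    simp only [a, b] at *
    omega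
  have h3 := card_union_add_card_inter (A.image (· + b)) (B.image (a + ·))
  rw [card_image_of_injective A (add_left_injective b),
    card_image_of_injective B (add_right_injective a)] at h3
  have h4 := card_le_card h1
  have h5 := card_le_card h2
  rw [Finset.card_singleton] at h5
  omega

/-- dim U + dim V ≤ dim W + 1 when U V ⊆ W -/
theorem finrank_mul_le (hK : IsFunctionField k K) (P : Place k K) (hd : P.deg = 1) {D E : Divisor k K}
    {U V W : Submodule k K} (hU : U ≤ FunFld.L D) (hV : V ≤ FunFld.L E) [FiniteDimensional k W]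
    (hUV : ∀ u ∈ U, ∀ v ∈ V, u * v ∈ W) (hU0 : U ≠ ⊥) (hV0 : V ≠ ⊥) :
    Module.finrank k U + Module.finrank k V ≤ Module.finrank k W + 1 := by
  classical
  have := finiteDimensional_of_le_L hK hU
  have := finiteDimensional_of_le_L hK hV
  obtain ⟨A, hA, hAw⟩ := exists_orders hK P hd D U hU
  obtain ⟨B, hB, hBw⟩ := exists_orders hK P hd E V hV
  have pos : ∀ {X : Submodule k K}, FiniteDimensional k X → X ≠ ⊥ → 0 < Module.finrank k X :=
    fun {X} _ h => Nat.pos_of_ne_zero fun e => h (Submodule.finrank_eq_zero.1 e)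
  have hA0 : A.Nonempty := Finset.card_pos.1 ((pos inferInstance hU0).trans_le hA)
  have hB0 : B.Nonempty := Finset.card_pos.1 ((pos inferInstance hV0).trans_le hB)
  have h1 := card_le_finrank_of_ord P W (Finset.image₂ (· + ·) A B) (fun n hn => by
    obtain ⟨a, ha, b, hb, rfl⟩ := mem_image₂.1 hn
    obtain ⟨u, hu, hu0, hua⟩ := hAw a ha
    obtain ⟨v, hv, hv0, hvb⟩ := hBw b hb
    exact ⟨u * v, hUV u hu v hv, mul_ne_zero hu0 hv0, by rw [ord_mul P hu0 hv0, hua, hvb]⟩)
  have := card_sumset A B hA0 hB0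
  omega

theorem clifford (hK : IsFunctionField k K) {P : Place k K} (hd : P.deg = 1) (D : Divisor k K)
    (h0 : 0 ≤ D.deg) (h1 : D.deg ≤ 2 * (genus k K : ℤ) - 2) : 2 * (ell D : ℤ) ≤ D.deg + 2 := by
  obtain ⟨C, hC⟩ := exists_canonical hK
  have hrr := riemann_roch hK hC D
  rcases Nat.eq_zero_or_pos (ell (C - D)) with h2 | h2
  · rw [h2] at hrr; omega
  rcases Nat.eq_zero_or_pos (ell D) with h3 | h3
  · rw [h3]; omega
  have := finite_L hK C
  have hne : ∀ E : Divisor k K, 0 < ell E → FunFld.L E ≠ ⊥ := fun E hE hb => by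
    have : ell E = 0 := by
      show Module.finrank k (FunFld.L E) = 0
      rw [hb]; simp
    omega
  have h4 := finrank_mul_le hK P hd (U := FunFld.L D) (V := FunFld.L (C - D)) (W := FunFld.L C)
    le_rfl le_rfl (fun u hu v hv Q => by
      rw [map_mul]
      refine (mul_le_mul' (hu Q) (hv Q)).trans_eq ?_
      rw [← exp_add, Finsupp.sub_apply]; congr 1; ring) (hne _ h3) (hne _ h2)
  have h5 : ell D + ell (C - D) ≤ ell C + 1 := h4
  rw [(deg_canonical hK hC).1] at h5
  omega

theorem degX_eq_of_pole (hK : IsFunctionField k K) {x : K} {P : Place k K} {n : ℕ} (hn : 0 < n)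
    (hd : P.deg = 1) (hP : P.ord x = -n) (hQ : ∀ Q, Q ≠ P → 0 ≤ Q.ord x) : degX k x = n := by
  classical
  have hx : Transcendental k x := transcendental_of_not_mem hK (by
    rintro ⟨c, rfl⟩; rw [ord_algebraMap] at hP; omega)
  have hB := deg_poles_eq hK hx
  have e : -FunFld.div k x ⊔ 0 = Finsupp.single P (n : ℤ) := Finsupp.ext fun Q => by
    simp only [Finsupp.sup_apply, Finsupp.neg_apply, div_apply hK.1, Finsupp.coe_zero, Pi.zero_apply]
    rcases eq_or_ne Q P with rfl | h
    · rw [hP]; simp
    · rw [Finsupp.single_eq_of_ne h]; exact sup_eq_right.2 (neg_nonpos.2 (hQ Q h))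
  rw [e, deg_single, hd] at hB
  push_cast at hB
  omega

/-- `ℓ(E) ≤ 1` in degree one and positive genus -/
theorem ell_le_one_of_deg_one (hK : IsFunctionField k K) (hg : 0 < genus k K)
    (h1 : ∀ P : Place k K, P.deg = 1) {D : Divisor k K} (hD : D.deg ≤ 1) : ell D ≤ 1 := by
  classical
  by_contra hlt
  obtain ⟨x, hx0, hx⟩ := exists_mem_L hK (show 0 < ell D by omega)
  set E := D + FunFld.div k x
  have hEl : ell E = ell D := ell_add_div hK D hx0
  have hEd : E.deg = D.deg := by rw [deg_add, deg_div hK, add_zero]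
  have hle := ell_le_deg hK hx
  have hE1 : E.deg = 1 := by omega
  have hc := support_le_card E hx (deg_pos hK)
  have hne : E.support.card ≠ 0 := fun h => by
    rw [Finset.card_eq_zero, Finsupp.support_eq_empty] at h
    rw [h, deg_zero] at hE1
    omega
  obtain ⟨P, hP⟩ := Finset.card_eq_one.1 (show E.support.card = 1 by omega)
  obtain ⟨e, he⟩ : ∃ e : ℤ, E P = e := ⟨_, rfl⟩
  have hs := (Finsupp.support_eq_singleton.1 hP).2
  rw [he] at hs
  rw [hs, deg_single, h1 P, Nat.cast_one, mul_one] at hE1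
  rw [hE1] at hs
  have hne1 : ¬ FunFld.L E ≤ FunFld.L (0 : Divisor k K) := fun hle' => by
    have := finite_L hK (0 : Divisor k K)
    have h2 : ell E ≤ ell (0 : Divisor k K) := Submodule.finrank_mono hle'
    rw [ell_zero hK] at h2
    omega
  obtain ⟨y, hy, hy'⟩ := SetLike.not_le_iff_exists.1 hne1
  have hy0 : y ≠ 0 := fun h => hy' (h ▸ zero_mem _)
  have h3 := (mem_L_iff hK hy0 E).1 hy
  have hQ : ∀ Q, Q ≠ P → 0 ≤ Q.ord y := fun Q hQ => by
    simpa [hs, div_apply hK.1, Finsupp.single_eq_of_ne hQ] using h3 Q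
  have hP1 : -1 ≤ P.ord y := by
    have := h3 P
    simp [hs, div_apply hK.1] at this
    omega
  have hP2 : P.ord y < 0 := by
    by_contra hc'
    apply hy'
    rw [mem_L_iff hK hy0]
    intro Q
    rcases eq_or_ne Q P with rfl | hQ'
    · simp [div_apply hK.1]; omega
    · simpa [div_apply hK.1] using hQ Q hQ'
  have := (genus_zero_of_rational hK (rational_of_pole hK (h1 P) (show P.ord y = -1 by omega) hQ)).1
  omega

/-- a base point lies in every effective divisor of the class -/
theorem base_point (hK : IsFunctionField k K) {E F : Divisor k K} {P : Place k K} {x : K} (hx : x ≠ 0)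
    (hF : F = E + FunFld.div k x) (hF0 : 0 ≤ F) (hb : ell (E - Finsupp.single P 1) = ell E) : 1 ≤ F P := by
  have := finite_L hK E
  have h : FunFld.L (E - Finsupp.single P 1) = FunFld.L E :=
    Submodule.eq_of_le_of_finrank_eq (L_mono (sub_le_self E (Finsupp.single_nonneg.2 zero_le_one))) hb
  have hmem : x ∈ FunFld.L E := (mem_L_iff hK hx E).2 (hF ▸ hF0)
  rw [← h] at hmem
  have := (mem_L_iff hK hx _).1 hmem P
  simp at this
  rw [hF, Finsupp.add_apply]
  omega

end Groth.Agent.FunFldLib
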