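import Groth.Prelude.Def_W4bk4goldsch23FF
import Mathlib.RingTheory.Valuation.Basic
import Mathlib.Tactic.Linarith

set_option autoImplicit false

open WithZero Finset

namespace Groth.Agent.FunFldLib

open FunFld

variable {k K : Type*} [Field k] [Field K] [Algebra k K]

section
variable (P Q : Place k K)

theorem v_algebraMap {c : k} (hc : c ≠ 0) : P.1 (algebraMap k K c) = 1 := by
  refine le_antisymm (P.2.1 c) ?_
  have h : P.1 (algebraMap k K c) * P.1 (algebraMap k K c⁻¹) = 1 := by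
    rw [← map_mul, ← map_mul, mul_inv_cancel₀ hc, map_one, map_one]
  calc (1 : WithZero (Multiplicative ℤ)) = _ := h.symm
    _ ≤ P.1 (algebraMap k K c) * 1 := mul_le_mul_right (P.2.1 _) _
    _ = _ := mul_one _

theorem v_ne_zero {x : K} (hx : x ≠ 0) : P.1 x ≠ 0 := (Valuation.ne_zero_iff _).2 hx

theorem v_eq_exp {x : K} (hx : x ≠ 0) : P.1 x = exp (-P.ord x) := by
  simp [Place.ord, exp_log (v_ne_zero P hx)]

theorem v_le_exp_iff {x : K} (hx : x ≠ 0) (n : ℤ) : P.1 x ≤ exp n ↔ -n ≤ P.ord x := by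
  rw [v_eq_exp P hx, exp_le_exp]; omega

theorem v_le_one_iff {x : K} (hx : x ≠ 0) : P.1 x ≤ 1 ↔ 0 ≤ P.ord x := by
  simpa using v_le_exp_iff P hx 0

theorem v_lt_one_iff {x : K} (hx : x ≠ 0) : P.1 x < 1 ↔ 0 < P.ord x := by
  rw [v_eq_exp P hx]; simp only [← exp_zero, exp_lt_exp]; omega

theorem lt_exp_iff (a : WithZero (Multiplicative ℤ)) (n : ℤ) : a < exp n ↔ a ≤ exp (n - 1) := by
  rcases eq_or_ne a 0 with rfl | ha
  · simp
  · rw [← exp_log ha, exp_lt_exp, exp_le_exp]; omega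

theorem lt_one_iff_le (a : WithZero (Multiplicative ℤ)) : a < 1 ↔ a ≤ exp (-1) := by
  rw [← exp_zero, lt_exp_iff, zero_sub]

theorem ord_mul {x y : K} (hx : x ≠ 0) (hy : y ≠ 0) : P.ord (x * y) = P.ord x + P.ord y := by
  simp only [Place.ord, map_mul, log_mul (v_ne_zero P hx) (v_ne_zero P hy)]; ring

theorem ord_one : P.ord 1 = 0 := by simp [Place.ord]

theorem ord_algebraMap (c : k) : P.ord (algebraMap k K c) = 0 := by
  rcases eq_or_ne c 0 with rfl | hc
  · simp [Place.ord]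
  · simp [Place.ord, v_algebraMap P hc]

theorem ord_inv (x : K) : P.ord x⁻¹ = -P.ord x := by
  rcases eq_or_ne x 0 with rfl | hx
  · simp [Place.ord]
  · have := ord_mul P hx (inv_ne_zero hx)
    rw [mul_inv_cancel₀ hx, ord_one] at this
    omega

theorem ord_pow {x : K} (hx : x ≠ 0) (n : ℕ) : P.ord (x ^ n) = n * P.ord x := by
  induction n with
  | zero => simp [ord_one]
  | succ n ih => rw [pow_succ, ord_mul P (pow_ne_zero _ hx) hx, ih]; push_cast; ring

theorem exists_exp (n : ℤ) : ∃ x : K, x ≠ 0 ∧ P.1 x = exp n := by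
  obtain ⟨x, hx⟩ := P.2.2 (exp n)
  exact ⟨x, fun h => by rw [h, map_zero] at hx; exact exp_ne_zero hx.symm, hx⟩

theorem smul_le (c : k) (x : K) : P.1 (c • x) ≤ P.1 x := by
  rw [Algebra.smul_def, map_mul]
  exact (mul_le_mul_left (P.2.1 c) _).trans_eq (one_mul _)

theorem ext_of_le (h : ∀ x : K, P.1 x ≤ 1 → Q.1 x ≤ 1) : P = Q := by
  obtain ⟨t, ht0, ht⟩ := exists_exp P (-1)
  have hz : ∀ z : K, z ≠ 0 → P.1 z = 1 → Q.1 z = 1 := by
    intro z hz h1
    refine le_antisymm (h z h1.le) ?_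
    have := h z⁻¹ (by rw [map_inv₀, h1, inv_one])
    rw [map_inv₀] at this
    exact (inv_le_one₀ (zero_lt_iff.2 (v_ne_zero Q hz))).1 this
  have hQ : ∀ z : K, z ≠ 0 → Q.1 z = Q.1 t ^ P.ord z := by
    intro z hz0
    have h1 := hz (z / t ^ P.ord z) (div_ne_zero hz0 (zpow_ne_zero _ ht0)) (by
      rw [map_div₀, map_zpow₀, ht, v_eq_exp P hz0, ← exp_zsmul, smul_eq_mul, mul_neg_one,
        div_self exp_ne_zero])
    rw [map_div₀, map_zpow₀] at h1
    exact (div_eq_one_iff_eq (zpow_ne_zero _ (v_ne_zero Q ht0))).1 h1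
  have h2 : Q.ord t = 1 := by
    obtain ⟨z, hz0, hz1⟩ := exists_exp Q (-1)
    have := hQ z hz0
    rw [hz1, v_eq_exp Q ht0, ← exp_zsmul, exp_inj, smul_eq_mul] at this
    have h' : 0 ≤ Q.ord t := (v_le_one_iff Q ht0).1 (h t (by rw [ht]; simp only [← exp_zero, exp_le_exp]; omega))
    have : P.ord z * Q.ord t = 1 := by linarith
    rcases Int.eq_one_or_neg_one_of_mul_eq_one' this with ⟨_, h''⟩ | ⟨_, h''⟩ <;> omega
  refine Subtype.ext (Valuation.ext fun z => ?_)
  rcases eq_or_ne z 0 with rfl | hz0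
  · simp
  · rw [hQ z hz0, v_eq_exp Q ht0, h2, ← exp_zsmul, v_eq_exp P hz0, smul_eq_mul, mul_neg_one]

theorem exists_le_lt (h : P ≠ Q) : ∃ x : K, P.1 x ≤ 1 ∧ 1 < Q.1 x := by
  by_contra hc
  push_neg at hc
  exact h (ext_of_le P Q hc)

end

theorem exists_pow_mul_le {a : WithZero (Multiplicative ℤ)} (ha : a < 1)
    (c : WithZero (Multiplicative ℤ)) (b : ℤ) : ∃ r₀ : ℕ, ∀ r ≥ r₀, a ^ r * c ≤ exp b := by
  refine ⟨(log c - b).toNat, fun r hr => ?_⟩
  rcases eq_or_ne c 0 with rfl | hc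
  · simp
  calc a ^ r * c ≤ exp (-1) ^ r * exp (log c) := by
        rw [exp_log hc]; exact mul_le_mul_left (pow_le_pow_left₀ zero_le' ((lt_one_iff_le a).1 ha) r) _
    _ ≤ exp b := by
        rw [← exp_nsmul, ← exp_add, exp_le_exp, smul_neg, nsmul_eq_mul, mul_one]; omega

theorem exists_pow_mul_le_finset {ι : Type*} (S : Finset ι) (a c : ι → WithZero (Multiplicative ℤ))
    (b : ι → ℤ) (ha : ∀ i ∈ S, a i < 1) :
    ∃ r₀ : ℕ, ∀ r ≥ r₀, ∀ i ∈ S, a i ^ r * c i ≤ exp (b i) := by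
  classical
  choose f hf using fun i : S => exists_pow_mul_le (ha i i.2) (c i) (b i)
  exact ⟨univ.sup f, fun r hr i hi => hf ⟨i, hi⟩ r ((Finset.le_sup (mem_univ _)).trans hr)⟩

theorem exists_gt_lt (P : Place k K) (S : Finset (Place k K)) (hP : P ∉ S) :
    ∃ z : K, 1 < P.1 z ∧ ∀ Q ∈ S, Q.1 z < 1 := by
  classical
  induction S using Finset.induction with
  | empty =>
    obtain ⟨z, -, hz⟩ := exists_exp P 1
    exact ⟨z, by rw [hz]; simp only [← exp_zero, exp_lt_exp]; omega, by simp⟩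
  | insert R S hR ih =>
    rw [mem_insert, not_or] at hP
    obtain ⟨z, hz, hzS⟩ := ih hP.2
    obtain ⟨y₁, h1, h1'⟩ := exists_le_lt P R hP.1
    obtain ⟨y₂, h2, h2'⟩ := exists_le_lt R P (Ne.symm hP.1)
    obtain ⟨y, hyP, hyR⟩ : ∃ y, 1 < P.1 y ∧ R.1 y < 1 := by
      have hy1 : y₁ ≠ 0 := by rintro rfl; rw [map_zero] at h1'; exact not_lt_zero' h1'
      refine ⟨y₂ / y₁, ?_, ?_⟩
      · rw [map_div₀, one_lt_div₀ (zero_lt_iff.2 (v_ne_zero P hy1))]
        exact h1.trans_lt h2'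
      · rw [map_div₀, div_lt_one₀ (zero_lt_iff.2 (v_ne_zero R hy1))]
        exact h2.trans_lt h1'
    rcases lt_trichotomy (R.1 z) 1 with hl | he | hg
    · exact ⟨z, hz, fun Q hQ => by rcases mem_insert.1 hQ with rfl | hQ; exacts [hl, hzS Q hQ]⟩
    · obtain ⟨r, hr⟩ := exists_pow_mul_le_finset S (fun Q => Q.1 z) (fun Q => Q.1 y) (fun _ => -1) hzS
      refine ⟨z ^ r * y, ?_, fun Q hQ => ?_⟩
      · rw [map_mul, map_pow]
        exact hyP.trans_le (le_mul_of_one_le_left zero_le' (one_le_pow₀ hz.le))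
      · rcases mem_insert.1 hQ with rfl | hQ
        · rwa [map_mul, map_pow, he, one_pow, one_mul]
        · rw [map_mul, map_pow, lt_one_iff_le]; exact hr r le_rfl Q hQ
    · obtain ⟨r, hr⟩ := exists_pow_mul_le_finset S (fun Q => Q.1 z) (fun Q => Q.1 y) (fun _ => -1) hzS
      have big : ∀ T : Place k K, 1 < T.1 z → T.1 (z ^ (r + 1) / (1 + z ^ (r + 1))) = 1 := by
        intro T hT
        have h1 : T.1 1 < T.1 (z ^ (r + 1)) := by
          rw [map_one, map_pow]; exact one_lt_pow₀ hT (by omega)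
        rw [map_div₀, Valuation.map_add_eq_of_lt_right _ h1, div_self (fun h => by rw [h] at h1; exact not_lt_zero' h1)]
      refine ⟨z ^ (r + 1) / (1 + z ^ (r + 1)) * y, ?_, fun Q hQ => ?_⟩
      · rwa [map_mul, big P hz, one_mul]
      · rcases mem_insert.1 hQ with rfl | hQ
        · rwa [map_mul, big _ hg, one_mul]
        · have h1 : Q.1 (1 + z ^ (r + 1)) = 1 :=
            Valuation.map_one_add_of_lt _ (by rw [map_pow]; exact pow_lt_one₀ zero_le' (hzS Q hQ) (by omega))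
          rw [map_mul, map_div₀, h1, div_one, map_pow, lt_one_iff_le]
          exact hr (r + 1) (by omega) Q hQ

theorem exists_one_close (P : Place k K) (S : Finset (Place k K)) (hP : P ∉ S) (m : ℤ) :
    ∃ e : K, P.1 (e - 1) ≤ exp (-m) ∧ ∀ Q ∈ S, Q.1 e ≤ exp (-m) := by
  obtain ⟨z, hz, hzS⟩ := exists_gt_lt P S hP
  obtain ⟨r₁, hr₁⟩ := exists_pow_mul_le_finset S (fun Q => Q.1 z) (fun _ => 1) (fun _ => -m) hzS
  obtain ⟨r₂, hr₂⟩ := exists_pow_mul_le (a := (P.1 z)⁻¹) (inv_lt_one_of_one_lt₀ hz) 1 (-m)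
  set r := r₁ + r₂ + 1
  have hne : P.1 1 < P.1 (z ^ r) := by rw [map_one, map_pow]; exact one_lt_pow₀ hz (by omega)
  have hP' : P.1 (1 + z ^ r) = P.1 z ^ r := by
    rw [Valuation.map_add_eq_of_lt_right _ hne, map_pow]
  have h0 : (1 + z ^ r) ≠ 0 := by
    intro h; rw [h, map_zero] at hP'; rw [map_pow, ← hP', map_one] at hne; exact not_lt_zero' hne
  refine ⟨z ^ r / (1 + z ^ r), ?_, fun Q hQ => ?_⟩
  · have : z ^ r / (1 + z ^ r) - 1 = -(1 / (1 + z ^ r)) := by field_simp; ring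
    rw [this, Valuation.map_neg, map_div₀, map_one, hP', one_div, ← inv_pow]
    simpa using hr₂ r (by omega)
  · have h1 : Q.1 (1 + z ^ r) = 1 :=
      Valuation.map_one_add_of_lt _ (by rw [map_pow]; exact pow_lt_one₀ zero_le' (hzS Q hQ) (by omega))
    rw [map_div₀, h1, div_one, map_pow]
    simpa using hr₁ r (by omega) Q hQ

/-- Weak approximation. -/
theorem approx (S : Finset (Place k K)) (x : Place k K → K) (b : Place k K → ℤ) :
    ∃ y : K, ∀ P ∈ S, P.1 (y - x P) ≤ exp (b P) := by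
  classical
  set g : Place k K × Place k K → ℤ := fun p => log (p.1.1 (x p.2)) - b p.1
  obtain ⟨m, hm⟩ : ∃ m : ℕ, ∀ p ∈ S ×ˢ S, g p ≤ m :=
    ⟨(S ×ˢ S).sup fun p => (g p).toNat, fun p hp =>
      (Int.self_le_toNat _).trans (Int.ofNat_le.2 (Finset.le_sup (f := fun p => (g p).toNat) hp))⟩
  choose e he he' using fun P : Place k K => exists_one_close P (S.erase P) (notMem_erase P S) m
  refine ⟨∑ Q ∈ S, x Q * e Q, fun P hP => ?_⟩
  have hsum : (∑ Q ∈ S, x Q * e Q) - x P = x P * (e P - 1) + ∑ Q ∈ S.erase P, x Q * e Q := by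
    rw [← add_sum_erase S _ hP]; ring
  rw [hsum]
  have key : ∀ Q ∈ S, ∀ u : K, P.1 u ≤ exp (-(m : ℤ)) → P.1 (x Q * u) ≤ exp (b P) := by
    intro Q hQ u hu
    rcases eq_or_ne (x Q) 0 with h | h
    · simp [h]
    rw [map_mul]
    calc P.1 (x Q) * P.1 u ≤ exp (log (P.1 (x Q))) * exp (-(m : ℤ)) := by
          rw [exp_log (v_ne_zero P h)]; exact mul_le_mul_right hu _
      _ ≤ exp (b P) := by
          rw [← exp_add, exp_le_exp]
          have := hm (P, Q) (mem_product.2 ⟨hP, hQ⟩)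
          simp only [g] at this
          omega
  refine (Valuation.map_add _ _ _).trans (max_le (key P hP _ (he P)) ?_)
  refine Valuation.map_sum_le _ fun Q hQ => ?_
  exact key Q (mem_of_mem_erase hQ) _ (he' Q P (mem_erase.2 ⟨(ne_of_mem_erase hQ).symm, hP⟩))

/-- Weak approximation with prescribed exact values. -/
theorem approx_eq (S : Finset (Place k K)) (x : Place k K → K) (b : Place k K → ℤ) :
    ∃ y : K, ∀ P ∈ S, P.1 (y - x P) = exp (b P) := by
  choose z _ hz using fun P : Place k K => exists_exp P (b P)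
  obtain ⟨y, hy⟩ := approx S (fun P => x P + z P) (fun P => b P - 1)
  refine ⟨y, fun P hP => ?_⟩
  have hlt : P.1 (y - (x P + z P)) < P.1 (z P) := by rw [hz P, lt_exp_iff]; exact hy P hP
  rw [show y - x P = (y - (x P + z P)) + z P by ring, Valuation.map_add_eq_of_lt_right _ hlt, hz P]

end Groth.Agent.FunFldLib
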