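import Groth.Agent.FunFldLib.Embedding
import Groth.Agent.FunFldLib.Extra
import Mathlib.RingTheory.Valuation.LocalSubring
import Mathlib.RingTheory.Polynomial.IsIntegral
import Mathlib.FieldTheory.Minpoly.IsIntegrallyClosed
import Mathlib.FieldTheory.IntermediateField.Adjoin.Algebra

/-! Genus of plane models. -/

set_option autoImplicit false

open WithZero Polynomial

namespace Groth.Agent.FunFldLib

open FunFld

variable {k K : Type*} [Field k] [Field K] [Algebra k K]

theorem exists_exact_in [IsAlgClosed k] {E : Divisor k K} (V : Submodule k K) (hV : V ≤ FunFld.L E)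
    (s : Finset (Place k K)) (h : ∀ Q ∈ s, ∃ x ∈ V, x ∉ FunFld.L (E - Finsupp.single Q 1)) :
    ∃ x ∈ V, ∀ Q ∈ s, x ∉ FunFld.L (E - Finsupp.single Q 1) := by
  classical
  induction s using Finset.induction_on with
  | empty => exact ⟨0, zero_mem _, by simp⟩
  | insert a s ha ih =>
    obtain ⟨x, hx, hxs⟩ := ih fun Q hQ => h Q (Finset.mem_insert_of_mem hQ)
    obtain ⟨y, hy, hya⟩ := h a (Finset.mem_insert_self a s)
    by_contra hcon
    push Not at hcon
    have hc : ∀ c : k, ∃ Q ∈ insert a s, x + c • y ∈ FunFld.L (E - Finsupp.single Q 1) := fun c =>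
      hcon _ (add_mem hx (Submodule.smul_mem _ c hy))
    choose Q hQ hQm using hc
    have hinj : Function.Injective Q := fun c c' e => by
      by_contra hne
      have h1 := sub_mem (hQm c) (e ▸ hQm c')
      rw [add_sub_add_left_eq_sub, ← sub_smul, Submodule.smul_mem_iff _ (sub_ne_zero.2 hne)] at h1
      have h2 := sub_mem (hQm c) (Submodule.smul_mem _ c h1)
      rw [add_sub_cancel_right] at h2
      rcases Finset.mem_insert.1 (hQ c) with hca | hcs
      · rw [hca] at h1; exact hya h1
      · exact hxs _ hcs h2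
    have : Finite k := Finite.of_injective (fun c => (⟨Q c, hQ c⟩ : ↥(insert a s)))
      fun c c' e => hinj (congrArg Subtype.val e)
    exact not_finite k

theorem mapDiv_plane (hK : IsFunctionField k K) (x y : K) (P : Place k K) :
    FunFld.mapDiv k ![(1 : K), x, y] P = max (max 0 (-P.ord x)) (-P.ord y) := by
  classical
  set f : Place k K → ℤ := fun P => -Finset.univ.inf' Finset.univ_nonempty (fun i => P.ord (![(1 : K), x, y] i))
  have hf : ∀ P, f P = max (max 0 (-P.ord x)) (-P.ord y) := fun P => by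
    have hu : (Finset.univ : Finset (Fin 3)) = {0, 1, 2} := by decide
    simp only [f, hu]
    rw [Finset.inf'_insert (Finset.insert_nonempty _ _), Finset.inf'_insert (Finset.singleton_nonempty _)]
    simp [ord_one]
    omega
  have hfin : (Function.support f).Finite := by
    refine ((finite_ord_support hK.1 x).union (finite_ord_support hK.1 y)).subset fun Q hQ => ?_
    by_contra h
    simp only [Set.mem_union, not_or] at h
    obtain ⟨h1, h2⟩ := h
    refine hQ ?_
    show f Q = 0
    rw [hf]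
    simp_all [Function.mem_support]
  have e : FunFld.mapDiv k ![(1 : K), x, y] = Finsupp.ofSupportFinite f hfin := by
    rw [FunFld.mapDiv, dif_pos hfin]
  rw [e, Finsupp.ofSupportFinite_coe, hf]

theorem span_le_adjoin3 (u w : K) {z : K} (hz : z ∈ Submodule.span k ({1, u, w} : Set K)) :
    z ∈ Algebra.adjoin k ({u, w} : Set K) := by
  refine (Submodule.span_le (p := Subalgebra.toSubmodule (Algebra.adjoin k ({u, w} : Set K)))).2 ?_ hz
  rintro t (rfl | rfl | rfl)
  · exact Subalgebra.one_mem _
  · exact Algebra.subset_adjoin (by simp)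
  · exact Algebra.subset_adjoin (by simp)

/-- a good projection of a plane model -/
structure Proj (D : Divisor k K) (x y u w : K) : Prop where
  tr : Transcendental k u
  gen : IntermediateField.adjoin k ({u, w} : Set K) = ⊤
  deg : (degX k u : ℤ) = D.deg
  uL : u ∈ FunFld.L D
  wL : w ∈ FunFld.L D
  exact' : ∀ P : Place k K, D P ≠ 0 → P.1 u = exp (D P)
  xspan : x ∈ Submodule.span k ({1, u, w} : Set K)
  yspan : y ∈ Submodule.span k ({1, u, w} : Set K)
  umem : u ∈ Algebra.adjoin k ({x, y} : Set K)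
  wmem : w ∈ Algebra.adjoin k ({x, y} : Set K)

theorem exists_proj [IsAlgClosed k] (hK : IsFunctionField k K) (x y : K)
    (hxy : IntermediateField.adjoin k ({x, y} : Set K) = ⊤) :
    ∃ u w, Proj (FunFld.mapDiv k ![(1 : K), x, y]) x y u w := by
  classical
  set D := FunFld.mapDiv k ![(1 : K), x, y] with hD
  have hDP := mapDiv_plane hK x y
  have hone : (1 : K) ∈ FunFld.L D := fun P => by
    rw [map_one, ← exp_zero, exp_le_exp, hDP]; omega
  have hL : ∀ z ∈ ({x, y} : Set K), z ∈ FunFld.L D := by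
    intro z hz P
    rcases eq_or_ne z 0 with rfl | h0
    · simp
    rw [v_le_exp_iff P h0, hDP]
    rcases hz with rfl | rfl <;> omega
  set V := Submodule.span k (Set.range ![(1 : K), x, y]) with hV
  have hVL : V ≤ FunFld.L D := Submodule.span_le.2 (Set.range_subset_iff.2 fun i => by
    fin_cases i
    · exact hone
    · exact hL x (by simp)
    · exact hL y (by simp))
  have hD0 : 0 ≤ D := fun P => by rw [hDP]; exact (le_max_left (0 : ℤ) _).trans (le_max_left _ _)
  obtain ⟨u, huV, hu⟩ := exists_exact_in V hVL D.support (fun Q hQ => by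
    have hQ0 := Finsupp.mem_support_iff.1 hQ
    rw [hDP] at hQ0
    have : ∀ z : K, z ∈ V → D Q = -Q.ord z → ∃ x ∈ V, x ∉ FunFld.L (D - Finsupp.single Q 1) := fun z hz hzQ => by
      refine ⟨z, hz, fun hmem => ?_⟩
      have hz0 : z ≠ 0 := fun h => by
        subst h
        have h00 : Q.ord (0 : K) = 0 := by simp [Place.ord]
        rw [hDP] at hzQ
        omega
      have := (mem_L_ord hz0 _).1 hmem Q
      simp at this
      omega
    by_cases hc : -Q.ord y ≤ max 0 (-Q.ord x)
    · exact this x (Submodule.subset_span ⟨1, rfl⟩) (by rw [hDP]; omega)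
    · exact this y (Submodule.subset_span ⟨2, rfl⟩) (by rw [hDP]; omega))
  have hex : ∀ P : Place k K, D P ≠ 0 → P.1 u = exp (D P) := fun P hP => by
    obtain ⟨hu0, hord⟩ := ord_eq_of_exact hK (hVL huV) (hu P (Finsupp.mem_support_iff.2 hP))
    rw [v_eq_exp P hu0, hord, neg_neg]
  obtain ⟨x0, hx0t, -⟩ := hK.1
  have hDne : D ≠ 0 := by
    intro h0
    have hmem : ∀ z ∈ ({x, y} : Set K), z ∈ Set.range (algebraMap k K) := fun z hz => by
      have hz' := hL z hz
      rw [h0, L_zero hK, Submodule.one_eq_range] at hz'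
      obtain ⟨c, hc⟩ := hz'
      exact ⟨c, by simpa [Algebra.linearMap_apply] using hc⟩
    have hbot : IntermediateField.adjoin k ({x, y} : Set K) ≤ ⊥ :=
      IntermediateField.adjoin_le_iff.2 fun z hz => IntermediateField.mem_bot.2 (hmem z hz)
    rw [hxy] at hbot
    obtain ⟨c, hc⟩ := IntermediateField.mem_bot.1 (hbot (IntermediateField.mem_top (x := x0)))
    exact hx0t (hc ▸ isAlgebraic_algebraMap c)
  obtain ⟨Q₀, hQ₀⟩ : ∃ Q, D Q ≠ 0 := by
    by_contra h
    push Not at h
    exact hDne (Finsupp.ext h)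
  have hut : Transcendental k u := transcendental_of_not_mem hK (by
    rintro ⟨c, rfl⟩
    have h1 := hex Q₀ hQ₀
    rcases eq_or_ne c 0 with rfl | hc
    · rw [map_zero, map_zero] at h1; exact exp_ne_zero h1.symm
    · rw [v_algebraMap Q₀ hc, ← exp_zero, exp_inj] at h1
      exact hQ₀ h1.symm)
  have hu0 : u ≠ 0 := fun h => hut (h ▸ isAlgebraic_zero)
  have hdeg : (degX k u : ℤ) = D.deg := by
    rw [← deg_poles_eq hK.1 hut]
    congr 1
    refine Finsupp.ext fun Q => ?_
    simp only [Finsupp.sup_apply, Finsupp.neg_apply, div_apply hK.1, Finsupp.coe_zero, Pi.zero_apply]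
    have := (mem_L_ord hu0 D).1 (hVL huV) Q
    have h0 : 0 ≤ D Q := hD0 Q
    by_cases hQ : D Q = 0
    · omega
    · have h1 := hex Q hQ
      rw [v_eq_exp Q hu0, exp_inj] at h1
      omega
  obtain ⟨c, hc⟩ := (Submodule.mem_span_range_iff_exists_fun k).1 huV
  simp only [Fin.sum_univ_three, Matrix.cons_val_zero, Matrix.cons_val_one, Matrix.cons_val_two, Matrix.head_cons,
    Matrix.tail_cons] at hc
  have huxy : u ∈ Algebra.adjoin k ({x, y} : Set K) := by
    rw [← hc]
    exact add_mem (add_mem (Subalgebra.smul_mem _ (one_mem _) _)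
      (Subalgebra.smul_mem _ (Algebra.subset_adjoin (by simp)) _))
      (Subalgebra.smul_mem _ (Algebra.subset_adjoin (by simp)) _)
  have finish : ∀ w : K, w ∈ ({x, y} : Set K) → x ∈ Submodule.span k ({1, u, w} : Set K) →
      y ∈ Submodule.span k ({1, u, w} : Set K) → Proj D x y u w := by
    intro w hw hx' hy'
    refine ⟨hut, ?_, hdeg, hVL huV, hL w hw, hex, hx', hy', huxy, Algebra.subset_adjoin hw⟩
    rw [eq_top_iff, ← hxy, IntermediateField.adjoin_le_iff]
    intro z hz
    refine IntermediateField.algebra_adjoin_le_adjoin k _ (span_le_adjoin3 u w ?_)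
    rcases hz with rfl | rfl
    · exact hx'
    · exact hy'
  by_cases hc2 : c 2 = 0
  · refine ⟨u, y, finish y (by simp) ?_ (Submodule.subset_span (by simp))⟩
    have hc1 : c 1 ≠ 0 := fun h1 => by
      rw [hc2, h1, zero_smul, zero_smul, add_zero, add_zero] at hc
      exact hut (hc ▸ (Algebra.smul_def (c 0) (1 : K)).symm ▸ (mul_one (algebraMap k K (c 0))).symm ▸ isAlgebraic_algebraMap (c 0))
    have e : x = (c 1)⁻¹ • u - ((c 1)⁻¹ * c 0) • (1 : K) := by
      rw [← hc, hc2, zero_smul, add_zero, smul_add, smul_smul, smul_smul, inv_mul_cancel₀ hc1, one_smul,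
        add_sub_cancel_left]
    rw [e]
    exact sub_mem (Submodule.smul_mem _ _ (Submodule.subset_span (by simp))) (Submodule.smul_mem _ _ (Submodule.subset_span (by simp)))
  · refine ⟨u, x, finish x (by simp) (Submodule.subset_span (by simp)) ?_⟩
    have e : y = (c 2)⁻¹ • u - ((c 2)⁻¹ * c 0) • (1 : K) - ((c 2)⁻¹ * c 1) • x := by
      rw [← hc, smul_add, smul_add, smul_smul, smul_smul, smul_smul, inv_mul_cancel₀ hc2, one_smul]
      abel
    rw [e]
    exact sub_mem (sub_mem (Submodule.smul_mem _ _ (Submodule.subset_span (by simp)))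
      (Submodule.smul_mem _ _ (Submodule.subset_span (by simp)))) (Submodule.smul_mem _ _ (Submodule.subset_span (by simp)))

section Basis

variable {u w : K}

theorem natDegree_minpoly (hK : IsFunctionField k K) (hut : Transcendental k u)
    (hgen : IntermediateField.adjoin k ({u, w} : Set K) = ⊤) :
    (minpoly (IntermediateField.adjoin k ({u} : Set K)) w).natDegree = degX k u := by
  have := finite_over hK.1 hut
  have hint : IsIntegral (IntermediateField.adjoin k ({u} : Set K)) w := IsIntegral.of_finite _ w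
  rw [← IntermediateField.adjoin.finrank hint, degX]
  have htop : IntermediateField.adjoin (IntermediateField.adjoin k ({u} : Set K)) ({w} : Set K) = ⊤ := by
    apply IntermediateField.restrictScalars_injective k
    rw [IntermediateField.adjoin_adjoin_left, IntermediateField.restrictScalars_top, Set.singleton_union, hgen]
  rw [htop, IntermediateField.finrank_top']

theorem indep_pows (hK : IsFunctionField k K) (hut : Transcendental k u)
    (hgen : IntermediateField.adjoin k ({u, w} : Set K) = ⊤) (a : Fin (degX k u) → k[X])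
    (h : ∑ j, aeval u (a j) * w ^ (j : ℕ) = 0) (j : Fin (degX k u)) : a j = 0 := by
  have := finite_over hK.1 hut
  have hli := linearIndependent_pow (K := IntermediateField.adjoin k ({u} : Set K)) w
  rw [natDegree_minpoly hK hut hgen] at hli
  let co : Fin (degX k u) → IntermediateField.adjoin k ({u} : Set K) := fun j =>
    ⟨aeval u (a j), IntermediateField.algebra_adjoin_le_adjoin k _ (aeval_mem_adjoin_singleton k u)⟩
  have h0 := Fintype.linearIndependent_iff.1 hli co (by simpa [co, Algebra.smul_def] using h) j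
  exact (transcendental_iff.1 hut) _ (congrArg Subtype.val h0)

theorem isIntegral_of_regular (hK : IsFunctionField k K)
    (hreg : ∀ P : Place k K, P.1 u ≤ 1 → P.1 w ≤ 1) :
    IsIntegral (Algebra.adjoin k ({u} : Set K)) w := by
  set A := Algebra.adjoin k ({u} : Set K) with hA
  have hw : w ∈ (integralClosure (Subring.closure (A : Set K)) K).toSubring := by
    rw [← iInf_valuationSubring_superset, Subring.mem_iInf]
    rintro ⟨V, hV⟩
    have hAV : ∀ c : k, algebraMap k K c ∈ V := fun c => hV (Subalgebra.algebraMap_mem A c)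
    by_cases htop : ∃ z : K, z ≠ 0 ∧ V.valuation z < 1
    · obtain ⟨P, hP⟩ := exists_place hK.1 V hAV htop
      exact (hP w).1 (hreg P ((hP u).2 (hV (Algebra.subset_adjoin rfl))))
    · push Not at htop
      rcases eq_or_ne w 0 with rfl | hw0
      · exact zero_mem _
      · rcases V.mem_or_inv_mem w with h | h
        · exact h
        · have h1 := (V.valuation_le_one_iff _).2 h
          have h2 := htop _ (inv_ne_zero hw0)
          have h3 : V.valuation w⁻¹ = 1 := le_antisymm h1 h2
          rw [map_inv₀, inv_eq_one] at h3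
          exact (V.valuation_le_one_iff _).1 h3.le
  obtain ⟨p, hp, hp0⟩ := hw
  have hle : Subring.closure (A : Set K) ≤ A.toSubring := Subring.closure_le.2 fun z hz => hz
  refine ⟨p.map (Subring.inclusion hle : _ →+* A), hp.map _, ?_⟩
  rw [Polynomial.eval₂_map]
  exact hp0

theorem mem_span_pows (hK : IsFunctionField k K) (hut : Transcendental k u)
    (hgen : IntermediateField.adjoin k ({u, w} : Set K) = ⊤)
    (hreg : ∀ P : Place k K, P.1 u ≤ 1 → P.1 w ≤ 1) {f : K} (hf : f ∈ Algebra.adjoin k ({u, w} : Set K)) :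
    ∃ a : Fin (degX k u) → k[X], f = ∑ j, aeval u (a j) * w ^ (j : ℕ) := by
  classical
  set A := Algebra.adjoin k ({u} : Set K) with hA
  open IntermediateField.algebraAdjoinAdjoin in
  have hdeg : (minpoly A w).natDegree = degX k u := by
    have hint := isIntegral_of_regular hK hreg
    have : IsIntegrallyClosed A := by
      have e : k[X] ≃ₐ[k] A :=
        (AlgEquiv.ofInjective (aeval u) (transcendental_iff_injective.1 hut)).trans
          (Subalgebra.equivOfEq _ _ (Algebra.adjoin_singleton_eq_range_aeval k u).symm)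
      exact IsIntegrallyClosed.of_equiv e.toRingEquiv
    rw [← natDegree_minpoly hK hut hgen,
      minpoly.isIntegrallyClosed_eq_field_fractions' (IntermediateField.adjoin k ({u} : Set K)) hint,
      (minpoly.monic hint).natDegree_map]
  have hint := isIntegral_of_regular hK hreg
  have hf' : f ∈ Algebra.adjoin A ({w} : Set K) := by
    have : Algebra.adjoin k ({u, w} : Set K) ≤ (Algebra.adjoin A ({w} : Set K)).restrictScalars k := by
      rw [Algebra.adjoin_le_iff]
      rintro z (rfl | rfl)
      · exact Subalgebra.algebraMap_mem (Algebra.adjoin A ({w} : Set K)) (⟨_, Algebra.subset_adjoin rfl⟩ : A)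
      · exact Algebra.subset_adjoin (Set.mem_singleton _)
    exact this hf
  rw [Algebra.adjoin_singleton_eq_range_aeval] at hf'
  obtain ⟨p, rfl⟩ := hf'
  have hr : (p %ₘ minpoly A w).natDegree < degX k u ∨ p %ₘ minpoly A w = 0 := by
    rcases eq_or_ne (p %ₘ minpoly A w) 0 with h0 | h0
    · exact Or.inr h0
    · exact Or.inl (hdeg ▸ natDegree_lt_natDegree h0 (degree_modByMonic_lt p (minpoly.monic hint)))
  have hco : ∀ j : ℕ, ∃ a : k[X], ((p %ₘ minpoly A w).coeff j : K) = aeval u a := fun j => by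
    generalize (p %ₘ minpoly A w).coeff j = c
    obtain ⟨c, hc⟩ := c
    rw [hA, Algebra.adjoin_singleton_eq_range_aeval] at hc
    obtain ⟨a, ha⟩ := hc
    exact ⟨a, ha.symm⟩
  choose a ha using hco
  refine ⟨fun j => a j, ?_⟩
  show aeval w p = _
  rw [← aeval_modByMonic_eq_self_of_root (p := p) (minpoly.aeval A w)]
  rcases hr with hr | hr
  · rw [aeval_eq_sum_range' hr, Fin.sum_univ_eq_sum_range (fun j => aeval u (a j) * w ^ j)]
    exact Finset.sum_congr rfl fun j _ => by rw [← ha]; rfl
  · rw [hr, map_zero]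
    symm
    exact Finset.sum_eq_zero fun j _ => by rw [← ha, hr, coeff_zero]; simp

end Basis

/-- the monomials below the degree -/
abbrev MonIdx (d n : ℕ) : Type := Σ j : Fin d, Fin (n + 1 - (j : ℕ))

theorem two_card_monIdx (d n : ℕ) (h : d ≤ n + 1) :
    2 * (Fintype.card (MonIdx d n) : ℤ) = 2 * d * (n + 1) - d * (d - 1) := by
  rw [Fintype.card_sigma]
  simp only [Fintype.card_fin]
  rw [Fin.sum_univ_eq_sum_range (fun j => n + 1 - j)]
  induction d with
  | zero => simp
  | succ d ih =>
    rw [Finset.sum_range_succ]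
    have ih' := ih (by omega)
    push_cast [show d ≤ n + 1 by omega] at ih' ⊢
    linarith

variable {x y u w : K} {D : Divisor k K}

theorem mon_mem (hp : Proj D x y u w) (hD : 0 ≤ D) (n i j : ℕ) (h : i + j ≤ n) :
    u ^ i * w ^ j ∈ FunFld.L (n • D) := by
  intro P
  rw [map_mul, map_pow, map_pow, Finsupp.smul_apply]
  calc P.1 u ^ i * P.1 w ^ j ≤ exp (D P) ^ i * exp (D P) ^ j :=
        mul_le_mul' (pow_le_pow_left' (hp.uL P) _) (pow_le_pow_left' (hp.wL P) _)
    _ ≤ exp (n • D P) := by
        rw [← pow_add, ← exp_nsmul, exp_le_exp]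
        exact nsmul_le_nsmul_left (hD P) h

theorem indep_mon (hK : IsFunctionField k K) (hp : Proj D x y u w) (n : ℕ) :
    LinearIndependent k (fun q : MonIdx (degX k u) n => u ^ (q.2 : ℕ) * w ^ (q.1 : ℕ)) := by
  classical
  rw [Fintype.linearIndependent_iff]
  intro c hc q
  have h := indep_pows hK hp.tr hp.gen (fun j => ∑ i : Fin (n + 1 - (j : ℕ)), C (c ⟨j, i⟩) * X ^ (i : ℕ)) (by
    rw [← hc, Fintype.sum_sigma]
    refine Finset.sum_congr rfl fun j _ => ?_
    rw [map_sum, Finset.sum_mul]
    refine Finset.sum_congr rfl fun i _ => ?_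
    simp [Algebra.smul_def, mul_assoc]) q.1
  have h2 := congrArg (fun p : k[X] => p.coeff (q.2 : ℕ)) h
  simpa [coeff_X_pow, Fin.val_inj, Finset.sum_ite_eq] using h2

theorem genus_le [IsAlgClosed k] (hK : IsFunctionField k K) (hp : Proj D x y u w) (hD : 0 ≤ D) :
    2 * (genus k K : ℤ) ≤ (D.deg - 1) * (D.deg - 2) := by
  set d := degX k u with hd
  have hdpos : 0 < d := by
    have := finite_over hK.1 hp.tr
    exact Module.finrank_pos
  set n := 2 * genus k K + d with hn
  have hdeg : ((n • D).deg : ℤ) = n * d := by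
    rw [show (n • D).deg = n * D.deg from by
      induction n with
      | zero => simp [deg_zero]
      | succ m ih => rw [add_smul, one_smul, deg_add, ih]; push_cast; ring, ← hp.deg]
  have hbig : (2 * (genus k K : ℤ)) - 1 ≤ (n • D).deg := by
    rw [hdeg]
    have : (n : ℤ) * 1 ≤ n * d := mul_le_mul_of_nonneg_left (by exact_mod_cast hdpos) (by positivity)
    push_cast [hn] at this ⊢
    linarith
  have hell := ell_eq_of_large hK (D := n • D) hbig
  have := finite_L hK.1 (n • D)
  have hle : Fintype.card (MonIdx d n) ≤ ell (n • D) :=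
    (linearIndependent_subtype_mem_aux (indep_mon hK hp n) fun q => mon_mem hp hD n _ _ (by
      have := q.2.2; omega))
  have h2 := two_card_monIdx d n (by omega)
  have h3 : (Fintype.card (MonIdx d n) : ℤ) ≤ ell (n • D) := by exact_mod_cast hle
  rw [hdeg] at hell
  rw [← hp.deg]
  nlinarith [h2, h3, hell]
where
  linearIndependent_subtype_mem_aux {ι : Type} [Fintype ι] {v : ι → K} {W : Submodule k K} [FiniteDimensional k W]
      (hv : LinearIndependent k v) (hW : ∀ i, v i ∈ W) : Fintype.card ι ≤ Module.finrank k W :=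
    (hv.of_comp W.subtype (v := fun i => (⟨v i, hW i⟩ : W))).fintype_card_le_finrank

/-- the finite part of a chart is the coordinate ring -/
theorem mem_adjoin_of_loc (hK : IsFunctionField k K) (A : Subalgebra k K) (U : Place k K → Prop)
    (hU : ∀ P : Place k K, (∀ a ∈ A, P.1 a ≤ 1) → U P) {f : K}
    (hne : ∃ P : Place k K, U P)
    (hloc : ∀ P : Place k K, U P → ∃ a ∈ A, ∃ b ∈ A, P.1 b = 1 ∧ f * b = a) : f ∈ A := by
  classical
  let I : Ideal A :=
    { carrier := {a : A | (a : K) * f ∈ A}
      zero_mem' := by simp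
      add_mem' := fun {a b} ha hb => by
        show ((a : K) + b) * f ∈ A
        rw [add_mul]; exact add_mem ha hb
      smul_mem' := fun c {a} ha => by
        show ((c : K) * a) * f ∈ A
        rw [mul_assoc]; exact mul_mem c.2 ha }
  by_contra hf
  obtain ⟨P₀, hP₀⟩ := hne
  obtain ⟨a₀, ha₀, b₀, hb₀, hb₀1, he₀⟩ := hloc P₀ hP₀
  have hI : I ≠ ⊤ := fun h => hf (by
    have h1 : (1 : A) ∈ I := h ▸ trivial
    have h2 : (1 : K) * f ∈ A := h1
    rwa [one_mul] at h2)
  obtain ⟨O, hAO, hIO⟩ := Ideal.image_subset_nonunits_valuationSubring (A := A.toSubring) I hI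
  have hb₀I : (⟨b₀, hb₀⟩ : A) ∈ I := by
    show b₀ * f ∈ A
    rwa [mul_comm, he₀]
  have hb₀0 : b₀ ≠ 0 := fun h => by rw [h, map_zero] at hb₀1; exact zero_ne_one hb₀1
  obtain ⟨P, hP⟩ := exists_place hK.1 O (fun c => hAO (Subalgebra.algebraMap_mem A c))
    ⟨b₀, hb₀0, hIO ⟨⟨b₀, hb₀⟩, hb₀I, rfl⟩⟩
  obtain ⟨a, ha, b, hb, hb1, he⟩ := hloc P (hU P fun z hz => (hP z).2 (hAO hz))
  have hbI : (⟨b, hb⟩ : A) ∈ I := by
    show b * f ∈ A
    rwa [mul_comm, he]
  have hlt : O.valuation b < 1 := hIO ⟨⟨b, hb⟩, hbI, rfl⟩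
  have hinv : b⁻¹ ∈ O := (hP _).1 (by rw [map_inv₀, hb1, inv_one])
  have hb0 : b ≠ 0 := fun h => by rw [h, map_zero] at hb1; exact zero_ne_one hb1
  rw [← O.valuation_le_one_iff, map_inv₀, inv_le_one₀ (zero_lt_iff.2 ((Valuation.ne_zero_iff _).2 hb0))] at hinv
  exact absurd hlt (not_lt.2 hinv)

/-- transfer of the nonsingularity condition to a chart -/
theorem loc_of_nonsingular {ι : Type*} (φ : ι → K) (P : Place k K) (A : Subalgebra k K) (s : K) (hs : s ≠ 0)
    (hA : ∀ i, φ i / s ∈ A) (hv : ∀ i, P.1 (φ i / s) ≤ 1) (hunit : ∃ i, P.1 (φ i / s) = 1)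
    (hns : IsNonsingularAt φ P) (z : K) (hz : P.1 z ≤ 1) : ∃ a ∈ A, ∃ b ∈ A, P.1 b = 1 ∧ z * b = a := by
  obtain ⟨j, hj0, hjmax, u', hu', w', hw', hw1, he⟩ := hns z hz
  have hsj : P.1 (φ j / s) = 1 := by
    obtain ⟨i, hi⟩ := hunit
    refine le_antisymm (hv j) (hi.ge.trans ?_)
    rw [map_div₀, map_div₀]
    exact div_le_div_of_nonneg_right (hjmax i) zero_le
  let S : Subalgebra k K :=
    { carrier := {t | ∃ a ∈ A, ∃ b ∈ A, P.1 b = 1 ∧ t * b = a}
      mul_mem' := by
        rintro t t' ⟨a, ha, b, hb, hb1, hab⟩ ⟨a', ha', b', hb', hb1', hab'⟩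
        exact ⟨a * a', mul_mem ha ha', b * b', mul_mem hb hb', by rw [map_mul, hb1, hb1', one_mul],
          by rw [← hab, ← hab']; ring⟩
      add_mem' := by
        rintro t t' ⟨a, ha, b, hb, hb1, hab⟩ ⟨a', ha', b', hb', hb1', hab'⟩
        exact ⟨a * b' + a' * b, add_mem (mul_mem ha hb') (mul_mem ha' hb), b * b', mul_mem hb hb',
          by rw [map_mul, hb1, hb1', one_mul], by rw [← hab, ← hab']; ring⟩
      algebraMap_mem' := fun c => ⟨_, Subalgebra.algebraMap_mem A c, 1, one_mem A, map_one _, mul_one _⟩ }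
  have hle : Algebra.adjoin k (Set.range fun i => φ i / φ j) ≤ S := by
    rw [Algebra.adjoin_le_iff]
    rintro _ ⟨i, rfl⟩
    exact ⟨φ i / s, hA i, φ j / s, hA j, hsj, by field_simp⟩
  obtain ⟨a1, ha1, b1, hb1, hv1, he1⟩ := hle hw'
  obtain ⟨a2, ha2, b2, hb2, hv2, he2⟩ := hle hu'
  refine ⟨a2 * b1, mul_mem ha2 hb1, a1 * b2, mul_mem ha1 hb2, ?_, ?_⟩
  · rw [map_mul, hv2, ← he1, map_mul, hw1, hv1, one_mul, one_mul]
  · rw [← he1, ← he2, ← he]; ring

theorem mem_span_mon [IsAlgClosed k] (hK : IsFunctionField k K) (hp : Proj D x y u w) (hD : 0 ≤ D)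
    (hDxy : D = FunFld.mapDiv k ![(1 : K), x, y]) (hns : ∀ P : Place k K, IsNonsingularAt ![(1 : K), x, y] P) (n : ℕ) {f : K}
    (hf : f ∈ FunFld.L (n • D)) :
    f ∈ Submodule.span k (Set.range fun q : MonIdx (degX k u) n => u ^ (q.2 : ℕ) * w ^ (q.1 : ℕ)) := by
  classical
  have hu0 : u ≠ 0 := fun h => hp.tr (h ▸ isAlgebraic_zero)
  have hufin : ∀ P : Place k K, P.1 u ≤ 1 ↔ D P = 0 := fun P => by
    refine ⟨fun h => ?_, fun h => (hp.uL P).trans (by rw [h, exp_zero])⟩
    by_contra hne
    rw [hp.exact' P hne, ← exp_zero, exp_le_exp] at h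
    have h0 : 0 ≤ D P := hD P
    omega
  have hugeq : ∀ P : Place k K, 1 ≤ P.1 u → P.1 u = exp (D P) := fun P h => by
    by_cases h0 : D P = 0
    · rw [h0, exp_zero]; exact le_antisymm ((hufin P).2 h0) h
    · exact hp.exact' P h0
  have hwu : ∀ P : Place k K, 1 ≤ P.1 u → P.1 (w / u) ≤ 1 := fun P h => by
    rw [map_div₀, div_le_one₀ (zero_lt_iff.2 (v_ne_zero P hu0)), hugeq P h]
    exact hp.wL P
  have hregA : ∀ P : Place k K, P.1 u ≤ 1 → P.1 w ≤ 1 := fun P h =>
    (hp.wL P).trans (by rw [(hufin P).1 h, exp_zero])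
  have hvt : Transcendental k u⁻¹ := transcendental_inv hK.1 hp.tr
  have hgen' : IntermediateField.adjoin k ({u⁻¹, w / u} : Set K) = ⊤ := by
    rw [eq_top_iff, ← hp.gen, IntermediateField.adjoin_le_iff]
    have h1 : u⁻¹ ∈ IntermediateField.adjoin k ({u⁻¹, w / u} : Set K) :=
      IntermediateField.subset_adjoin k _ (by simp)
    have h2 : w / u ∈ IntermediateField.adjoin k ({u⁻¹, w / u} : Set K) :=
      IntermediateField.subset_adjoin k _ (by simp)
    rintro z (rfl | rfl)
    · simpa using inv_mem h1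
    · have := mul_mem h2 (inv_mem h1)
      rwa [inv_inv, div_mul_cancel₀ _ hu0] at this
  have hregB : ∀ P : Place k K, P.1 u⁻¹ ≤ 1 → P.1 (w / u) ≤ 1 := fun P h => by
    rw [map_inv₀, inv_le_one₀ (zero_lt_iff.2 (v_ne_zero P hu0))] at h
    exact hwu P h
  have hvals : ∀ (P : Place k K) (i : Fin 3), P.1 (![(1 : K), x, y] i) ≤ exp (D P) := fun P i => by
    have hord : -P.ord (![(1 : K), x, y] i) ≤ D P := by
      rw [hDxy, mapDiv_plane hK]
      fin_cases i <;> simp [ord_one] <;> omega
    rcases eq_or_ne (![(1 : K), x, y] i) 0 with h | h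
    · rw [h]; simp
    · rw [v_le_exp_iff P h]; omega
  -- the chart at infinity
  set A' := Algebra.adjoin k ({u⁻¹, w / u} : Set K) with hA'
  have hA'mem : ∀ {t : K}, t ∈ Submodule.span k ({1, u, w} : Set K) → t / u ∈ A' := by
    intro t ht
    induction ht using Submodule.span_induction with
    | mem z hz =>
      rcases hz with rfl | rfl | rfl
      · rw [one_div]; exact Algebra.subset_adjoin (by simp)
      · rw [div_self hu0]; exact one_mem _
      · exact Algebra.subset_adjoin (by simp)
    | zero => rw [zero_div]; exact zero_mem _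
    | add a b _ _ ha hb => rw [add_div]; exact add_mem ha hb
    | smul c a _ ha => rw [smul_div_assoc]; exact Subalgebra.smul_mem _ ha c
  have hmemA : f ∈ Algebra.adjoin k ({u, w} : Set K) := by
    obtain ⟨P₁, hP₁⟩ := exists_zero hK.1 hp.tr
    refine mem_adjoin_of_loc hK _ (fun P => P.1 u ≤ 1)
      (fun P h => h u (Algebra.subset_adjoin (by simp))) ⟨P₁, hP₁.le⟩ fun P hP => ?_
    refine loc_of_nonsingular ![(1 : K), x, y] P _ 1 one_ne_zero (fun i => ?_) (fun i => ?_) ⟨0, by simp⟩ (hns P) f ?_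
    · rw [div_one]
      fin_cases i
      · exact one_mem _
      · exact span_le_adjoin3 u w hp.xspan
      · exact span_le_adjoin3 u w hp.yspan
    · rw [div_one]
      exact (hvals P i).trans (by rw [(hufin P).1 hP, exp_zero])
    · exact (hf P).trans (by rw [Finsupp.smul_apply, (hufin P).1 hP, smul_zero, exp_zero])
  have hlin : ∀ i : Fin 3, ![(1 : K), x, y] i ∈ Algebra.adjoin k ({u, w} : Set K) := fun i => by
    fin_cases i
    · exact one_mem _
    · exact span_le_adjoin3 u w hp.xspan
    · exact span_le_adjoin3 u w hp.yspan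
  have hspan3 : ∀ i : Fin 3, ![(1 : K), x, y] i / u ∈ A' := fun i => by
    refine hA'mem ?_
    fin_cases i
    · exact Submodule.subset_span (by simp)
    · exact hp.xspan
    · exact hp.yspan
  have hmemB : f / u ^ n ∈ A' := by
    obtain ⟨P₁, hP₁⟩ := exists_zero hK.1 hvt
    refine mem_adjoin_of_loc hK _ (fun P => 1 ≤ P.1 u) (fun P h => ?_) ⟨P₁, ?_⟩ fun P hP => ?_
    · have := h u⁻¹ (Algebra.subset_adjoin (by simp))
      rwa [map_inv₀, inv_le_one₀ (zero_lt_iff.2 (v_ne_zero P hu0))] at this
    · have := hP₁.le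
      rwa [map_inv₀, inv_le_one₀ (zero_lt_iff.2 (v_ne_zero P₁ hu0))] at this
    · refine loc_of_nonsingular ![(1 : K), x, y] P _ u hu0 hspan3 (fun i => ?_) ?_ (hns P) _ ?_
      · rw [map_div₀, div_le_one₀ (zero_lt_iff.2 (v_ne_zero P hu0)), hugeq P hP]
        exact hvals P i
      · obtain ⟨i, hi⟩ : ∃ i : Fin 3, P.1 (![(1 : K), x, y] i) = exp (D P) := by
          rw [hDxy, mapDiv_plane hK]
          have hne : ∀ z : K, 0 < -P.ord z → P.1 z = exp (-P.ord z) := fun z hz => by
            refine v_eq_exp P fun h => ?_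
            subst h
            simp [Place.ord] at hz
          by_cases h1 : max 0 (-P.ord x) < -P.ord y
          · exact ⟨2, by rw [max_eq_right h1.le]; exact hne y (by omega)⟩
          · rw [max_eq_left (not_lt.1 h1)]
            by_cases h2 : 0 < -P.ord x
            · exact ⟨1, by rw [max_eq_right h2.le]; exact hne x h2⟩
            · exact ⟨0, by rw [max_eq_left (not_lt.1 h2), exp_zero]; exact map_one _⟩
        exact ⟨i, by rw [map_div₀, hugeq P hP, hi, div_self exp_ne_zero]⟩
      · rw [map_div₀, map_pow, div_le_one₀ (pow_pos (zero_lt_iff.2 (v_ne_zero P hu0)) n), hugeq P hP, ← exp_nsmul]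
        exact hf P
  set d := degX k u with hd
  obtain ⟨a, ha⟩ := mem_span_pows hK hp.tr hp.gen hregA hmemA
  obtain ⟨b, hb⟩ := mem_span_pows hK hvt hgen' hregB hmemB
  have hdv : degX k u⁻¹ = d := degX_inv u
  obtain ⟨b', hb'⟩ : ∃ b' : Fin d → k[X], f / u ^ n = ∑ j, aeval u⁻¹ (b' j) * (w / u) ^ (j : ℕ) := by
    have key : ∀ m, m = d → ∀ c : Fin m → k[X], f / u ^ n = ∑ j, aeval u⁻¹ (c j) * (w / u) ^ (j : ℕ) →
        ∃ b' : Fin d → k[X], f / u ^ n = ∑ j, aeval u⁻¹ (b' j) * (w / u) ^ (j : ℕ) := by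
      rintro m rfl c hc; exact ⟨c, hc⟩
    exact key _ hdv b hb
  set N := (Finset.univ.sup fun j => (b' j).natDegree) + d with hN
  let R : Fin d → k[X] := fun j =>
    ∑ i ∈ Finset.range ((b' j).natDegree + 1), C ((b' j).coeff i) * X ^ (N + n - (j : ℕ) - i)
  have hNj : ∀ j : Fin d, (b' j).natDegree + (j : ℕ) ≤ N := fun j => by
    have := Finset.le_sup (f := fun j => (b' j).natDegree) (Finset.mem_univ j)
    have := j.2
    omega
  clear_value N
  have e : ∑ j, aeval u (R j - a j * X ^ N) * w ^ (j : ℕ) = 0 := by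
    simp only [map_sub, map_mul, aeval_X_pow, sub_mul, Finset.sum_sub_distrib, sub_eq_zero]
    have h1 : ∑ j, aeval u (a j) * u ^ N * w ^ (j : ℕ) = u ^ (N + n) * (f / u ^ n) := by
      rw [pow_add, mul_assoc, mul_div_cancel₀ _ (pow_ne_zero n hu0), ha, Finset.mul_sum]
      exact Finset.sum_congr rfl fun j _ => by ring
    rw [h1, hb', Finset.mul_sum]
    refine Finset.sum_congr rfl fun j _ => ?_
    rw [aeval_eq_sum_range (p := b' j), map_sum, Finset.sum_mul, Finset.sum_mul, Finset.mul_sum]
    refine Finset.sum_congr rfl fun i hi => ?_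
    rw [Finset.mem_range] at hi
    have := hNj j
    rw [map_mul, aeval_C, aeval_X_pow, Algebra.smul_def]
    conv_rhs => rw [show N + n = (N + n - (j : ℕ) - i) + (i + (j : ℕ)) by omega, pow_add, pow_add, inv_pow, div_pow]
    field_simp
  rw [ha]
  refine Submodule.sum_mem _ fun j _ => ?_
  have hj := indep_pows hK hp.tr hp.gen _ e j
  rw [sub_eq_zero] at hj
  have hdeg : a j = 0 ∨ (a j).natDegree + (j : ℕ) ≤ n := by
    rcases eq_or_ne (a j) 0 with h0 | h0
    · exact Or.inl h0
    have h1 : (R j).natDegree ≤ N + n - (j : ℕ) :=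
      Polynomial.natDegree_sum_le_of_forall_le _ _ fun i _ =>
        (natDegree_C_mul_le _ _).trans ((natDegree_X_pow_le _).trans (by omega))
    rw [hj, natDegree_mul h0 (pow_ne_zero _ X_ne_zero), natDegree_X_pow] at h1
    have := hNj j
    exact Or.inr (by omega)
  rcases hdeg with h0 | h0
  · rw [h0, map_zero, zero_mul]; exact zero_mem _
  · rw [aeval_eq_sum_range, Finset.sum_mul]
    refine Submodule.sum_mem _ fun i hi => ?_
    rw [Finset.mem_range] at hi
    rw [smul_mul_assoc]
    exact Submodule.smul_mem _ _ (Submodule.subset_span ⟨⟨j, ⟨i, by omega⟩⟩, rfl⟩)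

theorem genus_eq [IsAlgClosed k] (hK : IsFunctionField k K) (hp : Proj D x y u w) (hD : 0 ≤ D)
    (hDxy : D = FunFld.mapDiv k ![(1 : K), x, y]) (hns : ∀ P : Place k K, IsNonsingularAt ![(1 : K), x, y] P) :
    ∃ m : ℕ, 2 * genus k K = m * (m + 1) := by
  set d := degX k u with hd
  have hdpos : 0 < d := by
    have := finite_over hK.1 hp.tr
    exact Module.finrank_pos
  set n := 2 * genus k K + d with hn
  have hdeg : ((n • D).deg : ℤ) = n * d := by
    rw [show (n • D).deg = n * D.deg from by
      clear_value n; clear hn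
      induction n with
      | zero => simp [deg_zero]
      | succ m ih => rw [add_smul, one_smul, deg_add, ih]; push_cast; ring, ← hp.deg]
  have hbig : (2 * (genus k K : ℤ)) - 1 ≤ (n • D).deg := by
    rw [hdeg]
    have : (n : ℤ) * 1 ≤ n * d := mul_le_mul_of_nonneg_left (by exact_mod_cast hdpos) (by positivity)
    push_cast [hn] at this ⊢
    linarith
  have hell := ell_eq_of_large hK (D := n • D) hbig
  have := finite_L hK.1 (n • D)
  have heq : FunFld.L (n • D) =
      Submodule.span k (Set.range fun q : MonIdx d n => u ^ (q.2 : ℕ) * w ^ (q.1 : ℕ)) :=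
    le_antisymm (fun f hf => mem_span_mon hK hp hD hDxy hns n hf)
      (Submodule.span_le.2 (Set.range_subset_iff.2 fun q => mon_mem hp hD n _ _ (by have := q.2.2; omega)))
  have h3 : ell (n • D) = Fintype.card (MonIdx d n) := by
    rw [ell, heq, finrank_span_eq_card (indep_mon hK hp n)]
  have h2 := two_card_monIdx d n (by omega)
  rw [hdeg, h3] at hell
  have h4 : (2 * genus k K : ℤ) = ((d : ℤ) - 1) * ((d : ℤ) - 2) := by nlinarith [h2, hell]
  rcases Nat.lt_or_ge d 2 with h | h
  · refine ⟨0, ?_⟩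
    have : d = 1 := by omega
    rw [this] at h4
    norm_num at h4 ⊢
    omega
  · refine ⟨d - 2, ?_⟩
    have : ((2 * genus k K : ℕ) : ℤ) = (((d - 2) * (d - 2 + 1) : ℕ) : ℤ) := by
      push_cast [Nat.cast_sub h]
      linarith
    exact_mod_cast this

end Groth.Agent.FunFldLib
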