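import Groth.Agent.FunFldLib.RR
import Mathlib.Algebra.Polynomial.Basis

/-! A function field of genus at least two has at most one rational subfield of index two. -/

set_option autoImplicit false

open WithZero

namespace Groth.Agent.FunFldLib

open FunFld Polynomial

variable {k K : Type*} [Field k] [Field K] [Algebra k K]

/-- the canonical space is `f` times the polynomials of degree `< g` in `x` -/
theorem canonical_eq (hK : IsFunctionField k K) {x : K} (hx : degX k x = 2) (hxt : Transcendental k x)
    {C : Divisor k K} (hC : IsCanonical k K C) :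
    ∃ f : K, f ≠ 0 ∧ (∀ i, i < genus k K → f * x ^ i ∈ FunFld.L C) ∧
      ∀ a ∈ FunFld.L C, a / f ∈ IntermediateField.adjoin k ({x} : Set K) := by
  classical
  have hF0 : IsFF0 k K := hK.1
  have hx0 : x ≠ 0 := fun h => by subst h; exact hxt isAlgebraic_zero
  set B : Divisor k K := -FunFld.div k x ⊔ 0 with hB
  have hBd : B.deg = 2 := by rw [hB, deg_poles_eq hF0 hxt, hx]; rfl
  rcases Nat.eq_zero_or_pos (genus k K) with hg0 | hgpos
  · refine ⟨1, one_ne_zero, by omega, fun a ha => ?_⟩
    have hb : FunFld.L C = ⊥ := by
      have := finite_L hF0 C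
      exact Submodule.finrank_eq_zero.1 ((deg_canonical hK hC).1.trans hg0)
    rw [hb, Submodule.mem_bot] at ha
    rw [ha, zero_div]; exact zero_mem _
  set m := genus k K - 1 with hm
  let v : Fin (genus k K) → K := fun i => x ^ (i : ℕ)
  have hv : LinearIndependent k v := by
    have hp : LinearIndependent k fun i : ℕ => x ^ i := by
      have h1 := (Polynomial.basisMonomials k).linearIndependent.map' (Polynomial.aeval x).toLinearMap
        (LinearMap.ker_eq_bot.2 (transcendental_iff_injective.1 hxt))
      simpa [Function.comp_def] using h1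
    exact hp.comp _ Fin.val_injective
  have hmem : ∀ i, i < genus k K → x ^ i ∈ FunFld.L ((m : ℤ) • B) := fun i hi => by
    refine (mem_L_iff hF0 (pow_ne_zero _ hx0) _).2 fun P => ?_
    simp only [hB, Finsupp.coe_zero, Pi.zero_apply, Finsupp.add_apply, Finsupp.smul_apply, smul_eq_mul,
      Finsupp.sup_apply, Finsupp.coe_neg, Pi.neg_apply, div_apply hF0, ord_pow P hx0]
    have hi' : (i : ℤ) ≤ m := by omega
    rcases le_total (P.ord x) 0 with h | h
    · rw [max_eq_left (by omega)]; nlinarith
    · rw [max_eq_right (by omega)]; positivity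
  have hfin := finite_L hF0 ((m : ℤ) • B)
  have hge : genus k K ≤ ell ((m : ℤ) • B) := by
    have h1 := Submodule.finrank_mono (s := Submodule.span k (Set.range v)) (t := FunFld.L ((m : ℤ) • B))
      (Submodule.span_le.2 (Set.range_subset_iff.2 fun i => hmem i i.2))
    rwa [finrank_span_eq_card hv, Fintype.card_fin] at h1
  have hdeg : ((m : ℤ) • B).deg = (m : ℤ) * 2 := by
    have hz : ∀ j : ℕ, ((j : ℤ) • B).deg = (j : ℤ) * 2 := fun j => by
      induction j with
      | zero => simp [deg_zero]
      | succ j ih => rw [show ((j + 1 : ℕ) : ℤ) • B = (j : ℤ) • B + B by rw [Nat.cast_succ, add_smul, one_smul],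
          deg_add, ih, hBd]; push_cast; ring
    exact hz m
  have hrr := riemann_roch hK hC ((m : ℤ) • B)
  obtain ⟨f, hf0, hf⟩ := exists_mem_L hF0 (D := C - (m : ℤ) • B) (by rw [hdeg] at hrr; omega)
  have hshift : ∀ i, i < genus k K → f * x ^ i ∈ FunFld.L C := fun i hi => by
    refine (L_shift hF0 C hf0 _).2 fun P => ((hmem i hi) P).trans (exp_le_exp.2 ?_)
    have h1 := hf P
    simp only [Finsupp.coe_zero, Pi.zero_apply, Finsupp.add_apply, Finsupp.sub_apply, div_apply hF0] at h1
    simp only [Finsupp.add_apply, div_apply hF0]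
    omega
  refine ⟨f, hf0, hshift, ?_⟩
  have hfC := finite_L hF0 C
  let w : Fin (genus k K) → K := fun i => f * v i
  have hw : LinearIndependent k w :=
    hv.map' (LinearMap.mulLeft k f) (LinearMap.ker_eq_bot.2 fun a b h => mul_left_cancel₀ hf0 h)
  have hspan : Submodule.span k (Set.range w) = FunFld.L C := by
    refine Submodule.eq_of_le_of_finrank_le (Submodule.span_le.2 (Set.range_subset_iff.2 fun i => hshift i i.2)) ?_
    rw [finrank_span_eq_card hw, Fintype.card_fin]
    exact (deg_canonical hK hC).1.le
  intro a ha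
  rw [← hspan] at ha
  induction ha using Submodule.span_induction with
  | mem y hy =>
    obtain ⟨i, rfl⟩ := hy
    show f * x ^ (i : ℕ) / f ∈ _
    rw [mul_div_cancel_left₀ _ hf0]
    exact pow_mem (IntermediateField.mem_adjoin_simple_self k x) _
  | zero => rw [zero_div]; exact zero_mem _
  | add a b _ _ ha hb => rw [add_div]; exact add_mem ha hb
  | smul c a _ ha => rw [smul_div_assoc]; exact IntermediateField.smul_mem _ ha

/-- the rational subfield of index two is unique in genus at least two -/
theorem quad_sub_unique (hK : IsFunctionField k K) (hg : 2 ≤ genus k K) {x x' : K} (hx : degX k x = 2)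
    (hx' : degX k x' = 2) :
    IntermediateField.adjoin k ({x} : Set K) = IntermediateField.adjoin k ({x'} : Set K) := by
  have htr : ∀ y : K, degX k y = 2 → Transcendental k y := fun y hy halg => by
    obtain ⟨c, rfl⟩ := hK.2 y halg
    obtain ⟨z, hz, hzf⟩ := hK.1
    have hbot : IntermediateField.adjoin k ({algebraMap k K c} : Set K) = ⊥ :=
      IntermediateField.adjoin_simple_eq_bot_iff.2 (IntermediateField.algebraMap_mem _ c)
    rw [degX, hbot, IntermediateField.finrank_bot'] at hy
    have : FiniteDimensional k K := FiniteDimensional.of_finrank_pos (by omega)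
    exact hz (Algebra.IsAlgebraic.isAlgebraic z)
  have hle : ∀ {u u' : K}, degX k u = 2 → degX k u' = 2 →
      IntermediateField.adjoin k ({u} : Set K) ≤ IntermediateField.adjoin k ({u'} : Set K) := by
    intro u u' hu hu'
    obtain ⟨C, hC⟩ := exists_canonical hK
    obtain ⟨f, hf0, hf, -⟩ := canonical_eq hK hu (htr u hu) hC
    obtain ⟨f', hf0', -, hf'⟩ := canonical_eq hK hu' (htr u' hu') hC
    rw [IntermediateField.adjoin_simple_le_iff]
    have h := div_mem (hf' _ (hf 1 (by omega))) (hf' _ (hf 0 (by omega)))
    have e : f * u ^ 1 / f' / (f * u ^ 0 / f') = u := by field_simp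
    rwa [e] at h
  exact le_antisymm (hle hx hx') (hle hx' hx)

end Groth.Agent.FunFldLib
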