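import Groth.Agent.FunFldLib.Riemann
import Mathlib.Data.Int.LeastGreatest

set_option autoImplicit false

open WithZero Finset

namespace Groth.Agent.FunFldLib

open FunFld

variable {k K : Type*} [Field k] [Field K] [Algebra k K]

theorem mem_adele_smul (hK : IsFunctionField k K) (x : K) :
    ∀ a ∈ adele k K, x • a ∈ adele k K := fun a ha => by
  have hx : (fun _ : Place k K => x) ∈ adele k K := range_diag_le_adele hK ⟨x, rfl⟩
  rw [mem_adele] at ha hx ⊢
  refine (ha.union hx).subset fun P hP => ?_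
  by_contra hc
  rw [Set.mem_union, not_or] at hc
  apply hP
  simp only [Set.mem_ofPred_eq, not_not] at hc
  show P.1 ((x • a) P) ≤ 1
  rw [Pi.smul_apply, smul_eq_mul, map_mul]
  exact mul_le_one' hc.2 hc.1

theorem mulW_apply (x : K) (hx : ∀ a ∈ adele k K, x • a ∈ adele k K)
    (ω : Module.Dual k (adele k K)) (a : adele k K) :
    mulW x hx ω a = ω ⟨x • a.1, hx a.1 a.2⟩ := rfl

theorem mem_WD {D : Divisor k K} {ω : Module.Dual k (adele k K)} :
    ω ∈ WD D ↔ ∀ a : adele k K, a.1 ∈ AD D ⊔ LinearMap.range (diag k K) → ω a = 0 :=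
  Submodule.mem_dualAnnihilator _

theorem WD_anti {D E : Divisor k K} (h : D ≤ E) : WD E ≤ WD D := fun ω hω =>
  mem_WD.2 fun a ha => mem_WD.1 hω a (sup_le_sup_right (AD_mono h) _ ha)

theorem WD_sup {D E : Divisor k K} {ω : Module.Dual k (adele k K)} (hD : ω ∈ WD D) (hE : ω ∈ WD E) :
    ω ∈ WD (D ⊔ E) := mem_WD.2 fun a ha => by
  rw [AD_sup, Submodule.mem_sup] at ha
  obtain ⟨b, hb, c, hc, e⟩ := ha
  obtain ⟨b₁, hb₁, b₂, hb₂, rfl⟩ := Submodule.mem_sup.1 hb
  have hb₁' : b₁ ∈ adele k K := AD_le_adele D hb₁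
  have hbc : b₂ + c ∈ adele k K := by
    have : b₂ + c = a.1 - b₁ := by rw [← e]; abel
    rw [this]; exact sub_mem a.2 hb₁'
  have ha' : a = ⟨b₁, hb₁'⟩ + ⟨b₂ + c, hbc⟩ := Subtype.ext (by
    show a.1 = b₁ + (b₂ + c)
    rw [← e]; abel)
  rw [ha', map_add, mem_WD.1 hD ⟨b₁, hb₁'⟩ (Submodule.mem_sup_left hb₁),
    mem_WD.1 hE ⟨b₂ + c, hbc⟩ (add_mem (Submodule.mem_sup_left hb₂) (Submodule.mem_sup_right hc)),
    add_zero]

theorem mulW_mem_WD {C D : Divisor k K} {x : K} (hxD : x ∈ FunFld.L D)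
    (hx : ∀ a ∈ adele k K, x • a ∈ adele k K) {ω : Module.Dual k (adele k K)} (hω : ω ∈ WD C) :
    mulW x hx ω ∈ WD (C - D) := by
  refine mem_WD.2 fun a ha => ?_
  rw [mulW_apply]
  refine mem_WD.1 hω _ ?_
  obtain ⟨b, hb, c, ⟨y, rfl⟩, e⟩ := Submodule.mem_sup.1 ha
  show x • a.1 ∈ _
  rw [← e, smul_add]
  refine add_mem (Submodule.mem_sup_left fun P => ?_) (Submodule.mem_sup_right ⟨x * y, rfl⟩)
  rw [Pi.smul_apply, smul_eq_mul, map_mul]
  refine (mul_le_mul' (hxD P) (hb P)).trans_eq ?_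
  rw [← exp_add, Finsupp.sub_apply]; congr 1; ring

theorem mulW_mulW (x y : K) (hx : ∀ a ∈ adele k K, x • a ∈ adele k K)
    (hy : ∀ a ∈ adele k K, y • a ∈ adele k K) (hxy : ∀ a ∈ adele k K, (x * y) • a ∈ adele k K)
    (ω : Module.Dual k (adele k K)) : mulW x hx (mulW y hy ω) = mulW (x * y) hxy ω := by
  ext a
  simp only [mulW_apply]
  exact congrArg ω (Subtype.ext (by
    show y • (x • a.1) = (x * y) • a.1
    rw [smul_smul, mul_comm]))

theorem mulW_one (h : ∀ a ∈ adele k K, (1 : K) • a ∈ adele k K) (ω : Module.Dual k (adele k K)) :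
    mulW 1 h ω = ω := by
  ext a
  simp only [mulW_apply]
  exact congrArg ω (Subtype.ext (one_smul _ _))

theorem mulW_congr {x y : K} (e : x = y) (hx : ∀ a ∈ adele k K, x • a ∈ adele k K)
    (hy : ∀ a ∈ adele k K, y • a ∈ adele k K) (ω : Module.Dual k (adele k K)) :
    mulW x hx ω = mulW y hy ω := by subst e; rfl

/-- `x ↦ x ω` as a linear map. -/
def mulWLin (hK : IsFunctionField k K) (ω : Module.Dual k (adele k K)) :
    K →ₗ[k] Module.Dual k (adele k K) where
  toFun x := mulW x (mem_adele_smul hK x) ω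
  map_add' x y := by
    ext a
    simp only [LinearMap.add_apply, mulW_apply, ← map_add]
    exact congrArg ω (Subtype.ext (add_smul x y _))
  map_smul' c x := by
    ext a
    simp only [RingHom.id_apply, LinearMap.smul_apply, mulW_apply, ← map_smul]
    exact congrArg ω (Subtype.ext (smul_assoc c x _))

theorem mulWLin_apply (hK : IsFunctionField k K) (ω : Module.Dual k (adele k K)) (x : K) :
    mulWLin hK ω x = mulW x (mem_adele_smul hK x) ω := rfl

theorem mulWLin_inv (hK : IsFunctionField k K) (ω : Module.Dual k (adele k K)) {x : K} (hx : x ≠ 0) :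
    mulWLin hK (mulWLin hK ω x) x⁻¹ = ω := by
  simp only [mulWLin_apply]
  rw [mulW_mulW x⁻¹ x _ _ (mem_adele_smul hK _),
    mulW_congr (inv_mul_cancel₀ hx) _ (mem_adele_smul hK 1), mulW_one]

theorem mulWLin_injective (hK : IsFunctionField k K) {ω : Module.Dual k (adele k K)} (h0 : ω ≠ 0) :
    Function.Injective (mulWLin hK ω) := by
  rw [injective_iff_map_eq_zero]
  intro x hx
  by_contra hne
  apply h0
  rw [← mulWLin_inv hK ω hne, hx]
  ext a; rfl

theorem mem_L_neg_div (hK : IsFunctionField k K) (x : K) : x ∈ FunFld.L (-FunFld.div k x) := fun P => by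
  rcases eq_or_ne x 0 with rfl | hx
  · simp
  · rw [v_eq_exp_div hK hx, Finsupp.neg_apply]

theorem mulW_mem_WD_iff (hK : IsFunctionField k K) {x : K} (hx0 : x ≠ 0)
    (hx : ∀ a ∈ adele k K, x • a ∈ adele k K) (ω : Module.Dual k (adele k K)) (E : Divisor k K) :
    mulW x hx ω ∈ WD E ↔ ω ∈ WD (E - FunFld.div k x) := by
  constructor
  · intro h
    have h1 := mulW_mem_WD (mem_L_neg_div hK x⁻¹) (mem_adele_smul hK x⁻¹) h
    rw [div_inv hK, neg_neg, mulW_congr (rfl : x⁻¹ = x⁻¹) _ (mem_adele_smul hK x⁻¹),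
      mulW_mulW x⁻¹ x _ _ (mem_adele_smul hK _),
      mulW_congr (inv_mul_cancel₀ hx0) _ (mem_adele_smul hK 1), mulW_one] at h1
    exact h1
  · intro h
    have h1 := mulW_mem_WD (mem_L_neg_div hK x) hx h
    rwa [sub_neg_eq_add, sub_add_cancel] at h1

theorem exists_isDivOf (hK : IsFunctionField k K) {ω : Module.Dual k (adele k K)} (hω : IsWeil ω)
    (h0 : ω ≠ 0) : ∃ C : Divisor k K, IsDivOf ω C := by
  obtain ⟨N, hN⟩ := exists_large hK
  have hdeg : ∀ D : Divisor k K, ω ∈ WD D → D.deg ≤ N := by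
    intro D hD
    by_contra hlt
    obtain ⟨h1, h2⟩ := finrank_WD hK D
    rw [hN D (by omega), sub_self] at h2
    have h3 : WD D = ⊥ := Submodule.finrank_eq_zero.1 (by exact_mod_cast h2)
    rw [h3, Submodule.mem_bot] at hD
    exact h0 hD
  obtain ⟨m, hm, hmax⟩ := Int.exists_greatest_of_bdd (P := fun n => ∃ D : Divisor k K, ω ∈ WD D ∧ D.deg = n)
    ⟨N, by rintro n ⟨D, hD, rfl⟩; exact hdeg D hD⟩ (by obtain ⟨D, hD⟩ := hω; exact ⟨_, D, hD, rfl⟩)
  obtain ⟨C, hC, rfl⟩ := hm
  refine ⟨C, fun E => ⟨fun hE => ?_, fun hE => WD_anti hE hC⟩⟩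
  have h1 := hmax _ ⟨C ⊔ E, WD_sup hC hE, rfl⟩
  have h2 := deg_mono_aux (deg_pos hK) (le_sup_left : C ≤ C ⊔ E)
  exact le_sup_right.trans_eq (h2.2 (le_antisymm h2.1 h1)).symm

theorem ne_zero_of_isDivOf (hK : IsFunctionField k K) {ω : Module.Dual k (adele k K)} {C : Divisor k K}
    (h : IsDivOf ω C) : ω ≠ 0 := by
  rintro rfl
  classical
  obtain ⟨P⟩ := nonempty_place hK.1
  have h1 := (h (C + Finsupp.single P 1)).1 (zero_mem _) P
  simp at h1

theorem isWeil_of_isDivOf {ω : Module.Dual k (adele k K)} {C : Divisor k K}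
    (h : IsDivOf ω C) : IsWeil ω := ⟨C, (h C).2 le_rfl⟩

theorem isDivOf_mulW (hK : IsFunctionField k K) {x : K} (h0 : x ≠ 0)
    (hx : ∀ a ∈ adele k K, x • a ∈ adele k K) {ω : Module.Dual k (adele k K)} {C : Divisor k K}
    (hω : IsDivOf ω C) : IsDivOf (mulW x hx ω) (C + FunFld.div k x) := fun E => by
  rw [mulW_mem_WD_iff hK h0, hω, sub_le_iff_le_add]

theorem exists_mulW_eq (hK : IsFunctionField k K) {ω₁ ω₂ : Module.Dual k (adele k K)}
    (h₁ : IsWeil ω₁) (h₀ : ω₁ ≠ 0) (h₂ : IsWeil ω₂) : ∃ x : K, mulWLin hK ω₁ x = ω₂ := by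
  classical
  rcases eq_or_ne ω₂ 0 with rfl | h₂0
  · exact ⟨0, map_zero _⟩
  obtain ⟨D1, hD1⟩ := h₁
  obtain ⟨D2, hD2⟩ := h₂
  obtain ⟨B, hB0, hB⟩ := exists_ge_large hK (0 : Divisor k K)
    (3 * (genus k K : ℤ) + |D1.deg| + |D2.deg| + 1)
  have a1 := le_abs_self (D1.deg); have a2 := neg_abs_le (D1.deg)
  have a3 := le_abs_self (D2.deg); have a4 := neg_abs_le (D2.deg)
  have hU : ∀ (ω : Module.Dual k (adele k K)) (D : Divisor k K), ω ∈ WD D →
      (FunFld.L (D + B)).map (mulWLin hK ω) ≤ WD (-B) := by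
    rintro ω D hω _ ⟨x, hx, rfl⟩
    have := mulW_mem_WD hx (mem_adele_smul hK x) hω
    rwa [show D - (D + B) = -B by abel] at this
  obtain ⟨hfin, hdim⟩ := finrank_WD hK (-B)
  set U1 := (FunFld.L (D1 + B)).map (mulWLin hK ω₁)
  set U2 := (FunFld.L (D2 + B)).map (mulWLin hK ω₂)
  have hU1 := hU ω₁ D1 hD1
  have hU2 := hU ω₂ D2 hD2
  have : FiniteDimensional k U1 := Submodule.finiteDimensional_of_le hU1
  have : FiniteDimensional k U2 := Submodule.finiteDimensional_of_le hU2
  have e1 : Module.finrank k U1 = ell (D1 + B) :=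
    (Submodule.equivMapOfInjective _ (mulWLin_injective hK h₀) _).finrank_eq.symm
  have e2 : Module.finrank k U2 = ell (D2 + B) :=
    (Submodule.equivMapOfInjective _ (mulWLin_injective hK h₂0) _).finrank_eq.symm
  have l1 := delta_le_genus hK (D1 + B)
  have l2 := delta_le_genus hK (D2 + B)
  simp only [delta, deg_add] at l1 l2
  have hB' : ell (-B) = 0 := ell_eq_zero_of_deg_neg hK (by
    rw [deg_neg]; have := Int.natCast_nonneg (genus k K); linarith)
  simp only [delta, deg_neg, hB'] at hdim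
  have e3 := Submodule.finrank_sup_add_finrank_inf_eq U1 U2
  have e4 : Module.finrank k ↥(U1 ⊔ U2) ≤ Module.finrank k ↥(WD (-B)) :=
    Submodule.finrank_mono (sup_le hU1 hU2)
  have hne : U1 ⊓ U2 ≠ ⊥ := fun h => by
    rw [h, finrank_bot] at e3
    push_cast at hdim
    omega
  obtain ⟨w, hw, hw0⟩ := Submodule.exists_mem_ne_zero_of_ne_bot hne
  obtain ⟨⟨x1, -, hx1⟩, x2, -, hx2⟩ := hw
  have hx20 : x2 ≠ 0 := fun h => by rw [h, map_zero] at hx2; exact hw0 hx2.symm
  refine ⟨x2⁻¹ * x1, ?_⟩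
  rw [← mulWLin_inv hK ω₂ hx20, hx2, ← hx1]
  simp only [mulWLin_apply]
  rw [mulW_mulW x2⁻¹ x1 _ _ (mem_adele_smul hK _)]

theorem existsUnique_mem_WD (hK : IsFunctionField k K) {ω : Module.Dual k (adele k K)} {C : Divisor k K}
    (hω : IsDivOf ω C) (D : Divisor k K) {ω' : Module.Dual k (adele k K)} (hω' : ω' ∈ WD D) :
    ∃! x : K, x ∈ FunFld.L (C - D) ∧ mulWLin hK ω x = ω' := by
  have h0 := ne_zero_of_isDivOf hK hω
  obtain ⟨x, hx⟩ := exists_mulW_eq hK (isWeil_of_isDivOf hω) h0 ⟨D, hω'⟩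
  refine ⟨x, ⟨?_, hx⟩, fun y hy => mulWLin_injective hK h0 (hy.2.trans hx.symm)⟩
  rcases eq_or_ne x 0 with rfl | hx0
  · exact zero_mem _
  rw [mem_L_iff hK hx0]
  have h1 := (isDivOf_mulW hK hx0 (mem_adele_smul hK x) hω D).1 (by rw [← mulWLin_apply hK ω x, hx]; exact hω')
  rw [show C - D + FunFld.div k x = (C + FunFld.div k x) - D by abel]
  exact sub_nonneg.2 h1

theorem WD_eq_map (hK : IsFunctionField k K) {ω : Module.Dual k (adele k K)} {C : Divisor k K}
    (hω : IsDivOf ω C) (D : Divisor k K) :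
    (FunFld.L (C - D)).map (mulWLin hK ω) = WD D := by
  refine le_antisymm ?_ fun ω' hω' => ?_
  · rintro _ ⟨x, hx, rfl⟩
    have := mulW_mem_WD hx (mem_adele_smul hK x) ((hω C).2 le_rfl)
    rwa [sub_sub_cancel] at this
  · obtain ⟨x, hx, -⟩ := existsUnique_mem_WD hK hω D hω'
    exact ⟨x, hx.1, hx.2⟩

/-- Riemann-Roch -/
theorem riemann_roch (hK : IsFunctionField k K) {C : Divisor k K} (hC : IsCanonical k K C) (D : Divisor k K) :
    (ell D : ℤ) = D.deg + 1 - genus k K + ell (C - D) := by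
  obtain ⟨ω, h0, hω⟩ := hC
  have h1 := (finrank_WD hK D).2
  have e : Module.finrank k (FunFld.L (C - D)) = Module.finrank k (WD D) :=
    ((Submodule.equivMapOfInjective _ (mulWLin_injective hK h0) _).trans
      (LinearEquiv.ofEq _ _ (WD_eq_map hK hω D))).finrank_eq
  have e' : ell (C - D) = Module.finrank k (WD D) := e
  simp only [delta, ← e'] at h1
  omega

theorem exists_canonical (hK : IsFunctionField k K) : ∃ C : Divisor k K, IsCanonical k K C := by
  classical
  obtain ⟨P⟩ := nonempty_place hK.1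
  set D : Divisor k K := Finsupp.single P (-2)
  have hd : D.deg < -1 := by
    rw [deg_single]
    have : (1 : ℤ) ≤ P.deg := by exact_mod_cast deg_pos hK P
    linarith
  obtain ⟨hf, h⟩ := finrank_WD hK D
  simp only [delta, ell_eq_zero_of_deg_neg hK (show D.deg < 0 by omega)] at h
  have hne : WD D ≠ ⊥ := fun hb => by rw [hb] at h; simp at h; omega
  obtain ⟨ω, hω, h0⟩ := Submodule.exists_mem_ne_zero_of_ne_bot hne
  obtain ⟨C, hC⟩ := exists_isDivOf hK ⟨D, hω⟩ h0
  exact ⟨C, ω, h0, hC⟩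

theorem deg_canonical (hK : IsFunctionField k K) {C : Divisor k K} (hC : IsCanonical k K C) :
    ell C = genus k K ∧ C.deg = 2 * genus k K - 2 := by
  have h1 := riemann_roch hK hC 0
  have h2 := riemann_roch hK hC C
  rw [ell_zero hK, sub_zero, deg_zero] at h1
  rw [sub_self, ell_zero hK] at h2
  constructor <;> omega

theorem ell_eq_of_large (hK : IsFunctionField k K) {D : Divisor k K}
    (h : 2 * (genus k K : ℤ) - 1 ≤ D.deg) : (ell D : ℤ) = D.deg + 1 - genus k K := by
  obtain ⟨C, hC⟩ := exists_canonical hK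
  have h1 := riemann_roch hK hC D
  have h2 := ell_eq_zero_of_deg_neg hK (D := C - D) (by rw [deg_sub, (deg_canonical hK hC).2]; omega)
  rw [h2] at h1
  omega

/-- rational iff some element has degree one -/
theorem adjoin_eq_top_iff (x : K) : IntermediateField.adjoin k ({x} : Set K) = ⊤ ↔ degX k x = 1 := by
  rw [degX]
  constructor
  · intro h; rw [h]; exact IntermediateField.finrank_top
  · intro h; exact IntermediateField.finrank_eq_one_iff_eq_top.1 h

theorem transcendental_of_adjoin_eq_top (hK : IsFunctionField k K) {x : K}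
    (h : IntermediateField.adjoin k ({x} : Set K) = ⊤) : Transcendental k x := by
  refine transcendental_of_not_mem hK ?_
  rintro ⟨c, rfl⟩
  obtain ⟨y, hy, -⟩ := hK.1
  have hy' : y ∈ IntermediateField.adjoin k ({algebraMap k K c} : Set K) := by rw [h]; trivial
  rw [IntermediateField.adjoin_simple_eq_bot_iff.2 (IntermediateField.algebraMap_mem _ c),
    IntermediateField.mem_bot] at hy'
  obtain ⟨d, rfl⟩ := hy'
  exact hy (isAlgebraic_algebraMap d)

theorem genus_zero_of_rational (hK : IsFunctionField k K) {x : K}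
    (h : IntermediateField.adjoin k ({x} : Set K) = ⊤) :
    genus k K = 0 ∧ ∃ P : Place k K, P.deg = 1 ∧ P.ord x = -1 ∧ ∀ Q, Q ≠ P → 0 ≤ Q.ord x := by
  classical
  have hx := transcendental_of_adjoin_eq_top hK h
  have hd := (adjoin_eq_top_iff x).1 h
  obtain ⟨γ, hγ⟩ := (degX_le_deg_poles hK hx).2
  have hg : genus k K = 0 := by
    obtain ⟨D, hD⟩ := exists_delta_eq_genus hK
    have h1 := delta_le_of_poles hK hx (fun l => (hγ l).1) D
    have h2 := (hγ 0).2 hd
    omega
  refine ⟨hg, ?_⟩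
  have hB := deg_poles_eq hK hx
  rw [hd] at hB
  set B := -FunFld.div k x ⊔ 0
  have h0 : 0 ≤ B := le_sup_right
  have hc := support_le_card B h0 (deg_pos hK)
  have hne : B.support.card ≠ 0 := fun hc0 => by
    rw [Finset.card_eq_zero, Finsupp.support_eq_empty] at hc0
    rw [hc0, deg_zero] at hB
    simp at hB
  obtain ⟨P, hP⟩ := Finset.card_eq_one.1 (show B.support.card = 1 by omega)
  have hBs : B = Finsupp.single P (B P) := by
    exact (Finsupp.support_eq_singleton.1 hP).2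
  rw [hBs, deg_single] at hB
  have hBP : 0 ≤ B P := h0 P
  have e1 := Int.eq_one_of_mul_eq_one_right hBP (by exact_mod_cast hB)
  rw [e1, one_mul] at hB
  have hval : ∀ Q, max (-(Q.ord x)) 0 = (Finsupp.single P (1 : ℤ) : Divisor k K) Q := fun Q => by
    rw [← e1, ← hBs]
    simp only [B, Finsupp.sup_apply, Finsupp.neg_apply, div_apply hK.1, Finsupp.coe_zero, Pi.zero_apply]
  refine ⟨P, by exact_mod_cast hB, ?_, fun Q hQ => ?_⟩
  · have := hval P; rw [Finsupp.single_eq_same] at this; omega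
  · have := hval Q; rw [Finsupp.single_eq_of_ne hQ] at this; omega

theorem rational_of_pole (hK : IsFunctionField k K) {x : K} {P : Place k K} (hd : P.deg = 1)
    (hP : P.ord x = -1) (hQ : ∀ Q, Q ≠ P → 0 ≤ Q.ord x) :
    IntermediateField.adjoin k ({x} : Set K) = ⊤ := by
  classical
  have hx : Transcendental k x := transcendental_of_not_mem hK (by
    rintro ⟨c, rfl⟩; rw [ord_algebraMap] at hP; omega)
  have hB := deg_poles_eq hK hx
  have e : -FunFld.div k x ⊔ 0 = Finsupp.single P 1 := Finsupp.ext fun Q => by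
    simp only [Finsupp.sup_apply, Finsupp.neg_apply, div_apply hK.1, Finsupp.coe_zero, Pi.zero_apply]
    rcases eq_or_ne Q P with rfl | h
    · rw [hP]; simp
    · rw [Finsupp.single_eq_of_ne h]; exact sup_eq_right.2 (neg_nonpos.2 (hQ Q h))
  rw [e, deg_single, hd] at hB
  rw [adjoin_eq_top_iff]
  omega

theorem exists_rational_of_genus_zero (hK : IsFunctionField k K) (hg : genus k K = 0) {P : Place k K}
    (hd : P.deg = 1) : ∃ x : K, P.ord x = -1 ∧ ∀ Q, Q ≠ P → 0 ≤ Q.ord x := by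
  classical
  have h := ell_eq_of_large hK (D := Finsupp.single P 1) (by rw [deg_single, hg, hd]; simp)
  rw [deg_single, hg, hd] at h
  have hne : ¬ FunFld.L (Finsupp.single P 1 : Divisor k K) ≤ 1 := fun hle => by
    have := finite_L hK (0 : Divisor k K)
    rw [← L_zero hK] at hle
    have h2 := Submodule.finrank_mono hle
    have h3 : ell (0 : Divisor k K) = Module.finrank k (FunFld.L (0 : Divisor k K)) := rfl
    have h4 : ell (Finsupp.single P 1 : Divisor k K) = Module.finrank k (FunFld.L (Finsupp.single P 1 : Divisor k K)) := rfl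
    rw [ell_zero hK] at h3
    simp at h
    omega
  obtain ⟨x, hx, hx'⟩ := SetLike.not_le_iff_exists.1 hne
  have hxk : x ∉ Set.range (algebraMap k K) := fun h => hx' (Submodule.mem_one.2 h)
  have hx0 : x ≠ 0 := fun h => hxk ⟨0, by simp [h]⟩
  have hle := (mem_L_iff hK hx0 _).1 hx
  have hQ : ∀ Q, Q ≠ P → 0 ≤ Q.ord x := fun Q hQ => by
    have := hle Q
    simpa [div_apply hK.1, Finsupp.single_eq_of_ne hQ] using this
  refine ⟨x, ?_, hQ⟩
  obtain ⟨Q, hQ'⟩ := exists_pole hK hxk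
  have hQP : Q = P := by
    by_contra hne'
    exact absurd (hQ Q hne') (by omega)
  subst hQP
  have := hle Q
  simp [div_apply hK.1] at this
  omega

end Groth.Agent.FunFldLib
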